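/- Realises once the on-demand equation lemmas of the non-recursive Chevalley-group definitions of the Prelude. -/
import Cfsg.Agent.Eqns
import Cfsg.Prelude.Def_ChevAutomorphisms
import Cfsg.Prelude.Def_CurtisTits
import Cfsg.Prelude.Def_SteinbergCover
import Cfsg.Prelude.Def_LieTwisted
import Cfsg.Prelude.Def_LieChev
import Cfsg.Prelude.Def_ChevB2

namespace Cfsg.Lib.Chev.Eqns

theorem e1 : type_of% @Cfsg.Lie.ChevalleyDatum.Idx.eq_1 := @Cfsg.Lie.ChevalleyDatum.Idx.eq_1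
theorem e2 : type_of% @Cfsg.Lie.ChevalleyDatum.Idx.eq_def := @Cfsg.Lie.ChevalleyDatum.Idx.eq_def
theorem e3 : type_of% @Cfsg.Lie.ChevalleyDatum.Idx.eq_unfold := @Cfsg.Lie.ChevalleyDatum.Idx.eq_unfold
theorem e4 : type_of% @Cfsg.Lie.ChevalleyDatum.chainCoeff.eq_1 := @Cfsg.Lie.ChevalleyDatum.chainCoeff.eq_1
theorem e5 : type_of% @Cfsg.Lie.ChevalleyDatum.chainCoeff.eq_def := @Cfsg.Lie.ChevalleyDatum.chainCoeff.eq_def
theorem e6 : type_of% @Cfsg.Lie.ChevalleyDatum.chainCoeff.eq_unfold := @Cfsg.Lie.ChevalleyDatum.chainCoeff.eq_unfold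
theorem e7 : type_of% @Cfsg.Lie.ChevalleyDatum.group.eq_1 := @Cfsg.Lie.ChevalleyDatum.group.eq_1
theorem e8 : type_of% @Cfsg.Lie.ChevalleyDatum.group.eq_def := @Cfsg.Lie.ChevalleyDatum.group.eq_def
theorem e9 : type_of% @Cfsg.Lie.ChevalleyDatum.group.eq_unfold := @Cfsg.Lie.ChevalleyDatum.group.eq_unfold
theorem e10 : type_of% @Cfsg.Lie.ChevalleyDatum.x.eq_1 := @Cfsg.Lie.ChevalleyDatum.x.eq_1
theorem e11 : type_of% @Cfsg.Lie.ChevalleyDatum.x.eq_def := @Cfsg.Lie.ChevalleyDatum.x.eq_def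
theorem e12 : type_of% @Cfsg.Lie.ChevalleyDatum.x.eq_unfold := @Cfsg.Lie.ChevalleyDatum.x.eq_unfold
theorem e13 : type_of% @Cfsg.Lie.ChevalleyDatum.wordMat.eq_1 := @Cfsg.Lie.ChevalleyDatum.wordMat.eq_1
theorem e14 : type_of% @Cfsg.Lie.ChevalleyDatum.wordMat.eq_def := @Cfsg.Lie.ChevalleyDatum.wordMat.eq_def
theorem e15 : type_of% @Cfsg.Lie.ChevalleyDatum.wordMat.eq_unfold := @Cfsg.Lie.ChevalleyDatum.wordMat.eq_unfold
theorem e16 : type_of% @Cfsg.Lie.ChevalleyDatum.genSubgroup.eq_1 := @Cfsg.Lie.ChevalleyDatum.genSubgroup.eq_1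
theorem e17 : type_of% @Cfsg.Lie.ChevalleyDatum.genSubgroup.eq_def := @Cfsg.Lie.ChevalleyDatum.genSubgroup.eq_def
theorem e18 : type_of% @Cfsg.Lie.ChevalleyDatum.genSubgroup.eq_unfold := @Cfsg.Lie.ChevalleyDatum.genSubgroup.eq_unfold
theorem e19 : type_of% @Cfsg.Lie.ChevalleyDatum.negWord.eq_1 := @Cfsg.Lie.ChevalleyDatum.negWord.eq_1
theorem e20 : type_of% @Cfsg.Lie.ChevalleyDatum.negWord.eq_def := @Cfsg.Lie.ChevalleyDatum.negWord.eq_def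
theorem e21 : type_of% @Cfsg.Lie.ChevalleyDatum.negWord.eq_unfold := @Cfsg.Lie.ChevalleyDatum.negWord.eq_unfold
theorem e22 : type_of% @Cfsg.Lie.ChevalleyDatum.IsGroupOver.eq_1 := @Cfsg.Lie.ChevalleyDatum.IsGroupOver.eq_1
theorem e23 : type_of% @Cfsg.Lie.ChevalleyDatum.IsGroupOver.eq_def := @Cfsg.Lie.ChevalleyDatum.IsGroupOver.eq_def
theorem e24 : type_of% @Cfsg.Lie.ChevalleyDatum.IsGroupOver.eq_unfold := @Cfsg.Lie.ChevalleyDatum.IsGroupOver.eq_unfold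
theorem e25 : type_of% @Cfsg.Lie.ChevalleyDatum.IsPosRoot.eq_1 := @Cfsg.Lie.ChevalleyDatum.IsPosRoot.eq_1
theorem e26 : type_of% @Cfsg.Lie.ChevalleyDatum.IsPosRoot.eq_def := @Cfsg.Lie.ChevalleyDatum.IsPosRoot.eq_def
theorem e27 : type_of% @Cfsg.Lie.ChevalleyDatum.IsPosRoot.eq_unfold := @Cfsg.Lie.ChevalleyDatum.IsPosRoot.eq_unfold
theorem e28 : type_of% @Cfsg.Lie.ChevalleyDatum.IsNegRoot.eq_1 := @Cfsg.Lie.ChevalleyDatum.IsNegRoot.eq_1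
theorem e29 : type_of% @Cfsg.Lie.ChevalleyDatum.IsNegRoot.eq_def := @Cfsg.Lie.ChevalleyDatum.IsNegRoot.eq_def
theorem e30 : type_of% @Cfsg.Lie.ChevalleyDatum.IsNegRoot.eq_unfold := @Cfsg.Lie.ChevalleyDatum.IsNegRoot.eq_unfold
theorem e31 : type_of% @Cfsg.Lie.ChevalleyDatum.posRoots.eq_1 := @Cfsg.Lie.ChevalleyDatum.posRoots.eq_1
theorem e32 : type_of% @Cfsg.Lie.ChevalleyDatum.posRoots.eq_def := @Cfsg.Lie.ChevalleyDatum.posRoots.eq_def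
theorem e33 : type_of% @Cfsg.Lie.ChevalleyDatum.posRoots.eq_unfold := @Cfsg.Lie.ChevalleyDatum.posRoots.eq_unfold
theorem e34 : type_of% @Cfsg.Lie.ChevalleyDatum.negRoots.eq_1 := @Cfsg.Lie.ChevalleyDatum.negRoots.eq_1
theorem e35 : type_of% @Cfsg.Lie.ChevalleyDatum.negRoots.eq_def := @Cfsg.Lie.ChevalleyDatum.negRoots.eq_def
theorem e36 : type_of% @Cfsg.Lie.ChevalleyDatum.negRoots.eq_unfold := @Cfsg.Lie.ChevalleyDatum.negRoots.eq_unfold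
theorem e37 : type_of% @Cfsg.Lie.ChevalleyDatum.neg.eq_1 := @Cfsg.Lie.ChevalleyDatum.neg.eq_1
theorem e38 : type_of% @Cfsg.Lie.ChevalleyDatum.neg.eq_def := @Cfsg.Lie.ChevalleyDatum.neg.eq_def
theorem e39 : type_of% @Cfsg.Lie.ChevalleyDatum.neg.eq_unfold := @Cfsg.Lie.ChevalleyDatum.neg.eq_unfold
theorem e40 : type_of% @Cfsg.Lie.ChevalleyDatum.simple.eq_1 := @Cfsg.Lie.ChevalleyDatum.simple.eq_1
theorem e41 : type_of% @Cfsg.Lie.ChevalleyDatum.simple.eq_def := @Cfsg.Lie.ChevalleyDatum.simple.eq_def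
theorem e42 : type_of% @Cfsg.Lie.ChevalleyDatum.simple.eq_unfold := @Cfsg.Lie.ChevalleyDatum.simple.eq_unfold
theorem e43 : type_of% @Cfsg.Lie.ChevalleyDatum.cartan.eq_1 := @Cfsg.Lie.ChevalleyDatum.cartan.eq_1
theorem e44 : type_of% @Cfsg.Lie.ChevalleyDatum.cartan.eq_def := @Cfsg.Lie.ChevalleyDatum.cartan.eq_def
theorem e45 : type_of% @Cfsg.Lie.ChevalleyDatum.cartan.eq_unfold := @Cfsg.Lie.ChevalleyDatum.cartan.eq_unfold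
theorem e46 : type_of% @Cfsg.Lie.ChevalleyDatum.rootSubgroup.eq_1 := @Cfsg.Lie.ChevalleyDatum.rootSubgroup.eq_1
theorem e47 : type_of% @Cfsg.Lie.ChevalleyDatum.rootSubgroup.eq_def := @Cfsg.Lie.ChevalleyDatum.rootSubgroup.eq_def
theorem e48 : type_of% @Cfsg.Lie.ChevalleyDatum.rootSubgroup.eq_unfold := @Cfsg.Lie.ChevalleyDatum.rootSubgroup.eq_unfold
theorem e49 : type_of% @Cfsg.Lie.ChevalleyDatum.posUnipotent.eq_1 := @Cfsg.Lie.ChevalleyDatum.posUnipotent.eq_1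
theorem e50 : type_of% @Cfsg.Lie.ChevalleyDatum.posUnipotent.eq_def := @Cfsg.Lie.ChevalleyDatum.posUnipotent.eq_def
theorem e51 : type_of% @Cfsg.Lie.ChevalleyDatum.posUnipotent.eq_unfold := @Cfsg.Lie.ChevalleyDatum.posUnipotent.eq_unfold
theorem e52 : type_of% @Cfsg.Lie.ChevalleyDatum.negUnipotent.eq_1 := @Cfsg.Lie.ChevalleyDatum.negUnipotent.eq_1
theorem e53 : type_of% @Cfsg.Lie.ChevalleyDatum.negUnipotent.eq_def := @Cfsg.Lie.ChevalleyDatum.negUnipotent.eq_def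
theorem e54 : type_of% @Cfsg.Lie.ChevalleyDatum.negUnipotent.eq_unfold := @Cfsg.Lie.ChevalleyDatum.negUnipotent.eq_unfold
theorem e55 : type_of% @Cfsg.Lie.ChevalleyDatum.nWord.eq_1 := @Cfsg.Lie.ChevalleyDatum.nWord.eq_1
theorem e56 : type_of% @Cfsg.Lie.ChevalleyDatum.nWord.eq_def := @Cfsg.Lie.ChevalleyDatum.nWord.eq_def
theorem e57 : type_of% @Cfsg.Lie.ChevalleyDatum.nWord.eq_unfold := @Cfsg.Lie.ChevalleyDatum.nWord.eq_unfold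
theorem e58 : type_of% @Cfsg.Lie.ChevalleyDatum.hWord.eq_1 := @Cfsg.Lie.ChevalleyDatum.hWord.eq_1
theorem e59 : type_of% @Cfsg.Lie.ChevalleyDatum.hWord.eq_def := @Cfsg.Lie.ChevalleyDatum.hWord.eq_def
theorem e60 : type_of% @Cfsg.Lie.ChevalleyDatum.hWord.eq_unfold := @Cfsg.Lie.ChevalleyDatum.hWord.eq_unfold
theorem e61 : type_of% @Cfsg.Lie.ChevalleyDatum.nMat.eq_1 := @Cfsg.Lie.ChevalleyDatum.nMat.eq_1
theorem e62 : type_of% @Cfsg.Lie.ChevalleyDatum.nMat.eq_def := @Cfsg.Lie.ChevalleyDatum.nMat.eq_def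
theorem e63 : type_of% @Cfsg.Lie.ChevalleyDatum.nMat.eq_unfold := @Cfsg.Lie.ChevalleyDatum.nMat.eq_unfold
theorem e64 : type_of% @Cfsg.Lie.ChevalleyDatum.hMat.eq_1 := @Cfsg.Lie.ChevalleyDatum.hMat.eq_1
theorem e65 : type_of% @Cfsg.Lie.ChevalleyDatum.hMat.eq_def := @Cfsg.Lie.ChevalleyDatum.hMat.eq_def
theorem e66 : type_of% @Cfsg.Lie.ChevalleyDatum.hMat.eq_unfold := @Cfsg.Lie.ChevalleyDatum.hMat.eq_unfold
theorem e67 : type_of% @Cfsg.Lie.ChevalleyDatum.diagonalSubgroup.eq_1 := @Cfsg.Lie.ChevalleyDatum.diagonalSubgroup.eq_1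
theorem e68 : type_of% @Cfsg.Lie.ChevalleyDatum.diagonalSubgroup.eq_def := @Cfsg.Lie.ChevalleyDatum.diagonalSubgroup.eq_def
theorem e69 : type_of% @Cfsg.Lie.ChevalleyDatum.diagonalSubgroup.eq_unfold := @Cfsg.Lie.ChevalleyDatum.diagonalSubgroup.eq_unfold
theorem e70 : type_of% @Cfsg.Lie.ChevalleyDatum.monomialSubgroup.eq_1 := @Cfsg.Lie.ChevalleyDatum.monomialSubgroup.eq_1
theorem e71 : type_of% @Cfsg.Lie.ChevalleyDatum.monomialSubgroup.eq_def := @Cfsg.Lie.ChevalleyDatum.monomialSubgroup.eq_def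
theorem e72 : type_of% @Cfsg.Lie.ChevalleyDatum.monomialSubgroup.eq_unfold := @Cfsg.Lie.ChevalleyDatum.monomialSubgroup.eq_unfold
theorem e73 : type_of% @Cfsg.Lie.ChevalleyDatum.borelSubgroup.eq_1 := @Cfsg.Lie.ChevalleyDatum.borelSubgroup.eq_1
theorem e74 : type_of% @Cfsg.Lie.ChevalleyDatum.borelSubgroup.eq_def := @Cfsg.Lie.ChevalleyDatum.borelSubgroup.eq_def
theorem e75 : type_of% @Cfsg.Lie.ChevalleyDatum.borelSubgroup.eq_unfold := @Cfsg.Lie.ChevalleyDatum.borelSubgroup.eq_unfold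
theorem e76 : type_of% @Cfsg.Lie.ChevalleyDatum.chainRoot.eq_1 := @Cfsg.Lie.ChevalleyDatum.chainRoot.eq_1
theorem e77 : type_of% @Cfsg.Lie.ChevalleyDatum.chainRoot.eq_def := @Cfsg.Lie.ChevalleyDatum.chainRoot.eq_def
theorem e78 : type_of% @Cfsg.Lie.ChevalleyDatum.chainRoot.eq_unfold := @Cfsg.Lie.ChevalleyDatum.chainRoot.eq_unfold
theorem e79 : type_of% @Cfsg.Lie.ChevalleyDatum.chainM.eq_1 := @Cfsg.Lie.ChevalleyDatum.chainM.eq_1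
theorem e80 : type_of% @Cfsg.Lie.ChevalleyDatum.chainM.eq_def := @Cfsg.Lie.ChevalleyDatum.chainM.eq_def
theorem e81 : type_of% @Cfsg.Lie.ChevalleyDatum.chainM.eq_unfold := @Cfsg.Lie.ChevalleyDatum.chainM.eq_unfold
theorem e82 : type_of% @Cfsg.Lie.ChevalleyDatum.commTerms.eq_1 := @Cfsg.Lie.ChevalleyDatum.commTerms.eq_1
theorem e83 : type_of% @Cfsg.Lie.ChevalleyDatum.commTerms.eq_def := @Cfsg.Lie.ChevalleyDatum.commTerms.eq_def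
theorem e84 : type_of% @Cfsg.Lie.ChevalleyDatum.commTerms.eq_unfold := @Cfsg.Lie.ChevalleyDatum.commTerms.eq_unfold
theorem e85 : type_of% @Cfsg.Lie.ChevalleyDatum.commWord.eq_1 := @Cfsg.Lie.ChevalleyDatum.commWord.eq_1
theorem e86 : type_of% @Cfsg.Lie.ChevalleyDatum.commWord.eq_def := @Cfsg.Lie.ChevalleyDatum.commWord.eq_def
theorem e87 : type_of% @Cfsg.Lie.ChevalleyDatum.commWord.eq_unfold := @Cfsg.Lie.ChevalleyDatum.commWord.eq_unfold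
theorem e88 : type_of% @Cfsg.Lie.ChevalleyDatum.reflectRoot.eq_1 := @Cfsg.Lie.ChevalleyDatum.reflectRoot.eq_1
theorem e89 : type_of% @Cfsg.Lie.ChevalleyDatum.reflectRoot.eq_def := @Cfsg.Lie.ChevalleyDatum.reflectRoot.eq_def
theorem e90 : type_of% @Cfsg.Lie.ChevalleyDatum.reflectRoot.eq_unfold := @Cfsg.Lie.ChevalleyDatum.reflectRoot.eq_unfold
theorem e91 : type_of% @Cfsg.Lie.ChevalleyDatum.InRootSub.eq_1 := @Cfsg.Lie.ChevalleyDatum.InRootSub.eq_1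
theorem e92 : type_of% @Cfsg.Lie.ChevalleyDatum.InRootSub.eq_def := @Cfsg.Lie.ChevalleyDatum.InRootSub.eq_def
theorem e93 : type_of% @Cfsg.Lie.ChevalleyDatum.InRootSub.eq_unfold := @Cfsg.Lie.ChevalleyDatum.InRootSub.eq_unfold
theorem e94 : type_of% @Cfsg.Lie.ChevalleyDatum.parabolicSubgroup.eq_1 := @Cfsg.Lie.ChevalleyDatum.parabolicSubgroup.eq_1
theorem e95 : type_of% @Cfsg.Lie.ChevalleyDatum.parabolicSubgroup.eq_def := @Cfsg.Lie.ChevalleyDatum.parabolicSubgroup.eq_def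
theorem e96 : type_of% @Cfsg.Lie.ChevalleyDatum.parabolicSubgroup.eq_unfold := @Cfsg.Lie.ChevalleyDatum.parabolicSubgroup.eq_unfold
theorem e97 : type_of% @Cfsg.Lie.ChevalleyDatum.unipotentRadical.eq_1 := @Cfsg.Lie.ChevalleyDatum.unipotentRadical.eq_1
theorem e98 : type_of% @Cfsg.Lie.ChevalleyDatum.unipotentRadical.eq_def := @Cfsg.Lie.ChevalleyDatum.unipotentRadical.eq_def
theorem e99 : type_of% @Cfsg.Lie.ChevalleyDatum.unipotentRadical.eq_unfold := @Cfsg.Lie.ChevalleyDatum.unipotentRadical.eq_unfold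
theorem e100 : type_of% @Cfsg.Lie.ChevalleyDatum.leviSubgroup.eq_1 := @Cfsg.Lie.ChevalleyDatum.leviSubgroup.eq_1
theorem e101 : type_of% @Cfsg.Lie.ChevalleyDatum.leviSubgroup.eq_def := @Cfsg.Lie.ChevalleyDatum.leviSubgroup.eq_def
theorem e102 : type_of% @Cfsg.Lie.ChevalleyDatum.leviSubgroup.eq_unfold := @Cfsg.Lie.ChevalleyDatum.leviSubgroup.eq_unfold
theorem e103 : type_of% @Cfsg.Lie.coxeterD4.eq_1 := @Cfsg.Lie.coxeterD4.eq_1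
theorem e104 : type_of% @Cfsg.Lie.coxeterD4.eq_def := @Cfsg.Lie.coxeterD4.eq_def
theorem e105 : type_of% @Cfsg.Lie.coxeterD4.eq_unfold := @Cfsg.Lie.coxeterD4.eq_unfold
theorem e106 : type_of% @Cfsg.Lie.ChevalleyDatum.IsRootCharacter.eq_1 := @Cfsg.Lie.ChevalleyDatum.IsRootCharacter.eq_1
theorem e107 : type_of% @Cfsg.Lie.ChevalleyDatum.IsRootCharacter.eq_def := @Cfsg.Lie.ChevalleyDatum.IsRootCharacter.eq_def
theorem e108 : type_of% @Cfsg.Lie.ChevalleyDatum.IsRootCharacter.eq_unfold := @Cfsg.Lie.ChevalleyDatum.IsRootCharacter.eq_unfold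
theorem e109 : type_of% @Cfsg.Lie.ChevalleyDatum.charDiag.eq_1 := @Cfsg.Lie.ChevalleyDatum.charDiag.eq_1
theorem e110 : type_of% @Cfsg.Lie.ChevalleyDatum.charDiag.eq_def := @Cfsg.Lie.ChevalleyDatum.charDiag.eq_def
theorem e111 : type_of% @Cfsg.Lie.ChevalleyDatum.charDiag.eq_unfold := @Cfsg.Lie.ChevalleyDatum.charDiag.eq_unfold
theorem e112 : type_of% @Cfsg.Lie.ChevalleyDatum.IsDiagonalAut.eq_1 := @Cfsg.Lie.ChevalleyDatum.IsDiagonalAut.eq_1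
theorem e113 : type_of% @Cfsg.Lie.ChevalleyDatum.IsDiagonalAut.eq_def := @Cfsg.Lie.ChevalleyDatum.IsDiagonalAut.eq_def
theorem e114 : type_of% @Cfsg.Lie.ChevalleyDatum.IsDiagonalAut.eq_unfold := @Cfsg.Lie.ChevalleyDatum.IsDiagonalAut.eq_unfold
theorem e115 : type_of% @Cfsg.Lie.ChevalleyDatum.IsFieldAut.eq_1 := @Cfsg.Lie.ChevalleyDatum.IsFieldAut.eq_1
theorem e116 : type_of% @Cfsg.Lie.ChevalleyDatum.IsFieldAut.eq_def := @Cfsg.Lie.ChevalleyDatum.IsFieldAut.eq_def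
theorem e117 : type_of% @Cfsg.Lie.ChevalleyDatum.IsFieldAut.eq_unfold := @Cfsg.Lie.ChevalleyDatum.IsFieldAut.eq_unfold
theorem e118 : type_of% @Cfsg.Lie.ChevalleyDatum.pairing.eq_1 := @Cfsg.Lie.ChevalleyDatum.pairing.eq_1
theorem e119 : type_of% @Cfsg.Lie.ChevalleyDatum.pairing.eq_def := @Cfsg.Lie.ChevalleyDatum.pairing.eq_def
theorem e120 : type_of% @Cfsg.Lie.ChevalleyDatum.pairing.eq_unfold := @Cfsg.Lie.ChevalleyDatum.pairing.eq_unfold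
theorem e121 : type_of% @Cfsg.Lie.ChevalleyDatum.isLong.eq_1 := @Cfsg.Lie.ChevalleyDatum.isLong.eq_1
theorem e122 : type_of% @Cfsg.Lie.ChevalleyDatum.isLong.eq_def := @Cfsg.Lie.ChevalleyDatum.isLong.eq_def
theorem e123 : type_of% @Cfsg.Lie.ChevalleyDatum.isLong.eq_unfold := @Cfsg.Lie.ChevalleyDatum.isLong.eq_unfold
theorem e124 : type_of% @Cfsg.Lie.ChevalleyDatum.bonds.eq_1 := @Cfsg.Lie.ChevalleyDatum.bonds.eq_1
theorem e125 : type_of% @Cfsg.Lie.ChevalleyDatum.bonds.eq_def := @Cfsg.Lie.ChevalleyDatum.bonds.eq_def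
theorem e126 : type_of% @Cfsg.Lie.ChevalleyDatum.bonds.eq_unfold := @Cfsg.Lie.ChevalleyDatum.bonds.eq_unfold
theorem e127 : type_of% @Cfsg.Lie.ChevalleyDatum.IsDiagramSymmetry.eq_1 := @Cfsg.Lie.ChevalleyDatum.IsDiagramSymmetry.eq_1
theorem e128 : type_of% @Cfsg.Lie.ChevalleyDatum.IsDiagramSymmetry.eq_def := @Cfsg.Lie.ChevalleyDatum.IsDiagramSymmetry.eq_def
theorem e129 : type_of% @Cfsg.Lie.ChevalleyDatum.IsDiagramSymmetry.eq_unfold := @Cfsg.Lie.ChevalleyDatum.IsDiagramSymmetry.eq_unfold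
theorem e130 : type_of% @Cfsg.Lie.ChevalleyDatum.graphExp.eq_1 := @Cfsg.Lie.ChevalleyDatum.graphExp.eq_1
theorem e131 : type_of% @Cfsg.Lie.ChevalleyDatum.graphExp.eq_def := @Cfsg.Lie.ChevalleyDatum.graphExp.eq_def
theorem e132 : type_of% @Cfsg.Lie.ChevalleyDatum.graphExp.eq_unfold := @Cfsg.Lie.ChevalleyDatum.graphExp.eq_unfold
theorem e133 : type_of% @Cfsg.Lie.ChevalleyDatum.permRoot.eq_1 := @Cfsg.Lie.ChevalleyDatum.permRoot.eq_1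
theorem e134 : type_of% @Cfsg.Lie.ChevalleyDatum.permRoot.eq_def := @Cfsg.Lie.ChevalleyDatum.permRoot.eq_def
theorem e135 : type_of% @Cfsg.Lie.ChevalleyDatum.permRoot.eq_unfold := @Cfsg.Lie.ChevalleyDatum.permRoot.eq_unfold
theorem e136 : type_of% @Cfsg.Lie.ChevalleyDatum.IsGraphAut.eq_1 := @Cfsg.Lie.ChevalleyDatum.IsGraphAut.eq_1
theorem e137 : type_of% @Cfsg.Lie.ChevalleyDatum.IsGraphAut.eq_def := @Cfsg.Lie.ChevalleyDatum.IsGraphAut.eq_def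
theorem e138 : type_of% @Cfsg.Lie.ChevalleyDatum.IsGraphAut.eq_unfold := @Cfsg.Lie.ChevalleyDatum.IsGraphAut.eq_unfold
theorem e139 : type_of% @Cfsg.Lie.ChevalleyDatum.stX.eq_1 := @Cfsg.Lie.ChevalleyDatum.stX.eq_1
theorem e140 : type_of% @Cfsg.Lie.ChevalleyDatum.stX.eq_def := @Cfsg.Lie.ChevalleyDatum.stX.eq_def
theorem e141 : type_of% @Cfsg.Lie.ChevalleyDatum.stX.eq_unfold := @Cfsg.Lie.ChevalleyDatum.stX.eq_unfold
theorem e142 : type_of% @Cfsg.Lie.ChevalleyDatum.stWord.eq_1 := @Cfsg.Lie.ChevalleyDatum.stWord.eq_1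
theorem e143 : type_of% @Cfsg.Lie.ChevalleyDatum.stWord.eq_def := @Cfsg.Lie.ChevalleyDatum.stWord.eq_def
theorem e144 : type_of% @Cfsg.Lie.ChevalleyDatum.stWord.eq_unfold := @Cfsg.Lie.ChevalleyDatum.stWord.eq_unfold
theorem e145 : type_of% @Cfsg.Lie.ChevalleyDatum.stN.eq_1 := @Cfsg.Lie.ChevalleyDatum.stN.eq_1
theorem e146 : type_of% @Cfsg.Lie.ChevalleyDatum.stN.eq_def := @Cfsg.Lie.ChevalleyDatum.stN.eq_def
theorem e147 : type_of% @Cfsg.Lie.ChevalleyDatum.stN.eq_unfold := @Cfsg.Lie.ChevalleyDatum.stN.eq_unfold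
theorem e148 : type_of% @Cfsg.Lie.ChevalleyDatum.stH.eq_1 := @Cfsg.Lie.ChevalleyDatum.stH.eq_1
theorem e149 : type_of% @Cfsg.Lie.ChevalleyDatum.stH.eq_def := @Cfsg.Lie.ChevalleyDatum.stH.eq_def
theorem e150 : type_of% @Cfsg.Lie.ChevalleyDatum.stH.eq_unfold := @Cfsg.Lie.ChevalleyDatum.stH.eq_unfold
theorem e151 : type_of% @Cfsg.Lie.ChevalleyDatum.steinbergRels.eq_1 := @Cfsg.Lie.ChevalleyDatum.steinbergRels.eq_1
theorem e152 : type_of% @Cfsg.Lie.ChevalleyDatum.steinbergRels.eq_def := @Cfsg.Lie.ChevalleyDatum.steinbergRels.eq_def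
theorem e153 : type_of% @Cfsg.Lie.ChevalleyDatum.steinbergRels.eq_unfold := @Cfsg.Lie.ChevalleyDatum.steinbergRels.eq_unfold
theorem e154 : type_of% @Cfsg.Lie.ChevalleyDatum.SteinbergGroup.eq_1 := @Cfsg.Lie.ChevalleyDatum.SteinbergGroup.eq_1
theorem e155 : type_of% @Cfsg.Lie.ChevalleyDatum.SteinbergGroup.eq_def := @Cfsg.Lie.ChevalleyDatum.SteinbergGroup.eq_def
theorem e156 : type_of% @Cfsg.Lie.ChevalleyDatum.SteinbergGroup.eq_unfold := @Cfsg.Lie.ChevalleyDatum.SteinbergGroup.eq_unfold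
theorem e157 : type_of% @Cfsg.Lie.ChevalleyDatum.stGen.eq_1 := @Cfsg.Lie.ChevalleyDatum.stGen.eq_1
theorem e158 : type_of% @Cfsg.Lie.ChevalleyDatum.stGen.eq_def := @Cfsg.Lie.ChevalleyDatum.stGen.eq_def
theorem e159 : type_of% @Cfsg.Lie.ChevalleyDatum.stGen.eq_unfold := @Cfsg.Lie.ChevalleyDatum.stGen.eq_unfold
theorem e160 : type_of% @Cfsg.Lie.ChevalleyDatum.steinbergRelsAB.eq_1 := @Cfsg.Lie.ChevalleyDatum.steinbergRelsAB.eq_1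
theorem e161 : type_of% @Cfsg.Lie.ChevalleyDatum.steinbergRelsAB.eq_def := @Cfsg.Lie.ChevalleyDatum.steinbergRelsAB.eq_def
theorem e162 : type_of% @Cfsg.Lie.ChevalleyDatum.steinbergRelsAB.eq_unfold := @Cfsg.Lie.ChevalleyDatum.steinbergRelsAB.eq_unfold
theorem e163 : type_of% @Cfsg.Lie.ChevalleyDatum.SteinbergCover.eq_1 := @Cfsg.Lie.ChevalleyDatum.SteinbergCover.eq_1
theorem e164 : type_of% @Cfsg.Lie.ChevalleyDatum.SteinbergCover.eq_def := @Cfsg.Lie.ChevalleyDatum.SteinbergCover.eq_def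
theorem e165 : type_of% @Cfsg.Lie.ChevalleyDatum.SteinbergCover.eq_unfold := @Cfsg.Lie.ChevalleyDatum.SteinbergCover.eq_unfold
theorem e166 : type_of% @Cfsg.Lie.ChevalleyDatum.scGen.eq_1 := @Cfsg.Lie.ChevalleyDatum.scGen.eq_1
theorem e167 : type_of% @Cfsg.Lie.ChevalleyDatum.scGen.eq_def := @Cfsg.Lie.ChevalleyDatum.scGen.eq_def
theorem e168 : type_of% @Cfsg.Lie.ChevalleyDatum.scGen.eq_unfold := @Cfsg.Lie.ChevalleyDatum.scGen.eq_unfold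
theorem e169 : type_of% @Cfsg.Lie.ChevalleyDatum.InRankTwoSub.eq_1 := @Cfsg.Lie.ChevalleyDatum.InRankTwoSub.eq_1
theorem e170 : type_of% @Cfsg.Lie.ChevalleyDatum.InRankTwoSub.eq_def := @Cfsg.Lie.ChevalleyDatum.InRankTwoSub.eq_def
theorem e171 : type_of% @Cfsg.Lie.ChevalleyDatum.InRankTwoSub.eq_unfold := @Cfsg.Lie.ChevalleyDatum.InRankTwoSub.eq_unfold
theorem e172 : type_of% @Cfsg.Lie.ChevalleyDatum.curtisTitsRels.eq_1 := @Cfsg.Lie.ChevalleyDatum.curtisTitsRels.eq_1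
theorem e173 : type_of% @Cfsg.Lie.ChevalleyDatum.curtisTitsRels.eq_def := @Cfsg.Lie.ChevalleyDatum.curtisTitsRels.eq_def
theorem e174 : type_of% @Cfsg.Lie.ChevalleyDatum.curtisTitsRels.eq_unfold := @Cfsg.Lie.ChevalleyDatum.curtisTitsRels.eq_unfold
theorem e175 : type_of% @Cfsg.Lie.ChevalleyDatum.CurtisTitsGroup.eq_1 := @Cfsg.Lie.ChevalleyDatum.CurtisTitsGroup.eq_1
theorem e176 : type_of% @Cfsg.Lie.ChevalleyDatum.CurtisTitsGroup.eq_def := @Cfsg.Lie.ChevalleyDatum.CurtisTitsGroup.eq_def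
theorem e177 : type_of% @Cfsg.Lie.ChevalleyDatum.CurtisTitsGroup.eq_unfold := @Cfsg.Lie.ChevalleyDatum.CurtisTitsGroup.eq_unfold
theorem e178 : type_of% @Cfsg.Lie.e6p1.eq_1 := @Cfsg.Lie.e6p1.eq_1
theorem e179 : type_of% @Cfsg.Lie.e6p1.eq_def := @Cfsg.Lie.e6p1.eq_def
theorem e180 : type_of% @Cfsg.Lie.e6p1.eq_unfold := @Cfsg.Lie.e6p1.eq_unfold
theorem e181 : type_of% @Cfsg.Lie.e6p2.eq_1 := @Cfsg.Lie.e6p2.eq_1
theorem e182 : type_of% @Cfsg.Lie.e6p2.eq_def := @Cfsg.Lie.e6p2.eq_def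
theorem e183 : type_of% @Cfsg.Lie.e6p2.eq_unfold := @Cfsg.Lie.e6p2.eq_unfold
theorem e184 : type_of% @Cfsg.Lie.e6p3.eq_1 := @Cfsg.Lie.e6p3.eq_1
theorem e185 : type_of% @Cfsg.Lie.e6p3.eq_def := @Cfsg.Lie.e6p3.eq_def
theorem e186 : type_of% @Cfsg.Lie.e6p3.eq_unfold := @Cfsg.Lie.e6p3.eq_unfold
theorem e187 : type_of% @Cfsg.Lie.e6p4.eq_1 := @Cfsg.Lie.e6p4.eq_1
theorem e188 : type_of% @Cfsg.Lie.e6p4.eq_def := @Cfsg.Lie.e6p4.eq_def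
theorem e189 : type_of% @Cfsg.Lie.e6p4.eq_unfold := @Cfsg.Lie.e6p4.eq_unfold
theorem e190 : type_of% @Cfsg.Lie.e6p5.eq_1 := @Cfsg.Lie.e6p5.eq_1
theorem e191 : type_of% @Cfsg.Lie.e6p5.eq_def := @Cfsg.Lie.e6p5.eq_def
theorem e192 : type_of% @Cfsg.Lie.e6p5.eq_unfold := @Cfsg.Lie.e6p5.eq_unfold
theorem e193 : type_of% @Cfsg.Lie.e6p6.eq_1 := @Cfsg.Lie.e6p6.eq_1
theorem e194 : type_of% @Cfsg.Lie.e6p6.eq_def := @Cfsg.Lie.e6p6.eq_def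
theorem e195 : type_of% @Cfsg.Lie.e6p6.eq_unfold := @Cfsg.Lie.e6p6.eq_unfold
theorem e196 : type_of% @Cfsg.Lie.e6m1.eq_1 := @Cfsg.Lie.e6m1.eq_1
theorem e197 : type_of% @Cfsg.Lie.e6m1.eq_def := @Cfsg.Lie.e6m1.eq_def
theorem e198 : type_of% @Cfsg.Lie.e6m1.eq_unfold := @Cfsg.Lie.e6m1.eq_unfold
theorem e199 : type_of% @Cfsg.Lie.e6m2.eq_1 := @Cfsg.Lie.e6m2.eq_1
theorem e200 : type_of% @Cfsg.Lie.e6m2.eq_def := @Cfsg.Lie.e6m2.eq_def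
theorem e201 : type_of% @Cfsg.Lie.e6m2.eq_unfold := @Cfsg.Lie.e6m2.eq_unfold
theorem e202 : type_of% @Cfsg.Lie.e6m3.eq_1 := @Cfsg.Lie.e6m3.eq_1
theorem e203 : type_of% @Cfsg.Lie.e6m3.eq_def := @Cfsg.Lie.e6m3.eq_def
theorem e204 : type_of% @Cfsg.Lie.e6m3.eq_unfold := @Cfsg.Lie.e6m3.eq_unfold
theorem e205 : type_of% @Cfsg.Lie.e6m4.eq_1 := @Cfsg.Lie.e6m4.eq_1
theorem e206 : type_of% @Cfsg.Lie.e6m4.eq_def := @Cfsg.Lie.e6m4.eq_def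
theorem e207 : type_of% @Cfsg.Lie.e6m4.eq_unfold := @Cfsg.Lie.e6m4.eq_unfold
theorem e208 : type_of% @Cfsg.Lie.e6m5.eq_1 := @Cfsg.Lie.e6m5.eq_1
theorem e209 : type_of% @Cfsg.Lie.e6m5.eq_def := @Cfsg.Lie.e6m5.eq_def
theorem e210 : type_of% @Cfsg.Lie.e6m5.eq_unfold := @Cfsg.Lie.e6m5.eq_unfold
theorem e211 : type_of% @Cfsg.Lie.e6m6.eq_1 := @Cfsg.Lie.e6m6.eq_1
theorem e212 : type_of% @Cfsg.Lie.e6m6.eq_def := @Cfsg.Lie.e6m6.eq_def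
theorem e213 : type_of% @Cfsg.Lie.e6m6.eq_unfold := @Cfsg.Lie.e6m6.eq_unfold
theorem e214 : type_of% @Cfsg.Lie.e6Words.eq_1 := @Cfsg.Lie.e6Words.eq_1
theorem e215 : type_of% @Cfsg.Lie.e6Words.eq_def := @Cfsg.Lie.e6Words.eq_def
theorem e216 : type_of% @Cfsg.Lie.e6Words.eq_unfold := @Cfsg.Lie.e6Words.eq_unfold
theorem e217 : type_of% @Cfsg.Lie.twistedE6.eq_1 := @Cfsg.Lie.twistedE6.eq_1
theorem e218 : type_of% @Cfsg.Lie.twistedE6.eq_def := @Cfsg.Lie.twistedE6.eq_def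
theorem e219 : type_of% @Cfsg.Lie.twistedE6.eq_unfold := @Cfsg.Lie.twistedE6.eq_unfold
theorem e220 : type_of% @Cfsg.Lie.Iso2E6.eq_1 := @Cfsg.Lie.Iso2E6.eq_1
theorem e221 : type_of% @Cfsg.Lie.Iso2E6.eq_def := @Cfsg.Lie.Iso2E6.eq_def
theorem e222 : type_of% @Cfsg.Lie.Iso2E6.eq_unfold := @Cfsg.Lie.Iso2E6.eq_unfold
theorem e223 : type_of% @Cfsg.Lie.d4p1.eq_1 := @Cfsg.Lie.d4p1.eq_1
theorem e224 : type_of% @Cfsg.Lie.d4p1.eq_def := @Cfsg.Lie.d4p1.eq_def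
theorem e225 : type_of% @Cfsg.Lie.d4p1.eq_unfold := @Cfsg.Lie.d4p1.eq_unfold
theorem e226 : type_of% @Cfsg.Lie.d4p2.eq_1 := @Cfsg.Lie.d4p2.eq_1
theorem e227 : type_of% @Cfsg.Lie.d4p2.eq_def := @Cfsg.Lie.d4p2.eq_def
theorem e228 : type_of% @Cfsg.Lie.d4p2.eq_unfold := @Cfsg.Lie.d4p2.eq_unfold
theorem e229 : type_of% @Cfsg.Lie.d4p3.eq_1 := @Cfsg.Lie.d4p3.eq_1
theorem e230 : type_of% @Cfsg.Lie.d4p3.eq_def := @Cfsg.Lie.d4p3.eq_def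
theorem e231 : type_of% @Cfsg.Lie.d4p3.eq_unfold := @Cfsg.Lie.d4p3.eq_unfold
theorem e232 : type_of% @Cfsg.Lie.d4p4.eq_1 := @Cfsg.Lie.d4p4.eq_1
theorem e233 : type_of% @Cfsg.Lie.d4p4.eq_def := @Cfsg.Lie.d4p4.eq_def
theorem e234 : type_of% @Cfsg.Lie.d4p4.eq_unfold := @Cfsg.Lie.d4p4.eq_unfold
theorem e235 : type_of% @Cfsg.Lie.d4m1.eq_1 := @Cfsg.Lie.d4m1.eq_1
theorem e236 : type_of% @Cfsg.Lie.d4m1.eq_def := @Cfsg.Lie.d4m1.eq_def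
theorem e237 : type_of% @Cfsg.Lie.d4m1.eq_unfold := @Cfsg.Lie.d4m1.eq_unfold
theorem e238 : type_of% @Cfsg.Lie.d4m2.eq_1 := @Cfsg.Lie.d4m2.eq_1
theorem e239 : type_of% @Cfsg.Lie.d4m2.eq_def := @Cfsg.Lie.d4m2.eq_def
theorem e240 : type_of% @Cfsg.Lie.d4m2.eq_unfold := @Cfsg.Lie.d4m2.eq_unfold
theorem e241 : type_of% @Cfsg.Lie.d4m3.eq_1 := @Cfsg.Lie.d4m3.eq_1
theorem e242 : type_of% @Cfsg.Lie.d4m3.eq_def := @Cfsg.Lie.d4m3.eq_def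
theorem e243 : type_of% @Cfsg.Lie.d4m3.eq_unfold := @Cfsg.Lie.d4m3.eq_unfold
theorem e244 : type_of% @Cfsg.Lie.d4m4.eq_1 := @Cfsg.Lie.d4m4.eq_1
theorem e245 : type_of% @Cfsg.Lie.d4m4.eq_def := @Cfsg.Lie.d4m4.eq_def
theorem e246 : type_of% @Cfsg.Lie.d4m4.eq_unfold := @Cfsg.Lie.d4m4.eq_unfold
theorem e247 : type_of% @Cfsg.Lie.d4Words.eq_1 := @Cfsg.Lie.d4Words.eq_1
theorem e248 : type_of% @Cfsg.Lie.d4Words.eq_def := @Cfsg.Lie.d4Words.eq_def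
theorem e249 : type_of% @Cfsg.Lie.d4Words.eq_unfold := @Cfsg.Lie.d4Words.eq_unfold
theorem e250 : type_of% @Cfsg.Lie.twistedD4.eq_1 := @Cfsg.Lie.twistedD4.eq_1
theorem e251 : type_of% @Cfsg.Lie.twistedD4.eq_def := @Cfsg.Lie.twistedD4.eq_def
theorem e252 : type_of% @Cfsg.Lie.twistedD4.eq_unfold := @Cfsg.Lie.twistedD4.eq_unfold
theorem e253 : type_of% @Cfsg.Lie.Iso3D4.eq_1 := @Cfsg.Lie.Iso3D4.eq_1
theorem e254 : type_of% @Cfsg.Lie.Iso3D4.eq_def := @Cfsg.Lie.Iso3D4.eq_def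
theorem e255 : type_of% @Cfsg.Lie.Iso3D4.eq_unfold := @Cfsg.Lie.Iso3D4.eq_unfold
theorem e256 : type_of% @Cfsg.Lie.f4p1.eq_1 := @Cfsg.Lie.f4p1.eq_1
theorem e257 : type_of% @Cfsg.Lie.f4p1.eq_def := @Cfsg.Lie.f4p1.eq_def
theorem e258 : type_of% @Cfsg.Lie.f4p1.eq_unfold := @Cfsg.Lie.f4p1.eq_unfold
theorem e259 : type_of% @Cfsg.Lie.f4p4.eq_1 := @Cfsg.Lie.f4p4.eq_1
theorem e260 : type_of% @Cfsg.Lie.f4p4.eq_def := @Cfsg.Lie.f4p4.eq_def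
theorem e261 : type_of% @Cfsg.Lie.f4p4.eq_unfold := @Cfsg.Lie.f4p4.eq_unfold
theorem e262 : type_of% @Cfsg.Lie.f4m1.eq_1 := @Cfsg.Lie.f4m1.eq_1
theorem e263 : type_of% @Cfsg.Lie.f4m1.eq_def := @Cfsg.Lie.f4m1.eq_def
theorem e264 : type_of% @Cfsg.Lie.f4m1.eq_unfold := @Cfsg.Lie.f4m1.eq_unfold
theorem e265 : type_of% @Cfsg.Lie.f4m4.eq_1 := @Cfsg.Lie.f4m4.eq_1
theorem e266 : type_of% @Cfsg.Lie.f4m4.eq_def := @Cfsg.Lie.f4m4.eq_def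
theorem e267 : type_of% @Cfsg.Lie.f4m4.eq_unfold := @Cfsg.Lie.f4m4.eq_unfold
theorem e268 : type_of% @Cfsg.Lie.f4a.eq_1 := @Cfsg.Lie.f4a.eq_1
theorem e269 : type_of% @Cfsg.Lie.f4a.eq_def := @Cfsg.Lie.f4a.eq_def
theorem e270 : type_of% @Cfsg.Lie.f4a.eq_unfold := @Cfsg.Lie.f4a.eq_unfold
theorem e271 : type_of% @Cfsg.Lie.f4b.eq_1 := @Cfsg.Lie.f4b.eq_1
theorem e272 : type_of% @Cfsg.Lie.f4b.eq_def := @Cfsg.Lie.f4b.eq_def
theorem e273 : type_of% @Cfsg.Lie.f4b.eq_unfold := @Cfsg.Lie.f4b.eq_unfold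
theorem e274 : type_of% @Cfsg.Lie.f4ab.eq_1 := @Cfsg.Lie.f4ab.eq_1
theorem e275 : type_of% @Cfsg.Lie.f4ab.eq_def := @Cfsg.Lie.f4ab.eq_def
theorem e276 : type_of% @Cfsg.Lie.f4ab.eq_unfold := @Cfsg.Lie.f4ab.eq_unfold
theorem e277 : type_of% @Cfsg.Lie.f4aab.eq_1 := @Cfsg.Lie.f4aab.eq_1
theorem e278 : type_of% @Cfsg.Lie.f4aab.eq_def := @Cfsg.Lie.f4aab.eq_def
theorem e279 : type_of% @Cfsg.Lie.f4aab.eq_unfold := @Cfsg.Lie.f4aab.eq_unfold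
theorem e280 : type_of% @Cfsg.Lie.f4ma.eq_1 := @Cfsg.Lie.f4ma.eq_1
theorem e281 : type_of% @Cfsg.Lie.f4ma.eq_def := @Cfsg.Lie.f4ma.eq_def
theorem e282 : type_of% @Cfsg.Lie.f4ma.eq_unfold := @Cfsg.Lie.f4ma.eq_unfold
theorem e283 : type_of% @Cfsg.Lie.f4mb.eq_1 := @Cfsg.Lie.f4mb.eq_1
theorem e284 : type_of% @Cfsg.Lie.f4mb.eq_def := @Cfsg.Lie.f4mb.eq_def
theorem e285 : type_of% @Cfsg.Lie.f4mb.eq_unfold := @Cfsg.Lie.f4mb.eq_unfold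
theorem e286 : type_of% @Cfsg.Lie.f4mab.eq_1 := @Cfsg.Lie.f4mab.eq_1
theorem e287 : type_of% @Cfsg.Lie.f4mab.eq_def := @Cfsg.Lie.f4mab.eq_def
theorem e288 : type_of% @Cfsg.Lie.f4mab.eq_unfold := @Cfsg.Lie.f4mab.eq_unfold
theorem e289 : type_of% @Cfsg.Lie.f4maab.eq_1 := @Cfsg.Lie.f4maab.eq_1
theorem e290 : type_of% @Cfsg.Lie.f4maab.eq_def := @Cfsg.Lie.f4maab.eq_def
theorem e291 : type_of% @Cfsg.Lie.f4maab.eq_unfold := @Cfsg.Lie.f4maab.eq_unfold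
theorem e292 : type_of% @Cfsg.Lie.f4PairWord.eq_1 := @Cfsg.Lie.f4PairWord.eq_1
theorem e293 : type_of% @Cfsg.Lie.f4PairWord.eq_def := @Cfsg.Lie.f4PairWord.eq_def
theorem e294 : type_of% @Cfsg.Lie.f4PairWord.eq_unfold := @Cfsg.Lie.f4PairWord.eq_unfold
theorem e295 : type_of% @Cfsg.Lie.b2ClassWord.eq_1 := @Cfsg.Lie.b2ClassWord.eq_1
theorem e296 : type_of% @Cfsg.Lie.b2ClassWord.eq_def := @Cfsg.Lie.b2ClassWord.eq_def
theorem e297 : type_of% @Cfsg.Lie.b2ClassWord.eq_unfold := @Cfsg.Lie.b2ClassWord.eq_unfold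
theorem e298 : type_of% @Cfsg.Lie.f4Words.eq_1 := @Cfsg.Lie.f4Words.eq_1
theorem e299 : type_of% @Cfsg.Lie.f4Words.eq_def := @Cfsg.Lie.f4Words.eq_def
theorem e300 : type_of% @Cfsg.Lie.f4Words.eq_unfold := @Cfsg.Lie.f4Words.eq_unfold
theorem e301 : type_of% @Cfsg.Lie.twistedF4.eq_1 := @Cfsg.Lie.twistedF4.eq_1
theorem e302 : type_of% @Cfsg.Lie.twistedF4.eq_def := @Cfsg.Lie.twistedF4.eq_def
theorem e303 : type_of% @Cfsg.Lie.twistedF4.eq_unfold := @Cfsg.Lie.twistedF4.eq_unfold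
theorem e304 : type_of% @Cfsg.Lie.Iso2F4.eq_1 := @Cfsg.Lie.Iso2F4.eq_1
theorem e305 : type_of% @Cfsg.Lie.Iso2F4.eq_def := @Cfsg.Lie.Iso2F4.eq_def
theorem e306 : type_of% @Cfsg.Lie.Iso2F4.eq_unfold := @Cfsg.Lie.Iso2F4.eq_unfold
theorem e307 : type_of% @Cfsg.Lie.TitsGroup.eq_1 := @Cfsg.Lie.TitsGroup.eq_1
theorem e308 : type_of% @Cfsg.Lie.TitsGroup.eq_def := @Cfsg.Lie.TitsGroup.eq_def
theorem e309 : type_of% @Cfsg.Lie.TitsGroup.eq_unfold := @Cfsg.Lie.TitsGroup.eq_unfold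
theorem e310 : type_of% @Cfsg.Lie.IsoTits.eq_1 := @Cfsg.Lie.IsoTits.eq_1
theorem e311 : type_of% @Cfsg.Lie.IsoTits.eq_def := @Cfsg.Lie.IsoTits.eq_def
theorem e312 : type_of% @Cfsg.Lie.IsoTits.eq_unfold := @Cfsg.Lie.IsoTits.eq_unfold
theorem e313 : type_of% @Cfsg.Lie.g2a.eq_1 := @Cfsg.Lie.g2a.eq_1
theorem e314 : type_of% @Cfsg.Lie.g2a.eq_def := @Cfsg.Lie.g2a.eq_def
theorem e315 : type_of% @Cfsg.Lie.g2a.eq_unfold := @Cfsg.Lie.g2a.eq_unfold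
theorem e316 : type_of% @Cfsg.Lie.g2b.eq_1 := @Cfsg.Lie.g2b.eq_1
theorem e317 : type_of% @Cfsg.Lie.g2b.eq_def := @Cfsg.Lie.g2b.eq_def
theorem e318 : type_of% @Cfsg.Lie.g2b.eq_unfold := @Cfsg.Lie.g2b.eq_unfold
theorem e319 : type_of% @Cfsg.Lie.g2ab.eq_1 := @Cfsg.Lie.g2ab.eq_1
theorem e320 : type_of% @Cfsg.Lie.g2ab.eq_def := @Cfsg.Lie.g2ab.eq_def
theorem e321 : type_of% @Cfsg.Lie.g2ab.eq_unfold := @Cfsg.Lie.g2ab.eq_unfold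
theorem e322 : type_of% @Cfsg.Lie.g2aab.eq_1 := @Cfsg.Lie.g2aab.eq_1
theorem e323 : type_of% @Cfsg.Lie.g2aab.eq_def := @Cfsg.Lie.g2aab.eq_def
theorem e324 : type_of% @Cfsg.Lie.g2aab.eq_unfold := @Cfsg.Lie.g2aab.eq_unfold
theorem e325 : type_of% @Cfsg.Lie.g2aaab.eq_1 := @Cfsg.Lie.g2aaab.eq_1
theorem e326 : type_of% @Cfsg.Lie.g2aaab.eq_def := @Cfsg.Lie.g2aaab.eq_def
theorem e327 : type_of% @Cfsg.Lie.g2aaab.eq_unfold := @Cfsg.Lie.g2aaab.eq_unfold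
theorem e328 : type_of% @Cfsg.Lie.g2aaabb.eq_1 := @Cfsg.Lie.g2aaabb.eq_1
theorem e329 : type_of% @Cfsg.Lie.g2aaabb.eq_def := @Cfsg.Lie.g2aaabb.eq_def
theorem e330 : type_of% @Cfsg.Lie.g2aaabb.eq_unfold := @Cfsg.Lie.g2aaabb.eq_unfold
theorem e331 : type_of% @Cfsg.Lie.g2ma.eq_1 := @Cfsg.Lie.g2ma.eq_1
theorem e332 : type_of% @Cfsg.Lie.g2ma.eq_def := @Cfsg.Lie.g2ma.eq_def
theorem e333 : type_of% @Cfsg.Lie.g2ma.eq_unfold := @Cfsg.Lie.g2ma.eq_unfold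
theorem e334 : type_of% @Cfsg.Lie.g2mb.eq_1 := @Cfsg.Lie.g2mb.eq_1
theorem e335 : type_of% @Cfsg.Lie.g2mb.eq_def := @Cfsg.Lie.g2mb.eq_def
theorem e336 : type_of% @Cfsg.Lie.g2mb.eq_unfold := @Cfsg.Lie.g2mb.eq_unfold
theorem e337 : type_of% @Cfsg.Lie.g2mab.eq_1 := @Cfsg.Lie.g2mab.eq_1
theorem e338 : type_of% @Cfsg.Lie.g2mab.eq_def := @Cfsg.Lie.g2mab.eq_def
theorem e339 : type_of% @Cfsg.Lie.g2mab.eq_unfold := @Cfsg.Lie.g2mab.eq_unfold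
theorem e340 : type_of% @Cfsg.Lie.g2maab.eq_1 := @Cfsg.Lie.g2maab.eq_1
theorem e341 : type_of% @Cfsg.Lie.g2maab.eq_def := @Cfsg.Lie.g2maab.eq_def
theorem e342 : type_of% @Cfsg.Lie.g2maab.eq_unfold := @Cfsg.Lie.g2maab.eq_unfold
theorem e343 : type_of% @Cfsg.Lie.g2maaab.eq_1 := @Cfsg.Lie.g2maaab.eq_1
theorem e344 : type_of% @Cfsg.Lie.g2maaab.eq_def := @Cfsg.Lie.g2maaab.eq_def
theorem e345 : type_of% @Cfsg.Lie.g2maaab.eq_unfold := @Cfsg.Lie.g2maaab.eq_unfold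
theorem e346 : type_of% @Cfsg.Lie.g2maaabb.eq_1 := @Cfsg.Lie.g2maaabb.eq_1
theorem e347 : type_of% @Cfsg.Lie.g2maaabb.eq_def := @Cfsg.Lie.g2maaabb.eq_def
theorem e348 : type_of% @Cfsg.Lie.g2maaabb.eq_unfold := @Cfsg.Lie.g2maaabb.eq_unfold
theorem e349 : type_of% @Cfsg.Lie.reeWordU.eq_1 := @Cfsg.Lie.reeWordU.eq_1
theorem e350 : type_of% @Cfsg.Lie.reeWordU.eq_def := @Cfsg.Lie.reeWordU.eq_def
theorem e351 : type_of% @Cfsg.Lie.reeWordU.eq_unfold := @Cfsg.Lie.reeWordU.eq_unfold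
theorem e352 : type_of% @Cfsg.Lie.reeWordV.eq_1 := @Cfsg.Lie.reeWordV.eq_1
theorem e353 : type_of% @Cfsg.Lie.reeWordV.eq_def := @Cfsg.Lie.reeWordV.eq_def
theorem e354 : type_of% @Cfsg.Lie.reeWordV.eq_unfold := @Cfsg.Lie.reeWordV.eq_unfold
theorem e355 : type_of% @Cfsg.Lie.g2Words.eq_1 := @Cfsg.Lie.g2Words.eq_1
theorem e356 : type_of% @Cfsg.Lie.g2Words.eq_def := @Cfsg.Lie.g2Words.eq_def
theorem e357 : type_of% @Cfsg.Lie.g2Words.eq_unfold := @Cfsg.Lie.g2Words.eq_unfold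
theorem e358 : type_of% @Cfsg.Lie.twistedG2.eq_1 := @Cfsg.Lie.twistedG2.eq_1
theorem e359 : type_of% @Cfsg.Lie.twistedG2.eq_def := @Cfsg.Lie.twistedG2.eq_def
theorem e360 : type_of% @Cfsg.Lie.twistedG2.eq_unfold := @Cfsg.Lie.twistedG2.eq_unfold
theorem e361 : type_of% @Cfsg.Lie.IsoRee.eq_1 := @Cfsg.Lie.IsoRee.eq_1
theorem e362 : type_of% @Cfsg.Lie.IsoRee.eq_def := @Cfsg.Lie.IsoRee.eq_def
theorem e363 : type_of% @Cfsg.Lie.IsoRee.eq_unfold := @Cfsg.Lie.IsoRee.eq_unfold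
theorem e364 : type_of% @Cfsg.Lie.IsoChevG2.eq_1 := @Cfsg.Lie.IsoChevG2.eq_1
theorem e365 : type_of% @Cfsg.Lie.IsoChevG2.eq_def := @Cfsg.Lie.IsoChevG2.eq_def
theorem e366 : type_of% @Cfsg.Lie.IsoChevG2.eq_unfold := @Cfsg.Lie.IsoChevG2.eq_unfold
theorem e367 : type_of% @Cfsg.Lie.IsoF4.eq_1 := @Cfsg.Lie.IsoF4.eq_1
theorem e368 : type_of% @Cfsg.Lie.IsoF4.eq_def := @Cfsg.Lie.IsoF4.eq_def
theorem e369 : type_of% @Cfsg.Lie.IsoF4.eq_unfold := @Cfsg.Lie.IsoF4.eq_unfold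
theorem e370 : type_of% @Cfsg.Lie.IsoChevE6.eq_1 := @Cfsg.Lie.IsoChevE6.eq_1
theorem e371 : type_of% @Cfsg.Lie.IsoChevE6.eq_def := @Cfsg.Lie.IsoChevE6.eq_def
theorem e372 : type_of% @Cfsg.Lie.IsoChevE6.eq_unfold := @Cfsg.Lie.IsoChevE6.eq_unfold
theorem e373 : type_of% @Cfsg.Lie.IsoE7.eq_1 := @Cfsg.Lie.IsoE7.eq_1
theorem e374 : type_of% @Cfsg.Lie.IsoE7.eq_def := @Cfsg.Lie.IsoE7.eq_def
theorem e375 : type_of% @Cfsg.Lie.IsoE7.eq_unfold := @Cfsg.Lie.IsoE7.eq_unfold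
theorem e376 : type_of% @Cfsg.Lie.IsoE8.eq_1 := @Cfsg.Lie.IsoE8.eq_1
theorem e377 : type_of% @Cfsg.Lie.IsoE8.eq_def := @Cfsg.Lie.IsoE8.eq_def
theorem e378 : type_of% @Cfsg.Lie.IsoE8.eq_unfold := @Cfsg.Lie.IsoE8.eq_unfold
theorem e379 : type_of% @Cfsg.Lie.chevB2.eq_1 := @Cfsg.Lie.chevB2.eq_1
theorem e380 : type_of% @Cfsg.Lie.chevB2.eq_def := @Cfsg.Lie.chevB2.eq_def
theorem e381 : type_of% @Cfsg.Lie.chevB2.eq_unfold := @Cfsg.Lie.chevB2.eq_unfold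
theorem e382 : type_of% @Cfsg.Lie.chevG2.eq_1 := @Cfsg.Lie.chevG2.eq_1
theorem e383 : type_of% @Cfsg.Lie.chevG2.eq_def := @Cfsg.Lie.chevG2.eq_def
theorem e384 : type_of% @Cfsg.Lie.chevG2.eq_unfold := @Cfsg.Lie.chevG2.eq_unfold
theorem e385 : type_of% @Cfsg.Lie.chevD4.eq_1 := @Cfsg.Lie.chevD4.eq_1
theorem e386 : type_of% @Cfsg.Lie.chevD4.eq_def := @Cfsg.Lie.chevD4.eq_def
theorem e387 : type_of% @Cfsg.Lie.chevD4.eq_unfold := @Cfsg.Lie.chevD4.eq_unfold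
theorem e388 : type_of% @Cfsg.Lie.chevF4.eq_1 := @Cfsg.Lie.chevF4.eq_1
theorem e389 : type_of% @Cfsg.Lie.chevF4.eq_def := @Cfsg.Lie.chevF4.eq_def
theorem e390 : type_of% @Cfsg.Lie.chevF4.eq_unfold := @Cfsg.Lie.chevF4.eq_unfold
theorem e391 : type_of% @Cfsg.Lie.chevE6.eq_1 := @Cfsg.Lie.chevE6.eq_1
theorem e392 : type_of% @Cfsg.Lie.chevE6.eq_def := @Cfsg.Lie.chevE6.eq_def
theorem e393 : type_of% @Cfsg.Lie.chevE6.eq_unfold := @Cfsg.Lie.chevE6.eq_unfold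
theorem e394 : type_of% @Cfsg.Lie.chevE7.eq_1 := @Cfsg.Lie.chevE7.eq_1
theorem e395 : type_of% @Cfsg.Lie.chevE7.eq_def := @Cfsg.Lie.chevE7.eq_def
theorem e396 : type_of% @Cfsg.Lie.chevE7.eq_unfold := @Cfsg.Lie.chevE7.eq_unfold
theorem e397 : type_of% @Cfsg.Lie.chevE8.eq_1 := @Cfsg.Lie.chevE8.eq_1
theorem e398 : type_of% @Cfsg.Lie.chevE8.eq_def := @Cfsg.Lie.chevE8.eq_def
theorem e399 : type_of% @Cfsg.Lie.chevE8.eq_unfold := @Cfsg.Lie.chevE8.eq_unfold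

end Cfsg.Lib.Chev.Eqns
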