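import Cfsg.Agent.Chev.InvCls
import Cfsg.Agent.Chev.CoreCertF4
import Cfsg.Agent.Chev.RootCertSmall
import Cfsg.Agent.Chev.WeylTypes

/-!
# The classes of involutions of type `F4` in characteristic two
-/

set_option autoImplicit false

open Cfsg.Lie

namespace Cfsg.Lib.Chev.Core

/-- The representatives. -/
def invRepsF4 : List (List ℕ) := [[47], [44], [47, 44], [39, 45]]

/-- The ranks of `g - 1` minus one. -/
def invRanksF4 : List ℕ := [15, 15, 20, 23]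

/-- The classes of involutions of the Weyl group. -/
def invClsF4 : List (List (List (Fin 4) × Fin 4) × List (List ℕ) × ℕ) :=
  [([([3, 2, 1, 0, 2, 1, 2], 3)], [[0]], 0), ([([0, 1, 2, 1, 0, 3, 2], 1)], [[3]], 1), ([([0, 1,
  2], 2), ([3, 2, 1, 0, 2, 1, 2, 3], 3)], [[3], [44], [18], [41, 47]], 2), ([([1, 0, 2, 1, 2],
  3), ([2, 1, 0, 3, 2], 1)], [[2, 8]], 3), ([([1, 0, 2, 1, 2, 3], 3), ([0, 2, 1, 2, 3], 3), ([2,
  1, 2, 3], 3)], [[3], [44, 39], [15], [32, 27], [13], [45, 43, 32]], 3), ([([2, 3], 3), ([1, 0,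
  3, 2, 1], 1), ([2, 1, 0, 2, 1, 2, 3], 3)], [[0], [47], [22, 10, 2], [26, 38, 46]], 3), ([([1,
  0, 2, 1, 2, 3], 3), ([0, 2, 1, 2, 3], 3), ([2, 1, 2, 3], 3), ([], 3)], [[3], [44, 39], [15],
  [32, 27], [13], [26], [4], [42, 31, 45, 43, 32], [23]], 3)]

/-- The reduction of the longest elements. -/
def invCertF4 : List (List (Fin 4) × List (Fin 4) × List (Fin 4) × ℕ) :=
  [([0], [0], [0, 1, 2, 1, 3, 2, 1], 1), ([1], [1], [0, 1, 2, 1, 0, 3, 2], 1), ([2], [2], [3, 2,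
  1, 0, 2, 1, 3], 0), ([3], [3], [3, 2, 1, 0, 2, 1, 2], 0), ([0, 1], [0, 1, 0], [], 0), ([0, 2],
  [2, 0], [1, 2, 1, 0, 2, 1, 2, 3, 2, 1], 3), ([0, 3], [3, 0], [1, 2, 1, 0, 2, 1, 3, 2, 1, 2],
  3), ([1, 2], [2, 1, 2, 1], [0, 1, 2, 3, 2, 1, 0, 2, 1, 3, 2, 1], 2), ([1, 3], [3, 1], [1, 2, 1,
  0, 2, 3, 2, 1, 0, 2], 3), ([2, 3], [2, 3, 2], [], 0), ([0, 1, 2], [2, 1, 2, 0, 1, 2, 0, 1, 0],
  [2, 1, 0, 2, 1, 2, 3, 2, 1, 0, 2, 1, 2], 4), ([0, 1, 3], [3, 0, 1, 0], [], 0), ([0, 2, 3], [2,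
  3, 2, 0], [], 0), ([1, 2, 3], [3, 2, 1, 2, 3, 2, 1, 2, 1], [1, 2, 1, 0, 2, 3, 2, 1, 0, 2, 1, 2,
  3, 2, 1], 5), ([0, 1, 2, 3], [3, 2, 1, 2, 0, 1, 2, 3, 2, 1, 2, 0, 1, 2, 3, 2, 1, 2, 0, 1, 2, 0,
  1, 0], [2, 1, 0, 2, 1, 2, 3, 2, 1, 0, 2, 1, 2, 3, 2], 6)]

theorem invRepsF4_eq_1' : type_of% @invRepsF4.eq_1 := @invRepsF4.eq_1
theorem invRanksF4_eq_1' : type_of% @invRanksF4.eq_1 := @invRanksF4.eq_1
theorem invClsF4_eq_1' : type_of% @invClsF4.eq_1 := @invClsF4.eq_1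
theorem invCertF4_eq_1' : type_of% @invCertF4.eq_1 := @invCertF4.eq_1

theorem invRepsF4_ok : ∀ b ∈ invRepsF4, repChk certF4.T id b = true := by decide +kernel

theorem invRanksF4_ok : ∀ p ∈ invRepsF4.zip invRanksF4,
    rankChk certF4.T p.1 (p.2 + 1) = true := by decide +kernel

theorem invClsF4_ok : ∀ e ∈ invClsF4,
    classChk certF4.T certF4.wt id invRepsF4 e.1 e.2.1 e.2.2 = true := by decide +kernel

theorem invCertF4_ok :
    wChk cartanF4 id (fun i => [i]) (invClsF4.map fun e => wWord e.1) invCertF4 = true := by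
  decide +kernel

variable {F : Type*} [Field F] [CharP F 2]

theorem invRepsF4_spec : ∀ b ∈ invRepsF4.map (w1 F chevF4), b ∈ chevF4.group F ∧ orderOf b = 2 :=
  certF4.reps_spec rootF4 rfl invRepsF4_ok invRanksF4_ok

theorem exists_conj_invRepsF4 [Finite F] : ∀ g ∈ chevF4.group F, orderOf g = 2 →
    ∃ z ∈ chevF4.group F, ∃ b ∈ invRepsF4.map (w1 F chevF4), z * g * z⁻¹ = b := fun _ hg ho => by
  obtain ⟨z, hz, b, hb, e⟩ := certF4.exists_conj_rep_triv rootF4 (hasC_F4 rootF4) invRepsF4_ok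
    invClsF4_ok invCertF4_ok hg ho
  exact ⟨z, hz, _, List.mem_map_of_mem hb, e⟩

end Cfsg.Lib.Chev.Core
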