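/- Representations of type D4. -/
import Cfsg.Agent.Chev.RepForm
import Cfsg.Agent.Chev.CoreCertD4
import Cfsg.Agent.Chev.RootCertSmall

namespace Cfsg.Lib.Chev.Core

open Cfsg.Lie

/-- Packed columns: the natural 8-dimensional representation of type D4. -/
def rtabD4 : RTab where
  d := 8
  w := 16
  rows := [0x4170519c105178a,
    0x417000006195f3c913b,
    0x4170000000000000000000000000319fd740aec,
    0x4170000000007199bab849d,
    0x41900000000000000000000021739e2fe4e,
    0x41700000000000000000119d81a77ff,
    0x519061700007651f1b0,
    0x519000000000000000000000317000014896b61,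
    0x519000007170000b2c0e512,
    0x51700000000000000000219000050f85ec3,
    0x6170000000000000000031900000000ef2fd874,
    0x6170719000000008d675225,
    0x21903170000000000000000000000002b9ecbd6,
    0x717000000000219000000000000c9d64587,
    0x61700000000011900000000680dbf38,
    0x1170000031900000000000000000000064538e9,
    0x71900000117000000000000a47cb29a,
    0x11702190000000000000000000042b42c4b,
    0x5170000000000190000e0eba5fc,
    0x61900000017000000007f231fad,
    0x1900000000031700000000000000001d5a995e,
    0x7170019000000000000bb92130f,
    0x1900000217000000000000000059c98cc0,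
    0x1901170000000000000000f8010671]

/-- Packed weights. -/
def rwtD4 : List Nat := [0x8897887996388022,
    0x89788798346ff9d3,
    0x97887988d2a77384,
    0x7788998870deed35]

theorem raddD4 : rtabD4.addChk tabD4.n = true := by decide +kernel
theorem rconjD4_0 : rtabD4.nconjChk tabD4 0 (nth wtD4 0) (nth etD4 0) = true := by decide +kernel
theorem rconjD4_1 : rtabD4.nconjChk tabD4 1 (nth wtD4 1) (nth etD4 1) = true := by decide +kernel
theorem rconjD4_2 : rtabD4.nconjChk tabD4 2 (nth wtD4 2) (nth etD4 2) = true := by decide +kernel
theorem rconjD4_3 : rtabD4.nconjChk tabD4 3 (nth wtD4 3) (nth etD4 3) = true := by decide +kernel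
theorem rcommD4 : rtabD4.commChk chevD4 tabD4 wtD4 false = true := by decide +kernel
theorem rhelD4 : rtabD4.helChk tabD4 rwtD4 = true := by decide +kernel
theorem rstabD4 : rtabD4.stabChk tabD4.n 0 0 5 = true := by decide +kernel

/-- The natural 8-dimensional representation of type D4. -/
def repD4 : Rep certD4 where
  P := rtabD4
  wts := rwtD4
  brute := false
  b₀ := 0
  r₀ := 0
  b₁ := 5
  len := rfl
  add := raddD4
  nconj := Or.inr ⟨by decide, fun i hi => by
    have hi' : i < 4 := hi
    interval_cases i
    · exact rconjD4_0
    · exact rconjD4_1
    · exact rconjD4_2
    · exact rconjD4_3⟩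
  comm := rcommD4
  hel := rhelD4
  stab := rstabD4

/-- The monomials of the quadratic form. -/
def cubD4 : Cub := [(0, 4, 255, 1), (1, 5, 255, 1), (2, 6, 255, 1), (3, 7, 255, 1)]

theorem rformD4 : allLt tabD4.n (fun r => rtabD4.formChk [(r, [(1, 0, 1)])] cubD4) = true := by decide +kernel

/-- Packed columns: the sum of the natural and a half-spin representation of type D4. -/
def rtabD4s : RTab where
  d := 16
  w := 16
  rows := [0xf190e19000000000000000000000000041705190f1666e6,
    0xf1900000d1700000000000000000000041700000619ad4de097,
    0xe170d170000041700000000000000000000000003194b855a48,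
    0xf190000000000000b1900000000000000000417000000000719e9bcd3f9,
    0xe17000000000b1900000000041900000000000000000000021787f44daa,
    0xd1900000b190000000000000000041700000000000000000119262bc75b,
    0xf17000000000c1700000000000000000000051906170000c463410c,
    0xe1900000c17000005190000000000000000000003170000629ababd,
    0xf1700000000000000000a190000000000000000051900000717000000d2346e,
    0xe190000000000000a190000000005170000000000000000021900009f09ae1f,
    0xd190c1900000000061700000000000000000319000000003d4127d0,
    0xf1900000000000000000000091900000000000000000617071900000000db78a181,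
    0xe1900000000000000000000081900000219031700000000000000000000000079b01b32,
    0xb190a1900000000000000000000071700000000021900000000000017e794e3,
    0xd1900000000000009190000000000000000061700000000011900000000b61f0e94,
    0xd1700000000000000000819000000000117000003190000000000000000000054568845,
    0xb1900000917000000000000000000000000071900000117000000000000f28e01f6,
    0xb1700000000081700000000000000000000011702190000000000000000000090c57ba7,
    0xc1900000a19000000000000000000000000051700000000001900002efcf558,
    0xc1700000000091900000000000000000000000006190000001700000000cd346f09,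
    0xc190000000000000819000000000000001900000000031700000000000000006b6be8ba,
    0xa170917000000000000000000000000000000000717001900000000000009a3626b,
    0xa19000008170000000000000000000000000019000002170000000000000000a7dadc1c,
    0x919081900000000000000000000000000000000001901170000000000000000461255cd]

/-- Packed weights. -/
def rwtD4s : List Nat := [0x8879798888978879e449cf7e,
    0x87988798897887988281492f,
    0x887799889788798820b8c2e0,
    0x7988887977889988bef03c91]

theorem raddD4s : rtabD4s.addChk tabD4.n = true := by decide +kernel
theorem rconjD4s_0 : rtabD4s.nconjChk tabD4 0 (nth wtD4 0) (nth etD4 0) = true := by decide +kernel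
theorem rconjD4s_1 : rtabD4s.nconjChk tabD4 1 (nth wtD4 1) (nth etD4 1) = true := by decide +kernel
theorem rconjD4s_2 : rtabD4s.nconjChk tabD4 2 (nth wtD4 2) (nth etD4 2) = true := by decide +kernel
theorem rconjD4s_3 : rtabD4s.nconjChk tabD4 3 (nth wtD4 3) (nth etD4 3) = true := by decide +kernel
theorem rcommD4s : rtabD4s.commChk chevD4 tabD4 wtD4 false = true := by decide +kernel
theorem rhelD4s : rtabD4s.helChk tabD4 rwtD4s = true := by decide +kernel
theorem rstabD4s : rtabD4s.stabChk tabD4.n 0 0 5 = true := by decide +kernel

/-- The sum of the natural and a half-spin representation of type D4. -/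
def repD4s : Rep certD4 where
  P := rtabD4s
  wts := rwtD4s
  brute := false
  b₀ := 0
  r₀ := 0
  b₁ := 5
  len := rfl
  add := raddD4s
  nconj := Or.inr ⟨by decide, fun i hi => by
    have hi' : i < 4 := hi
    interval_cases i
    · exact rconjD4s_0
    · exact rconjD4s_1
    · exact rconjD4s_2
    · exact rconjD4s_3⟩
  comm := rcommD4s
  hel := rhelD4s
  stab := rstabD4s

theorem rspanD4s : repD4s.spanChk [[(0, 1)], [(2, -1), (3, -1), (8, 2)], [(3, -1), (8, 1)], [(8, 1)]] = true := by decide +kernel

/-- The torus of the presented group is as large as possible. -/
theorem hHom_stGen_injective_D4 (F : Type*) [Field F] :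
    Function.Injective ((certD4.model_stGen F rootD4).toStRelN.hHom rootD4) :=
  repD4s.hHom_stGen_injective repD4s.P.finCoding rootD4 (repD4s.span_of_chk _ rspanD4s)

end Cfsg.Lib.Chev.Core
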