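import Cfsg.Agent.Chev.CTSt

/-!
# The Curtis–Tits presentation of the Steinberg group
-/

set_option autoImplicit false
set_option linter.unusedSectionVars false

namespace Cfsg.Lib.Chev

open Cfsg.Lie

variable {F : Type*} [Field F] {D : ChevalleyDatum}

theorem RootData.exists_inJ_of_inRankTwoSub (R : RootData D) {i j r : ℕ}
    (h : D.InRankTwoSub i j r) : ∃ i' j' : Fin D.rank, R.weyl.InJ {i', j'} r ∧ i = i' ∧ j = j' :=
  ⟨⟨i, h.2.1⟩, ⟨j, h.2.2.1⟩, (R.inRankTwoSub_iff ⟨i, h.2.1⟩ ⟨j, h.2.2.1⟩ r).1 h, rfl, rfl⟩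

theorem ctRel_ctGen (R : RootData D) :
    CTRel R fun r (t : F) => PresentedGroup.mk (D.curtisTitsRels F) (D.stX r t) where
  add i j r hr t u := by
    have := PresentedGroup.one_of_mem (rels := D.curtisTitsRels F)
      (Or.inl (Or.inl (Or.inr ⟨i, j, r, t, u, (R.inRankTwoSub_iff i j r).2 hr, rfl⟩)))
    rwa [map_mul, map_mul, map_inv, mul_inv_eq_one] at this
  comm i j r s hr hs h1 h2 t u := by
    have := PresentedGroup.one_of_mem (rels := D.curtisTitsRels F)
      (Or.inl (Or.inr ⟨i, j, r, s, t, u, (R.inRankTwoSub_iff i j r).2 hr,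
        (R.inRankTwoSub_iff i j s).2 hs, h1, h2, rfl⟩))
    simp only [map_mul, map_inv, mul_inv_eq_one, stWord_eq_word, map_word] at this
    rw [← this]
    group

theorem Model.exists_curtisTits_equiv {R : RootData D} (hy : Model R (D.stGen F))
    (hinj : Function.Injective (hy.toStRelN.hHom R)) :
    ∃ e : D.CurtisTitsGroup F ≃* D.SteinbergGroup F, ∀ (i j r : ℕ) (t : F), D.InRankTwoSub i j r →
      e (PresentedGroup.mk (D.curtisTitsRels F) (D.stX r t)) = D.stGen F r t := by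
  classical
  let z : ℕ → F → D.SteinbergGroup F := fun r t =>
    if ∃ i j, D.InRankTwoSub i j r then D.stGen F r t else 1
  have hz : ∀ {i j : Fin D.rank} {r : ℕ}, R.weyl.InJ {i, j} r → ∀ t, z r t = D.stGen F r t :=
    fun {i j r} hr t => if_pos ⟨i, j, (R.inRankTwoSub_iff i j r).2 hr⟩
  have hrel : ∀ g ∈ D.curtisTitsRels F, freeEval D z g = 1 := by
    rintro g (((⟨r, t, hr, h, rfl⟩ | ⟨i, j, r, t, u, h, rfl⟩) |
      ⟨i, j, r, s, t, u, hr, hs, h1, h2, rfl⟩) | ⟨i, j, r, t, u, h, ht, hu, rfl⟩)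
    · rw [freeEval_stX z hr]
      exact if_neg (by simpa using h)
    · obtain ⟨i, j, hJ, -, -⟩ := R.exists_inJ_of_inRankTwoSub h
      simp only [map_mul, map_inv, freeEval_stX z h.1, hz hJ, hy.add r h.1, mul_inv_cancel]
    · obtain ⟨i, j, hJ, rfl, rfl⟩ := R.exists_inJ_of_inRankTwoSub hr
      have hJ' := (R.inRankTwoSub_iff i j s).1 hs
      simp only [map_mul, map_inv, freeEval_stX z hr.1, freeEval_stX z hs.1,
        freeEval_commWord R z hr.1 hs.1, hz hJ, hz hJ', hy.comm_eq hr.1 hs.1 h1 h2]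
      rw [word_congr fun p hp => hz (R.inJ_of_mem_commWord hJ hJ' hp) _, mul_inv_cancel]
    · obtain ⟨i, j, hJ, -, -⟩ := R.exists_inJ_of_inRankTwoSub h
      have e : ∀ t, hel D z r t = hel D (D.stGen F) r t := fun t => by
        have := hz (R.weyl.inJ_neg hJ)
        rw [RootData.weyl_neg] at this
        simp only [hel, nel, hz hJ, this]
      simp only [map_mul, map_inv, freeEval_stH R z h.1, e, hy.hmul r h.1 t u ht hu, mul_inv_cancel]
  let φ : D.CurtisTitsGroup F →* D.SteinbergGroup F := PresentedGroup.toGroup hrel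
  have hφ : ∀ r, r < D.nroots → ∀ t,
      φ (PresentedGroup.mk (D.curtisTitsRels F) (D.stX r t)) = z r t :=
    fun r hr t => freeEval_stX z hr t
  obtain ⟨f, hf⟩ := hy.ct_exists_hom (ctRel_ctGen R) closure_stGen hinj fun i t u ht hu => by
    have := PresentedGroup.one_of_mem (rels := D.curtisTitsRels F)
      (Or.inr ⟨i, i, D.simple i, t, u,
        (R.inRankTwoSub_iff i i _).2 (R.weyl.inJ_simple_left i i), ht, hu, rfl⟩)
    rwa [map_mul, map_mul, map_inv, mul_inv_eq_one, map_stH, map_stH, map_stH] at this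
  refine ⟨MonoidHom.toMulEquiv φ f ?_ ?_, fun i j r t h => ?_⟩
  · refine hom_ext_of_closure (closure_mk_stX _) fun r hr t => ?_
    rw [MonoidHom.comp_apply, hφ r hr, MonoidHom.id_apply]
    by_cases h : ∃ i j, D.InRankTwoSub i j r
    · obtain ⟨i, j, h⟩ := h
      obtain ⟨i, j, hJ, -, -⟩ := R.exists_inJ_of_inRankTwoSub h
      rw [hz hJ, hf i j r hJ]
    · rw [show z r t = 1 from if_neg h, map_one]
      exact (PresentedGroup.one_of_mem (rels := D.curtisTitsRels F)
        (Or.inl (Or.inl (Or.inl ⟨r, t, hr, by simpa using h, rfl⟩)))).symm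
  · refine MonoidHom.eq_of_eqOn_dense (hy.gSubF_eq.trans closure_stGen) ?_
    have key : ∀ (i : Fin D.rank) r, R.weyl.InJ {i, i} r → ∀ t,
        (φ.comp f) (D.stGen F r t) = MonoidHom.id _ (D.stGen F r t) := fun i r hr t => by
      rw [MonoidHom.comp_apply, hf i i r hr, hφ r (R.weyl_mem.1 hr.1), hz hr, MonoidHom.id_apply]
    rintro _ ⟨i, t, rfl | rfl⟩
    · exact key i _ (R.weyl.inJ_simple_left i i) t
    · exact key i _ (R.weyl.inJ_neg (R.weyl.inJ_simple_left i i)) t
  · obtain ⟨i, j, hJ, -, -⟩ := R.exists_inJ_of_inRankTwoSub h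
    exact (hφ r h.1 t).trans (hz hJ t)

end Cfsg.Lib.Chev
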