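import Cfsg.Agent.Chev.CTFam
import Cfsg.Agent.Chev.StGroup
import Cfsg.Prelude.Def_CurtisTits

/-!
# Curtis–Tits for the Chevalley data: the relations (R1), (R2) in rank two subsystems suffice
-/

set_option autoImplicit false
set_option linter.unusedSectionVars false

namespace Cfsg.Lib.Chev

open Cfsg.Lie

variable {F G G' : Type*} [Field F] [Group G] [Group G'] {D : ChevalleyDatum}
  {x : ℕ → F → G} {y : ℕ → F → G'} {R : RootData D}

/-- Relations (R1) and (R2) inside the standard subsystems of rank at most two. -/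
structure CTRel (R : RootData D) (x : ℕ → F → G) : Prop where
  add : ∀ (i j : Fin D.rank) r, R.weyl.InJ {i, j} r → ∀ t u : F, x r t * x r u = x r (t + u)
  comm : ∀ (i j : Fin D.rank) r s, R.weyl.InJ {i, j} r → R.weyl.InJ {i, j} s → s ≠ r →
    s ≠ D.neg r → ∀ t u : F, x s u * x r t = x r t * x s u * word x (D.commWord F r s t u)

theorem StRel.ctRel (h : StRel D x) (R : RootData D) : CTRel R x where
  add _ _ r hr := h.add r (R.weyl_mem.1 hr.1)
  comm _ _ r s hr hs := h.comm r s (R.weyl_mem.1 hr.1) (R.weyl_mem.1 hs.1)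

theorem CTRel.prod (h : CTRel R x) (h' : CTRel R y) : CTRel R fun r t => (x r t, y r t) where
  add i j r hr t u := Prod.ext (h.add i j r hr t u) (h'.add i j r hr t u)
  comm i j r s hr hs h1 h2 t u := by
    rw [word_prod]
    exact Prod.ext (h.comm i j r s hr hs h1 h2 t u) (h'.comm i j r s hr hs h1 h2 t u)

theorem RootData.inJ_of_mem_commTerms (R : RootData D) {J : Set (Fin D.rank)} {r s : ℕ}
    (hr : R.weyl.InJ J r) (hs : R.weyl.InJ J s) {c : ℕ × ℤ × ℕ × ℕ} (hc : c ∈ D.commTerms r s) :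
    R.weyl.InJ J c.1 := by
  obtain ⟨h3, -, -, h6⟩ := R.commTerms_spec (R.weyl_mem.1 hr.1) (R.weyl_mem.1 hs.1) hc
  refine ⟨R.weyl_mem.2 h3, fun k hk => ?_⟩
  have h1 := hr.2 k hk
  have h2 := hs.2 k hk
  rw [RootData.weyl_rc] at h1 h2 ⊢
  simp [h6, h1, h2]

theorem RootData.inJ_of_mem_commWord (R : RootData D) {J : Set (Fin D.rank)} {r s : ℕ}
    (hr : R.weyl.InJ J r) (hs : R.weyl.InJ J s) {t u : F} {p : ℕ × F}
    (hp : p ∈ D.commWord F r s t u) : R.weyl.InJ J p.1 := by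
  obtain ⟨c, hc, rfl⟩ := List.mem_map.1 hp
  exact R.inJ_of_mem_commTerms hr hs hc

theorem RootData.inJ_reflect (R : RootData D) {i j : Fin D.rank} {r : ℕ}
    (hr : R.weyl.InJ {i, j} r) : R.weyl.InJ {i, j} (D.reflectRoot i r) := by
  rw [← R.weyl_s_smul i (R.weyl_mem.1 hr.1)]
  exact R.weyl.inJ_smul (R.weyl.s_mem_WJ (by simp)) hr

theorem RootData.inRankTwoSub_iff (R : RootData D) (i j : Fin D.rank) (r : ℕ) :
    D.InRankTwoSub i j r ↔ R.weyl.InJ {i, j} r := by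
  have : ({i, j} : Set (Fin D.rank)) = Fin.val ⁻¹' {(i : ℕ), (j : ℕ)} := by
    ext k; simp [Fin.ext_iff]
  rw [this, R.weyl_inJ]
  simp [ChevalleyDatum.InRankTwoSub, ChevalleyDatum.InRootSub]

open Classical in
/-- The root subgroups of the subsystem `Φ_J`, all others being replaced by the trivial group. -/
noncomputable def truncX (R : RootData D) (J : Set (Fin D.rank)) (x : ℕ → F → G) (r : ℕ) :
    Subgroup G := if R.weyl.InJ J r then xSub x r else ⊥

theorem truncX_eq_1' : type_of% @truncX.eq_1 := @truncX.eq_1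

theorem x_mem_truncX {J : Set (Fin D.rank)} {r : ℕ} (hr : R.weyl.InJ J r) (t : F) :
    x r t ∈ truncX R J x r := by
  rw [truncX, if_pos hr]; exact x_mem_xSub x r t

theorem x_mem_trunc_level {J : Set (Fin D.rank)} (φ : (Fin D.rank → ℤ) →ₗ[ℤ] ℤ) {r : ℕ}
    (hr : R.weyl.InJ J r) (h : 0 < φ (R.rc r)) (t : F) :
    x r t ∈ spanX (truncX R J x) {k | k ∈ R.weyl.Φ ∧ 0 < φ (R.rc k)} :=
  mem_spanX (T := {k | k ∈ R.weyl.Φ ∧ 0 < φ (R.rc k)}) _ ⟨hr.1, h⟩ (x_mem_truncX hr t)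

namespace CTRel

variable (h : CTRel R x)
include h

theorem zero {i j : Fin D.rank} {r : ℕ} (hr : R.weyl.InJ {i, j} r) : x r 0 = 1 := by
  simpa using h.add i j r hr 0 0

theorem inv {i j : Fin D.rank} {r : ℕ} (hr : R.weyl.InJ {i, j} r) (t : F) :
    (x r t)⁻¹ = x r (-t) := by
  rw [inv_eq_iff_mul_eq_one, h.add i j r hr, add_neg_cancel, h.zero hr]

theorem nel_inv {i j : Fin D.rank} {r : ℕ} (hr : R.weyl.InJ {i, j} r) (t : F) :
    (nel D x r t)⁻¹ = nel D x r (-t) := by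
  have := h.inv (R.weyl.inJ_neg hr)
  rw [RootData.weyl_neg] at this
  simp only [nel, mul_inv_rev, h.inv hr, this, mul_assoc, inv_neg]

theorem comm_eq {i j : Fin D.rank} {r s : ℕ} (hr : R.weyl.InJ {i, j} r) (hs : R.weyl.InJ {i, j} s)
    (h1 : s ≠ r) (h2 : s ≠ D.neg r) (t u : F) :
    (x s u)⁻¹ * (x r t)⁻¹ * x s u * x r t = word x (D.commWord F r s t u) := by
  rw [mul_assoc, h.comm i j r s hr hs h1 h2]; group

theorem mem_truncX_iff {i j : Fin D.rank} {r : ℕ} {a : G} :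
    a ∈ truncX R {i, j} x r ↔ a = 1 ∨ (R.weyl.InJ {i, j} r ∧ ∃ t, a = x r t) := by
  by_cases hr : R.weyl.InJ {i, j} r
  · rw [truncX, if_pos hr]
    refine (mem_xF_iff (h.add i j r hr)).trans ⟨fun h => Or.inr ⟨hr, h⟩, ?_⟩
    rintro (rfl | h')
    exacts [⟨0, (h.zero hr).symm⟩, h'.2]
  · simp [truncX, hr]

theorem comm_mem {i j : Fin D.rank} {r s : ℕ} (hr : R.weyl.InJ {i, j} r)
    (hs : R.weyl.InJ {i, j} s) (h1 : r ≠ s) (h2 : s ≠ D.neg r) (t u : F) (X : ℕ → Subgroup G)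
    (hX : ∀ k, R.weyl.InJ {i, j} k → ∀ v, x k v ∈ X k) :
    (x r t)⁻¹ * (x s u)⁻¹ * x r t * x s u ∈ spanX X {k | R.weyl.StCone r s k} := by
  have hr' := R.weyl_mem.1 hr.1
  have hs' := R.weyl_mem.1 hs.1
  rw [h.comm_eq hs hr h1 (fun e => h2 (by rw [e, R.neg_neg hs']))]
  refine word_mem _ fun p hp => ?_
  have hp' := R.inJ_of_mem_commWord hs hr hp
  obtain ⟨c, hc, rfl⟩ := List.mem_map.1 hp
  obtain ⟨h3, h4, h5, h6⟩ := R.commTerms_spec hs' hr' hc
  exact mem_spanX _ (T := {k | R.weyl.StCone r s k})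
    ⟨R.weyl_mem.2 h3, c.2.2.2, c.2.2.1, h5, h4, by rw [RootData.weyl_rc, h6, add_comm]⟩ (hX _ hp' _)

theorem rcomm (i j : Fin D.rank) : RComm R.weyl (truncX R {i, j} x) := by
  intro r _ s _ h1 h2 a ha b hb
  rcases h.mem_truncX_iff.1 ha with rfl | ⟨hr, t, rfl⟩
  · simp
  rcases h.mem_truncX_iff.1 hb with rfl | ⟨hs, u, rfl⟩
  · simp
  exact h.comm_mem hr hs h1 h2 t u _ fun k hk v => x_mem_truncX hk v

theorem nel_conj_mem_level {i j : Fin D.rank} (φ : (Fin D.rank → ℤ) →ₗ[ℤ] ℤ) {p : ℕ}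
    (hp : R.weyl.InJ {i, j} p) (h0 : φ (R.rc p) = 0) (t : F) {g : G}
    (hg : g ∈ spanX (truncX R {i, j} x) {k | k ∈ R.weyl.Φ ∧ 0 < φ (R.rc k)}) :
    nel D x p t * g * (nel D x p t)⁻¹ ∈
      spanX (truncX R {i, j} x) {k | k ∈ R.weyl.Φ ∧ 0 < φ (R.rc k)} := by
  refine conj_mem_of_mem_normalizer ((h.rcomm i j).le_normalizer_level φ (c := 1) one_pos ?_) hg
  have h1 : ∀ u, x p u ∈ spanX (truncX R {i, j} x) {r | r ∈ R.weyl.Φ ∧ 0 ≤ φ (R.weyl.rc r)} :=
    fun u => mem_spanX (T := {r | r ∈ R.weyl.Φ ∧ 0 ≤ φ (R.weyl.rc r)}) _ ⟨hp.1, h0.ge⟩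
      (x_mem_truncX hp u)
  refine mul_mem (mul_mem (h1 _) ?_) (h1 _)
  refine mem_spanX (T := {r | r ∈ R.weyl.Φ ∧ 0 ≤ φ (R.weyl.rc r)}) _
    ⟨(R.weyl.inJ_neg hp).1, ?_⟩ (x_mem_truncX (R.weyl.inJ_neg hp) _)
  rw [R.weyl.rc_neg p hp.1, map_neg, RootData.weyl_rc, h0, neg_zero]

end CTRel

/-- Each fundamental root is a term with coefficient `±1` in a commutator formula inside a
subsystem of rank two. -/
theorem RootData.exists_term_inJ (R : RootData D) (i : Fin D.rank) :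
    ∃ (j : Fin D.rank) (a b k : ℕ), R.weyl.InJ {i, j} a ∧ R.weyl.InJ {i, j} b ∧ 1 ≤ k ∧ k ≤ 3 ∧
      D.chainRoot a b k = some (D.simple i) ∧ (D.chainM a b k).natAbs = 1 ∧
      a ≠ D.simple i ∧ b ≠ D.simple i ∧
      ∃ ψ : (Fin D.rank → ℤ) →ₗ[ℤ] ℤ, 0 < ψ (R.rc a) ∧ 0 < ψ (R.rc b) := by
  obtain ⟨i, hi⟩ := i
  have hp := R.simple_lt i hi
  obtain ⟨i', hi', j, hj, hC⟩ := R.connected {⟨i, hi⟩} ⟨_, rfl⟩ (by
    have := R.two_le_rank
    by_cases h0 : i = 0
    · exact ⟨⟨1, by omega⟩, by simp [h0]⟩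
    · exact ⟨⟨0, by omega⟩, by simpa using Ne.symm h0⟩)
  obtain rfl : i' = ⟨i, hi⟩ := hi'
  have hji : j ≠ ⟨i, hi⟩ := hj
  have hq := R.simple_lt j j.2
  have hne : D.simple i ≠ D.simple j := fun e => hji (Fin.ext (R.simple_inj hi j.2 e).symm)
  have hC' : D.cartan j (D.simple i) ≠ 0 := by
    rw [← R.pairing_simple j.2 hp, Ne, R.pairing_eq_zero_comm hq hp, R.pairing_simple hi hq]
    exact hC
  have hb := R.reflect_pos j.2 (R.simple_pos hi) hne
  have hrc := R.rc_reflect j _ hp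
  have hrci := R.rc_simple ⟨i, hi⟩
  have hrcj := R.rc_simple j
  have hneg : D.cartan j (D.simple i) < 0 := by
    have := R.rc_nonneg _ hb j
    rw [hrc, hrci, hrcj] at this
    simp [hji] at this
    omega
  have hbd := (R.pairing_bound hq hp).1
  rw [R.pairing_simple j.2 hp] at hbd
  obtain ⟨k, hk⟩ : ∃ k : ℕ, D.cartan j (D.simple i) = -k :=
    ⟨(-D.cartan j (D.simple i)).toNat, by omega⟩
  have hna := R.neg_lt hq
  have hbne : D.reflectRoot j (D.simple i) ≠ D.simple j := R.reflect_ne_simple j.2 (R.simple_pos hi)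
  have hcr : D.chainRoot (D.neg (D.simple j)) (D.reflectRoot j (D.simple i)) k =
      some (D.simple i) := by
    rw [R.chainRoot_iff _ _ _ _ hna hb.1 (by omega), R.neg_neg hq]
    refine ⟨fun e => ?_, hbne, hp, ?_⟩
    · exact R.not_neg_of_pos hb (e ▸ (R.isNegRoot_neg_iff hq).2 (R.simple_pos j.2))
    · rw [hrc, R.rc_neg _ hq, hk]; module
  refine ⟨j, D.neg (D.simple j), D.reflectRoot j (D.simple i), k,
    R.weyl.inJ_neg (R.weyl.inJ_simple_right _ j), ?_, by omega, by omega, hcr,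
    ?_, ?_, ?_, (k + 1 : ℤ) • LinearMap.proj ⟨i, hi⟩ - LinearMap.proj j, ?_, ?_⟩
  · rw [Set.pair_comm]
    exact R.inJ_reflect (R.weyl.inJ_simple_right j ⟨i, hi⟩)
  · rw [R.chainM_natAbs _ _ _ _ hna hb.1 (by omega) hcr, R.neg_neg hq]
    have : D.chainRoot (D.simple j) (D.reflectRoot j (D.simple i)) 1 = none := by
      rcases e : D.chainRoot (D.simple j) (D.reflectRoot j (D.simple i)) 1 with _ | v
      · rfl
      exfalso
      obtain ⟨-, -, hv, h1⟩ := R.chainRoot_spec hq hb.1 le_rfl e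
      have h2 := R.rc_reflect_of_rc_eq j.2 hb.1 hq hv (a := 1) (b := 1) (by rw [h1]; simp)
      rw [R.reflect_reflect j.2 hp, R.reflect_simple_self j.2, R.rc_neg _ hq, hrci, hrcj] at h2
      have h3 := R.pos_of_coord (R.reflect_lt j v j.2 hv) ⟨i, hi⟩ (by rw [h2]; simp [hji.symm])
      have h4 := R.rc_nonneg _ h3 j
      rw [h2] at h4
      simp [hji] at h4
    rw [RootData.chainRoot_eq_none_iff_chainEntry] at this
    rw [Nat.le_zero.1 this]
    simp
  · exact fun e => R.not_neg_of_pos (R.simple_pos hi)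
      (e ▸ (R.isNegRoot_neg_iff hq).2 (R.simple_pos j.2))
  · rw [Ne, R.reflect_eq_self_iff j.2 hp]; exact hC'
  · rw [R.rc_neg _ hq, hrcj]; simp [hji.symm]
  · rw [hrc, hrci, hrcj, hk]; simp [hji, hji.symm]

namespace Model

variable (hy : Model R y) (h : CTRel R x) (θ : G →* G')
  (hθ : ∀ (i j : Fin D.rank) r, R.weyl.InJ {i, j} r → ∀ t, θ (x r t) = y r t)
include hy h hθ

theorem loc_eq_of_map_eq {i j : Fin D.rank} (φ : (Fin D.rank → ℤ) →ₗ[ℤ] ℤ) {a b : G}
    (ha : a ∈ spanX (truncX R {i, j} x) {k | k ∈ R.weyl.Φ ∧ 0 < φ (R.rc k)})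
    (hb : b ∈ spanX (truncX R {i, j} x) {k | k ∈ R.weyl.Φ ∧ 0 < φ (R.rc k)}) (e : θ a = θ b) :
    a = b := by
  rw [← mul_inv_eq_one]
  refine (h.rcomm i j).eq_one_of_map_eq_one θ ?_ (fun _ h => h.1) (R.weyl.stClosed_gt φ le_rfl) φ
    (fun _ h => h.2) (mul_mem ha (inv_mem hb)) (by simp [e])
  intro ψ m hm hpos a ha u hu e
  rcases h.mem_truncX_iff.1 ha with rfl | ⟨hm', t, rfl⟩
  · rfl
  have h1 : spanX (truncX R {i, j} x) {k | k ∈ R.weyl.Φ ∧ ψ (R.weyl.rc m) < ψ (R.weyl.rc k)} ≤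
      (spanX (xSub y) {k | k ∈ R.weyl.Φ ∧ ψ (R.weyl.rc m) < ψ (R.weyl.rc k)}).comap θ := by
    refine spanX_le_iff.2 fun r hr a ha => ?_
    rcases h.mem_truncX_iff.1 ha with rfl | ⟨hr', t, rfl⟩
    · exact one_mem _
    rw [Subgroup.mem_comap, hθ i j r hr']
    exact mem_spanX _ hr (x_mem_xSub y r t)
  have h2 := h1 hu
  rw [Subgroup.mem_comap, ← e, hθ i j m hm'] at h2
  rw [hy.inj m (R.weyl_mem.1 hm) t (hy.faithful.indep ψ m hm hpos _ (x_mem_xSub y m t) h2),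
    h.zero hm']

omit hy h in
theorem loc_map_nel (i : Fin D.rank) (t : F) :
    θ (nel D x (D.simple i) t) = nel D y (D.simple i) t := by
  have h1 := hθ i i _ (R.weyl.inJ_simple_left i i)
  have h2 := hθ i i _ (R.weyl.inJ_neg (R.weyl.inJ_simple_left i i))
  rw [RootData.weyl_neg] at h2
  rw [RootData.weyl_simple] at h1 h2
  simp [nel, h1, h2]

theorem loc_nconj_of_mem {i j k : Fin D.rank} {s : ℕ} (hs : R.weyl.InJ {i, j} s) {t u c : F}
    (hs' : R.weyl.InJ {i, k} (D.reflectRoot i s))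
    (e : nel D y (D.simple i) t * y s u * (nel D y (D.simple i) t)⁻¹ = y (D.reflectRoot i s) c)
    (φ : (Fin D.rank → ℤ) →ₗ[ℤ] ℤ) (h1 : 0 < φ (R.rc (D.reflectRoot i s)))
    (h2 : nel D x (D.simple i) t * x s u * (nel D x (D.simple i) t)⁻¹ ∈
      spanX (truncX R {i, k} x) {k | k ∈ R.weyl.Φ ∧ 0 < φ (R.rc k)}) :
    nel D x (D.simple i) t * x s u * (nel D x (D.simple i) t)⁻¹ = x (D.reflectRoot i s) c := by
  refine hy.loc_eq_of_map_eq h θ hθ φ h2 (x_mem_trunc_level φ hs' h1 _) ?_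
  rw [map_mul, map_mul, map_inv, loc_map_nel θ hθ, hθ i j s hs, hθ i k _ hs', e]

theorem loc_nconj_of_ne {i j : Fin D.rank} {s : ℕ} (hs : R.weyl.InJ {i, j} s)
    (h1 : s ≠ D.simple i) (h2 : s ≠ D.neg (D.simple i)) {t u c : F}
    (e : nel D y (D.simple i) t * y s u * (nel D y (D.simple i) t)⁻¹ = y (D.reflectRoot i s) c) :
    nel D x (D.simple i) t * x s u * (nel D x (D.simple i) t)⁻¹ = x (D.reflectRoot i s) c := by
  have hs' := hs.1
  have h0 : R.weyl.stHt {i} (R.rc (D.simple i)) = 0 :=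
    (R.weyl.stHt_eq_zero_iff _ (R.weyl.simple_mem i)).2 (R.weyl.stIn_simple_iff.2 rfl)
  have h3 : R.weyl.stHt {i} (R.rc s) ≠ 0 := fun h => by
    rcases R.weyl.stIn_singleton_iff.1 ((R.weyl.stHt_eq_zero_iff _ hs').1 h) with h | h
    exacts [h1 h, h2 h]
  have h4 : R.weyl.stHt {i} (R.rc (D.reflectRoot i s)) = R.weyl.stHt {i} (R.rc s) := by
    rw [← R.weyl_s_smul i (R.weyl_mem.1 hs')]
    exact R.weyl.stHt_s_smul (J := {i}) rfl hs'
  rcases lt_or_gt_of_ne h3 with h5 | h5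
  · refine hy.loc_nconj_of_mem h θ hθ hs (R.inJ_reflect hs) e (-R.weyl.stHt {i})
      (by simpa [h4] using h5) ?_
    exact h.nel_conj_mem_level _ (R.weyl.inJ_simple_left i j) (by simpa using h0) t
      (x_mem_trunc_level _ hs (by simpa using h5) u)
  · refine hy.loc_nconj_of_mem h θ hθ hs (R.inJ_reflect hs) e (R.weyl.stHt {i}) (by rwa [h4]) ?_
    exact h.nel_conj_mem_level _ (R.weyl.inJ_simple_left i j) h0 t (x_mem_trunc_level _ hs h5 u)

theorem loc_nconj_simple (i : Fin D.rank) {t u c : F} (ht : t ≠ 0)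
    (e : nel D y (D.simple i) t * y (D.simple i) u * (nel D y (D.simple i) t)⁻¹ =
      y (D.reflectRoot i (D.simple i)) c) :
    nel D x (D.simple i) t * x (D.simple i) u * (nel D x (D.simple i) t)⁻¹ =
      x (D.reflectRoot i (D.simple i)) c := by
  obtain ⟨η, -, -, hη⟩ := hy.nconj
  obtain ⟨j, a, b, k, haJ, hbJ, k1, k3, hcr, hM, ha', hb', ψ, ψa, ψb⟩ := R.exists_term_inJ i
  have ha := R.weyl_mem.1 haJ.1
  have hb := R.weyl_mem.1 hbJ.1
  have hi := i.2
  have hp := R.simple_lt i hi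
  have hpJ : R.weyl.InJ {i, j} (D.simple i) := R.weyl.inJ_simple_left i j
  obtain ⟨hba, hba', -, hrc⟩ := R.chainRoot_spec ha hb k1 hcr
  have hψp : 0 < ψ (R.rc (D.simple i)) := by
    rw [hrc, map_add, map_smul, smul_eq_mul]; positivity
  have hφ : ∀ r, r < D.nroots →
      (ψ ∘ₗ R.weyl.sl i) (R.rc (D.reflectRoot i r)) = ψ (R.rc r) := fun r hr => by
    have := R.weyl.rc_σ' i (R.weyl_mem.2 hr)
    rw [LinearMap.comp_apply, show R.rc (D.reflectRoot i r) = _ from this, R.weyl.sl_sl]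
    rfl
  refine hy.loc_nconj_of_mem h θ hθ hpJ (R.inJ_reflect hpJ) e (ψ ∘ₗ R.weyl.sl i)
    (by rwa [hφ _ hp]) ?_
  set K := spanX (truncX R {i, j} x) {k | k ∈ R.weyl.Φ ∧ 0 < (ψ ∘ₗ R.weyl.sl i) (R.rc k)}
  let M : Subgroup G := K.comap (MulAut.conj (nel D x (D.simple i) t)).toMonoidHom
  have hM1 : ∀ r, R.weyl.InJ {i, j} r → 0 < ψ (R.rc r) → r ≠ D.simple i → ∀ v, x r v ∈ M := by
    intro r hrJ h1 h2 v
    have hr := R.weyl_mem.1 hrJ.1
    have h3 : r ≠ D.neg (D.simple i) := by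
      rintro rfl
      rw [R.rc_neg _ hp, map_neg] at h1
      omega
    change nel D x (D.simple i) t * x r v * (nel D x (D.simple i) t)⁻¹ ∈ K
    rw [hy.loc_nconj_of_ne h θ hθ hrJ h2 h3 (hη i r hi hr t v ht)]
    exact x_mem_trunc_level _ (R.inJ_reflect hrJ) (by rwa [hφ r hr]) _
  change x (D.simple i) u ∈ M
  obtain ⟨L₁, L₂, hL⟩ := List.append_of_mem (mem_commTerms_left k1 k3 hcr)
  have hnd := commTerms_nodup D a b
  have hM2 : ∀ c ∈ D.commTerms a b, c.2.2 ≠ (k, 1) → ∀ v, x c.1 v ∈ M := by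
    intro c hc h1 v
    obtain ⟨h2, h3, h4, h5⟩ := R.commTerms_spec ha hb hc
    refine hM1 _ (R.inJ_of_mem_commTerms haJ hbJ hc)
      (by rw [h5, map_add, map_smul, map_smul, smul_eq_mul, smul_eq_mul]; positivity)
      (fun e => h1 ?_) v
    rw [e, hrc] at h5
    have := R.lin_indep ha hb hba hba' (a := c.2.2.1 - k) (b := c.2.2.2 - 1)
      (by rw [sub_smul, sub_smul, one_smul, sub_add_sub_comm, ← h5, add_comm, sub_self])
    exact Prod.ext (by simp only; omega) (by simp only; omega)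
  set m : F := (D.chainM a b k : F)
  have hm : m * m = 1 := by
    rcases Int.natAbs_eq_iff.1 hM with h | h <;> simp [m, h]
  have h1 := h.comm_eq haJ hbJ hba hba' (-1) (m * u)
  have h2 : word x (D.commWord F a b (-1) (m * u)) ∈ M := by
    rw [← h1]
    exact mul_mem (mul_mem (mul_mem (inv_mem (hM1 b hbJ ψb hb' _)) (inv_mem (hM1 a haJ ψa ha' _)))
      (hM1 b hbJ ψb hb' _)) (hM1 a haJ ψa ha' _)
  rw [ChevalleyDatum.commWord, hL, List.map_append, List.map_cons, word_append, word_cons] at h2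
  rw [hL, List.map_append, List.map_cons, List.nodup_append] at hnd
  have h3 := (M.mul_mem_cancel_left (word_mem M fun p hp => by
    obtain ⟨c, hc, rfl⟩ := List.mem_map.1 hp
    exact hM2 c (by simp [hL, hc]) (hnd.2.2 _ (List.mem_map_of_mem hc) _ (by simp)) _)).1 h2
  have h4 := (M.mul_mem_cancel_right (word_mem M fun p hp => by
    obtain ⟨c, hc, rfl⟩ := List.mem_map.1 hp
    exact hM2 c (by simp [hL, hc]) (fun e => (List.nodup_cons.1 hnd.2.1).1
      (List.mem_map.2 ⟨c, hc, e⟩)) _)).1 h3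
  simpa [m, ← mul_assoc, hm] using h4

theorem loc_nconj_map {i j : Fin D.rank} {s : ℕ} (hs : R.weyl.InJ {i, j} s) {t u c : F}
    (ht : t ≠ 0)
    (e : nel D y (D.simple i) t * y s u * (nel D y (D.simple i) t)⁻¹ = y (D.reflectRoot i s) c) :
    nel D x (D.simple i) t * x s u * (nel D x (D.simple i) t)⁻¹ = x (D.reflectRoot i s) c := by
  by_cases h1 : s = D.simple i
  · subst h1; exact hy.loc_nconj_simple h θ hθ i ht e
  by_cases h2 : s = D.neg (D.simple i)
  swap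
  · exact hy.loc_nconj_of_ne h θ hθ hs h1 h2 e
  subst h2
  have hi := i.2
  have hp := R.simple_lt i hi
  have hpJ : R.weyl.InJ {i, j} (D.simple i) := R.weyl.inJ_simple_left i j
  obtain ⟨η, hη1, -, hη⟩ := hy.nconj
  have hc : (η i (D.simple i) : F) * (-t) ^ (-D.cartan i (D.simple i)) ≠ 0 :=
    mul_ne_zero (sign_cast_ne_zero (hη1 i _ hi hp).1) (zpow_ne_zero _ (neg_ne_zero.2 ht))
  have h3 := hy.loc_nconj_simple h θ hθ i (neg_ne_zero.2 ht) (hη i _ hi hp (-t)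
    (((η i (D.simple i) : F) * (-t) ^ (-D.cartan i (D.simple i)))⁻¹ * u) (neg_ne_zero.2 ht))
  rw [mul_inv_cancel_left₀ hc, R.reflect_simple_self hi, ← h.nel_inv hpJ] at h3
  refine hy.loc_nconj_of_mem h θ hθ hs (R.inJ_reflect hs) e (R.weyl.stHt ∅) ?_ ?_
  · rw [R.reflect_neg_simple_self hi]
    exact (R.weyl.stHt_empty_pos_iff (R.weyl_mem.2 hp)).2 (R.weyl.pos_simple i)
  · rw [← h3]
    simp only [mul_assoc, mul_inv_cancel_left, inv_inv, mul_inv_cancel, mul_one]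
    exact x_mem_trunc_level _ hpJ ((R.weyl.stHt_empty_pos_iff
      (R.weyl_mem.2 hp)).2 (R.weyl.pos_simple i)) _

theorem locFam_of_map : LocFam R.weyl x where
  add := h.add
  comm i j r s hr hs h1 h2 t u := h.comm_mem hr hs h1 h2 t u _ fun k _ v => x_mem_xF x k v
  conj i j r hr t ht := by
    obtain ⟨η, h1, -, h3⟩ := hy.nconj
    have hr' := R.weyl_mem.1 hr.1
    obtain ⟨h4, h5⟩ := h1 i r i.2 hr'
    refine ⟨(η i r : F) * t ^ (-D.cartan i r),
      mul_ne_zero (sign_cast_ne_zero h4) (zpow_ne_zero _ ht), fun u => ?_, fun u => ?_⟩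
    · exact hy.loc_nconj_map h θ hθ hr ht (h3 i r i.2 hr' t u ht)
    · have := hy.loc_nconj_map h θ hθ (R.weyl.inJ_neg hr) ht (h3 i _ i.2 (R.neg_lt hr') t u ht)
      rw [RootData.weyl_neg, R.reflect_neg i.2 hr', R.cartan_neg i.2 hr'] at this
      refine this.trans ?_
      have h6 : η i (D.neg r) = η i r := by
        rcases h4 with e | e <;> rw [e] at h5 ⊢ <;> omega
      rw [h6, mul_inv, ← zpow_neg]
      congr 3
      rcases h4 with e | e <;> simp [e]

omit hθ in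
/-- The local form of Steinberg's theorem. -/
theorem locFam_prod : LocFam R.weyl fun r t => (y r t, x r t) :=
  hy.locFam_of_map ((hy.toStRel.ctRel R).prod h) (MonoidHom.fst G' G) fun _ _ _ _ _ => rfl

/-- **Curtis–Tits.** -/
theorem ct_central {g : G} (hg : g ∈ gSubF R.weyl x) (e : θ g = 1) :
    g ∈ hSubF R.weyl x ∧ ∀ a ∈ gSubF R.weyl x, g * a = a * g :=
  (hy.locFam_of_map h θ hθ).central hy.faithful θ
    (fun i => hθ i i _ (R.weyl.inJ_simple_left i i))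
    (fun i => hθ i i _ (R.weyl.inJ_neg (R.weyl.inJ_simple_left i i))) (fun _ => rfl)
    (Subgroup.closure_mono (by
      rintro _ ⟨i, t, ht, rfl⟩
      exact ⟨_, t, R.simple_lt i i.2, ht, rfl⟩))
    (fun i => (hy.toStRelW.rgd R).lifts_n i) (fun i => hy.inj _ (R.simple_lt i i.2)) hg e

omit h hθ in
theorem gSubF_eq : gSubF R.weyl y = Subgroup.closure {g | ∃ r t, r < D.nroots ∧ g = y r t} := by
  rw [← hy.toStRelW.rgd_G0 R]
  refine le_antisymm ((Subgroup.closure_le _).2 ?_)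
    ((hy.toStRelW.rgd R).G0_le_of_simple ?_ (fun i => ?_) fun i => ?_)
  · rintro _ ⟨i, t, rfl | rfl⟩
    · exact (hy.toStRelW.rgd R).X_le_G0 (R.weyl.simple_mem i) (x_mem_xSub y _ _)
    · exact (hy.toStRelW.rgd R).X_le_G0 (R.weyl.neg_mem _ (R.weyl.simple_mem i)) (x_mem_xSub y _ _)
  · rw [StRelW.rgd_H, hy.toStRelN.hSub_eq_closure R]
    refine le_trans ((Subgroup.closure_le _).2 ?_) hSubF_le_gSubF
    rintro _ ⟨i, t, hi, ht, rfl⟩
    exact hF_mem_hSubF (R := R.weyl) ⟨i, hi⟩ ht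
  · exact Subgroup.closure_mono (by rintro _ ⟨t, rfl⟩; exact ⟨i, t, Or.inl rfl⟩)
  · exact Subgroup.closure_mono (by rintro _ ⟨t, rfl⟩; exact ⟨i, t, Or.inr rfl⟩)

omit hθ in
/-- The central quotient of a group generated by a local family is an image of each model. -/
theorem ct_exists_hom_quotient
    (hy' : Subgroup.closure {g | ∃ r t, r < D.nroots ∧ g = y r t} = ⊤)
    (hx : gSubF R.weyl x = ⊤) :
    ∃ f : G' →* G ⧸ Subgroup.center G, Function.Surjective f ∧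
      ∀ (i j : Fin D.rank) r, R.weyl.InJ {i, j} r → ∀ t,
        f (y r t) = (x r t : G ⧸ Subgroup.center G) := by
  obtain ⟨f, hf, h1⟩ := exists_hom_quotient_center
    (K := gSubF R.weyl fun r t => (y r t, x r t))
    ((map_gSubF _ (fun _ _ => rfl) fun _ _ => rfl).trans (hy.gSubF_eq.trans hy'))
    ((map_gSubF _ (fun _ _ => rfl) fun _ _ => rfl).trans hx)
    fun g hg e => (hy.ct_central ((hy.toStRel.ctRel R).prod h) (MonoidHom.fst G' G)
      (fun _ _ _ _ _ => rfl) hg e).2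
  exact ⟨f, hf, fun i j r hr t => h1 _ ((hy.locFam_prod h).x_mem_gSubF' hr t)⟩

omit hθ in
/-- A local family with multiplicative `h_p(t)` is an image of a simply connected model. -/
theorem ct_exists_hom (hy' : Subgroup.closure {g | ∃ r t, r < D.nroots ∧ g = y r t} = ⊤)
    (hinj : Function.Injective (hy.toStRelN.hHom R))
    (hm : ∀ (i : Fin D.rank) (t u : F), t ≠ 0 → u ≠ 0 →
      hel D x (D.simple i) t * hel D x (D.simple i) u = hel D x (D.simple i) (t * u)) :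
    ∃ f : G' →* G, ∀ (i j : Fin D.rank) r, R.weyl.InJ {i, j} r → ∀ t, f (y r t) = x r t := by
  have hL := hy.locFam_prod h
  have hp : ∀ (i : Fin D.rank) (t : F), hF R.weyl (fun r t => (y r t, x r t)) (R.weyl.simple i) t =
      (hel D y (D.simple i) t, hel D x (D.simple i) t) := fun _ _ => rfl
  obtain ⟨φ, hφ, hφ'⟩ := hL.exists_hHom fun i t u ht hu => by
    rw [hp, hp, hp]
    exact Prod.ext (hy.hmul _ (R.simple_lt i i.2) t u ht hu) (hm i t u ht hu)
  have h1 : (MonoidHom.fst G' G).comp φ = hy.toStRelN.hHom R := by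
    refine MonoidHom.pi_ext fun i t => ?_
    rw [MonoidHom.comp_apply, hφ, hp, StRelN.hHom_mulSingle]
    rfl
  obtain ⟨f, hf⟩ := exists_hom_of_graph (K := gSubF R.weyl fun r t => (y r t, x r t))
    ((map_gSubF _ (fun _ _ => rfl) fun _ _ => rfl).trans (hy.gSubF_eq.trans hy'))
    fun g hg e => by
      have := (hy.ct_central ((hy.toStRel.ctRel R).prod h) (MonoidHom.fst G' G)
        (fun _ _ _ _ _ => rfl) hg e).1
      rw [← hφ'] at this
      obtain ⟨c, rfl⟩ := this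
      have h2 : c = 1 := hinj (by rw [map_one, ← h1]; exact e)
      rw [h2, map_one]
  exact ⟨f, fun i j r hr t => hf _ (hL.x_mem_gSubF' hr t)⟩

omit h hθ in
theorem hHom_injective_of_cartan (hc : Function.Injective (cartanHom D Fˣ)) :
    Function.Injective (hy.toStRelN.hHom R) := fun c c' e =>
  hc (hy.eq_of_actsBy (hy.toStRelN.actsBy_hHom R c) (e ▸ hy.toStRelN.actsBy_hHom R c'))

end Model

end Cfsg.Lib.Chev
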