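import Cfsg.Agent.Chev.RegFratMat

/-!
# The leading coefficients of a commutator of unipotent elements
-/

set_option autoImplicit false
set_option linter.unusedSectionVars false

namespace Cfsg.Lib.Chev

open Cfsg.Lie

variable {F G : Type*} [Field F] [Group G] {D : ChevalleyDatum} {R : RootData D} {y : ℕ → F → G}

theorem RootData.stHt_empty_eq (R : RootData D) (r : ℕ) : R.weyl.stHt ∅ (R.rc r) = R.ht r := by
  rw [R.weyl.stHt_apply, RootData.ht]; simp

/-- The coefficient of `ν` in the commutator of the root `β` with a fundamental root. -/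
def cN (D : ChevalleyDatum) (ν β : ℕ) (j : Fin D.rank) : ℤ :=
  if D.simple j = β then 0 else
    ((D.commTerms β (D.simple j)).map fun c => if c.1 = ν then -c.2.1 else 0).sum

theorem cN_eq_1' : type_of% @cN.eq_1 := @cN.eq_1

variable (R y) in
/-- The span of the roots of height at least `k`. -/
noncomputable abbrev htLev (k : ℤ) : Subgroup G := lev R.weyl (xSub y) (R.weyl.stHt ∅) k

theorem htLev_eq_1' : type_of% @htLev.eq_1 := @htLev.eq_1

theorem x_mem_htLev {r : ℕ} (hr : r < D.nroots) {k : ℤ} (h : k ≤ R.ht r) (t : F) :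
    y r t ∈ htLev R y k :=
  mem_lev (R.weyl_mem.2 hr) ((R.stHt_empty_eq r).symm ▸ h) (x_mem_xSub y r t)

theorem word_mem_htLev {k : ℤ} {v : List (ℕ × F)} (hv : ∀ p ∈ v, p.1 < D.nroots ∧ k ≤ R.ht p.1) :
    word y v ∈ htLev R y k := word_mem _ fun p hp => x_mem_htLev (hv p hp).1 (hv p hp).2 _

variable (R) in
/-- The other roots of at least the same height. -/
def lcSet (ν : ℕ) : Set ℕ := {r | r < D.nroots ∧ R.ht ν ≤ R.ht r ∧ r ≠ ν}

variable (R y) in
/-- The coefficient of a root in a product of root elements of at least the same height. -/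
noncomputable def lc (ν : ℕ) (u : G) : F :=
  Classical.epsilon fun t => (y ν t)⁻¹ * u ∈ spanX (xSub y) (lcSet R ν)

theorem lcSet_eq_1' : type_of% @lcSet.eq_1 := @lcSet.eq_1
theorem lc_eq_1' : type_of% @lc.eq_1 := @lc.eq_1

namespace Model

variable (hy : Model R y)
include hy

theorem xSub_comm' : ∀ r ∈ R.weyl.Φ, ∀ a ∈ xSub y r, ∀ b ∈ xSub y r, a * b = b * a := by
  intro r hr a ha b hb
  have hr' := R.weyl_mem.1 hr
  obtain ⟨t, rfl⟩ := (hy.toStRel.mem_xSub_iff hr').1 ha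
  obtain ⟨u, rfl⟩ := (hy.toStRel.mem_xSub_iff hr').1 hb
  rw [hy.add r hr', hy.add r hr', add_comm]

theorem comm_htLev {c d : ℤ} (hc : 0 < c) (hd : 0 < d) {a b : G} (ha : a ∈ htLev R y c)
    (hb : b ∈ htLev R y d) : a⁻¹ * b⁻¹ * a * b ∈ htLev R y (c + d) :=
  (hy.toStRel.rcomm R).comm_lev hy.xSub_comm' _ hc hd ha hb

variable {ν : ℕ} (hν : D.IsPosRoot ν)
include hν

theorem lc_eq {u : G} {t : F} (h : (y ν t)⁻¹ * u ∈ spanX (xSub y) (lcSet R ν)) : lc R y ν u = t := by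
  have h0 : (y ν (lc R y ν u))⁻¹ * u ∈ spanX (xSub y) (lcSet R ν) :=
    Classical.epsilon_spec (p := fun t => (y ν t)⁻¹ * u ∈ spanX (xSub y) (lcSet R ν)) ⟨t, h⟩
  have h1 := mul_mem h0 (Subgroup.inv_mem _ h)
  have h2 := R.ht_pos hν
  by_contra hne
  refine (hy.faithful.mem_of_mem_spanX (T := lcSet R ν) (fun r hr => R.weyl_pos.2
    ((R.pos_iff_ht hr.1).2 (h2.trans_le hr.2.1))) (fun r hr s hs k hk => ?_) (R.weyl_mem.2 hν.1)
    (mul_mem (Subgroup.inv_mem _ (x_mem_xSub y ν (lc R y ν u))) (x_mem_xSub y ν t))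
    (fun e => hne (hy.injective hν.1 (inv_mul_eq_one.1 e))) (by simpa using h1)).2.2 rfl
  obtain ⟨hk, i, j, hi, hj, e⟩ := hk
  have h3 := R.ht_of_rc_eq e
  have h4 : R.ht ν < R.ht k := by
    have := hr.2.1
    have := hs.2.1
    have : (1 : ℤ) ≤ i := by exact_mod_cast hi
    have : (1 : ℤ) ≤ j := by exact_mod_cast hj
    nlinarith
  exact ⟨R.weyl_mem.1 hk, h4.le, fun e => h4.ne (e ▸ rfl)⟩

omit hy hν in
theorem htLev_le_lcSet : htLev R y (R.ht ν + 1) ≤ spanX (xSub y) (lcSet R ν) :=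
  spanX_mono _ fun r hr => by
    have h : R.ht ν + 1 ≤ R.ht r := R.stHt_empty_eq r ▸ hr.2
    exact ⟨R.weyl_mem.1 hr.1, by omega, fun e => by rw [e] at h; omega⟩

theorem conj_mem_lcSet {a b : G} (ha : a ∈ spanX (xSub y) (lcSet R ν)) (hb : b ∈ htLev R y 1) :
    b⁻¹ * a * b ∈ spanX (xSub y) (lcSet R ν) := by
  rw [show b⁻¹ * a * b = a * (a⁻¹ * b⁻¹ * a * b) by group]
  exact mul_mem ha (htLev_le_lcSet (hy.comm_htLev (R.ht_pos hν) one_pos (spanX_mono _
    (fun r hr => And.intro (R.weyl_mem.2 hr.1) ((R.stHt_empty_eq r).symm ▸ hr.2.1)) ha) hb))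

theorem lc_spec {u : G} (hu : u ∈ htLev R y (R.ht ν)) :
    (y ν (lc R y ν u))⁻¹ * u ∈ spanX (xSub y) (lcSet R ν) := by
  obtain ⟨t, h⟩ : ∃ t, (y ν t)⁻¹ * u ∈ spanX (xSub y) (lcSet R ν) := by
    refine spanX_induction (p := fun u => ∃ t, (y ν t)⁻¹ * u ∈ spanX (xSub y) (lcSet R ν)) hu
      ⟨0, by simp [hy.toStRel.zero hν.1]⟩ ?_
    rintro r hr a ha b - ⟨t, h⟩
    by_cases e : r = ν
    · obtain ⟨s, rfl⟩ := (hy.toStRel.mem_xSub_iff hν.1).1 (e ▸ ha)
      exact ⟨s + t, by simpa [← hy.add ν hν.1, mul_assoc] using h⟩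
    · refine ⟨t, ?_⟩
      have := mul_mem (hy.conj_mem_lcSet hν (mem_spanX (T := lcSet R ν) _ ⟨R.weyl_mem.1 hr.1,
        R.stHt_empty_eq r ▸ hr.2, e⟩ ha) (x_mem_htLev hν.1 (R.ht_pos hν) t)) h
      simpa [mul_assoc] using this
  rwa [hy.lc_eq hν h]

theorem lc_mul {a b : G} (ha : a ∈ htLev R y (R.ht ν)) (hb : b ∈ htLev R y (R.ht ν)) :
    lc R y ν (a * b) = lc R y ν a + lc R y ν b := by
  refine hy.lc_eq hν ?_
  have := mul_mem (hy.conj_mem_lcSet hν (hy.lc_spec hν ha) (x_mem_htLev hν.1 (R.ht_pos hν)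
    (lc R y ν b))) (hy.lc_spec hν hb)
  simpa [← hy.add ν hν.1, mul_assoc] using this

theorem lc_of_mem {a : G} (ha : a ∈ spanX (xSub y) (lcSet R ν)) : lc R y ν a = 0 :=
  hy.lc_eq hν (by rwa [hy.toStRel.zero hν.1, inv_one, one_mul])

theorem lc_x {r : ℕ} (hr : r < D.nroots) (h : R.ht ν ≤ R.ht r) (t : F) :
    lc R y ν (y r t) = if r = ν then t else 0 := by
  split_ifs with e
  · exact hy.lc_eq hν (by simp [e])
  · exact hy.lc_of_mem hν (mem_spanX (T := lcSet R ν) _ ⟨hr, h, e⟩ (x_mem_xSub y r t))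

theorem lc_word {v : List (ℕ × F)} (hv : ∀ p ∈ v, p.1 < D.nroots ∧ R.ht ν ≤ R.ht p.1) :
    lc R y ν (word y v) = (v.map fun p => if p.1 = ν then p.2 else 0).sum := by
  induction v with
  | nil => exact hy.lc_of_mem hν (one_mem _)
  | cons p v ih =>
    have h1 := hv p (by simp)
    have h2 : ∀ q ∈ v, q.1 < D.nroots ∧ R.ht ν ≤ R.ht q.1 := fun q hq => hv q (by simp [hq])
    rw [word_cons, hy.lc_mul hν (x_mem_htLev h1.1 h1.2 _) (word_mem_htLev h2), ih h2,
      hy.lc_x hν h1.1 h1.2, List.map_cons, List.sum_cons]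

theorem lc_conj {a b : G} (ha : a ∈ htLev R y (R.ht ν)) (hb : b ∈ htLev R y 1) :
    lc R y ν (b⁻¹ * a * b) = lc R y ν a := by
  have h1 := hy.comm_htLev (R.ht_pos hν) one_pos ha hb
  rw [show b⁻¹ * a * b = a * (a⁻¹ * b⁻¹ * a * b) by group, hy.lc_mul hν ha
    (lev_anti _ _ _ (by omega) h1), hy.lc_of_mem hν (htLev_le_lcSet h1), add_zero]

theorem coef_conj_lc {n : G} {w : R.weyl.W} (hn : (hy.toStRelW.rgd R).Lifts n w) {i : Fin D.rank}
    (e : w • ν = D.simple i) {c : F} (hc : ∀ u, n * y ν u * n⁻¹ = y (w • ν) (c * u)) {S : Set ℕ}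
    (hS : ∀ r ∈ S, r < D.nroots ∧ R.ht ν ≤ R.ht r ∧ R.weyl.Pos (w • r)) {a : G}
    (ha : a ∈ spanX (xSub y) S) : coef R y i (n * a * n⁻¹) = c * lc R y ν a := by
  have hU : ∀ a ∈ spanX (xSub y) S, n * a * n⁻¹ ∈ (hy.toStRelW.rgd R).U := fun a ha =>
    hn.conj_spanX (fun r hr => R.weyl_mem.2 (hS r hr).1) (fun r hr => (hS r hr).2.2) ha
  have hL : spanX (xSub y) S ≤ htLev R y (R.ht ν) := spanX_mono _ fun r hr =>
    ⟨R.weyl_mem.2 (hS r hr).1, (R.stHt_empty_eq r).symm ▸ (hS r hr).2.1⟩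
  refine spanX_induction (p := fun a => coef R y i (n * a * n⁻¹) = c * lc R y ν a) ha
    (by simp [hy.coef_one, hy.lc_of_mem hν (one_mem _)]) fun r hr a ha b hb ih => ?_
  have ha' := mem_spanX _ hr ha
  rw [show n * (a * b) * n⁻¹ = n * a * n⁻¹ * (n * b * n⁻¹) by group,
    hy.coef_mul i (hU a ha') (hU b hb), ih, hy.lc_mul hν (hL ha') (hL hb), mul_add]
  congr 1
  obtain ⟨t, rfl⟩ := (hy.toStRel.mem_xSub_iff (hS r hr).1).1 ha
  rw [hy.lc_x hν (hS r hr).1 (hS r hr).2.1]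
  split_ifs with h
  · rw [h, hc, e, hy.coef_simple]
  · obtain ⟨a, -, ha⟩ := hy.toStRelW.lifts_conj_x' R hn (hS r hr).1
    rw [ha, hy.coef_of_ne i (R.weyl_pos.1 (hS r hr).2.2) (fun e' => h (MulAction.injective w
      (e'.trans e.symm))), mul_zero]

variable {k : ℤ} (hk : 0 < k) (hh : R.ht ν = k + 1)
include hk hh

theorem lc_comm_simple (j : Fin D.rank) (t : F) {v : List (ℕ × F)}
    (hv : ∀ p ∈ v, p.1 < D.nroots ∧ k ≤ R.ht p.1) :
    lc R y ν ((y (D.simple j) t)⁻¹ * (word y v)⁻¹ * y (D.simple j) t * word y v) =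
      (v.map fun p => (cN D ν p.1 j : F) * p.2).sum * t := by
  have hj := R.simple_lt j j.2
  have ha : y (D.simple j) t ∈ htLev R y 1 := x_mem_htLev hj (R.ht_simple j).ge t
  induction v with
  | nil => simpa using hy.lc_of_mem hν (one_mem _)
  | cons p v ih =>
    have h1 := hv p (by simp)
    have h2 : ∀ q ∈ v, q.1 < D.nroots ∧ k ≤ R.ht q.1 := fun q hq => hv q (by simp [hq])
    have h3 := hy.comm_htLev one_pos hk ha (x_mem_htLev h1.1 h1.2 p.2)
    have h4 := hy.comm_htLev one_pos hk ha (word_mem_htLev h2)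
    have h5 : word y v ∈ htLev R y 1 := lev_anti _ _ _ hk (word_mem_htLev h2)
    rw [add_comm, ← hh] at h3 h4
    rw [word_cons, show (y (D.simple j) t)⁻¹ * (y p.1 p.2 * word y v)⁻¹ * y (D.simple j) t *
      (y p.1 p.2 * word y v) = (y (D.simple j) t)⁻¹ * (word y v)⁻¹ * y (D.simple j) t * word y v *
        ((word y v)⁻¹ * ((y (D.simple j) t)⁻¹ * (y p.1 p.2)⁻¹ * y (D.simple j) t * y p.1 p.2) *
          word y v) by group, hy.lc_mul hν h4 (inv_conj_mem_of_mem_normalizer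
        ((hy.toStRel.rcomm R).lev_le_normalizer _ zero_le_one (by omega) h5) h3), ih h2,
      hy.lc_conj hν h3 h5, List.map_cons, List.sum_cons, add_mul, add_comm]
    congr 1
    unfold cN
    split_ifs with h
    · rw [← h, mul_assoc (_ * _) (y _ t), hy.add _ hj, add_comm, ← hy.add _ hj]
      simpa [mul_assoc] using hy.lc_of_mem hν (one_mem _)
    have hp : ∀ q ∈ D.commTerms p.1 (D.simple j), q.1 < D.nroots ∧ k + 1 ≤ R.ht q.1 ∧
        (q.1 = ν → q.2.2.1 = 1 ∧ q.2.2.2 = 1) := fun q hq => by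
      obtain ⟨c1, c2, c3, c4⟩ := R.commTerms_spec h1.1 hj hq
      have c5 := R.ht_of_rc_eq c4
      rw [R.ht_simple, mul_one] at c5
      have c6 : (1 : ℤ) ≤ q.2.2.1 := by exact_mod_cast c2
      have c7 : (1 : ℤ) ≤ q.2.2.2 := by exact_mod_cast c3
      have c8 := h1.2
      refine ⟨c1, by nlinarith, fun e' => ?_⟩
      rw [e', hh] at c5
      constructor <;> apply Int.ofNat_injective <;> simp only [Int.ofNat_eq_natCast, Nat.cast_one] <;>
        nlinarith
    rw [hy.toStRel.comm_eq h1.1 hj h (fun e' => by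
        have := R.ht_simple j
        rw [e', R.ht_neg h1.1] at this
        omega), hy.lc_word hν (by
        intro q hq
        obtain ⟨q', hq', rfl⟩ := List.mem_map.1 hq
        exact ⟨(hp q' hq').1, hh ▸ (hp q' hq').2.1⟩), ChevalleyDatum.commWord, List.map_map,
      Int.cast_list_sum, List.map_map, mul_assoc, ← List.sum_map_mul_right]
    congr 1
    refine List.map_congr_left fun q hq => ?_
    simp only [Function.comp_apply]
    split_ifs with h'
    · rw [((hp q hq).2.2 h').1, ((hp q hq).2.2 h').2]; push_cast; ring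
    · simp

/-- The coefficient of a root of the least height in a commutator. -/
theorem lc_comm {v : List (ℕ × F)} (hv : ∀ p ∈ v, p.1 < D.nroots ∧ k ≤ R.ht p.1) {u : G}
    (hu : u ∈ (hy.toStRelW.rgd R).U) :
    lc R y ν (u⁻¹ * (word y v)⁻¹ * u * word y v) =
      ∑ j, (v.map fun p => (cN D ν p.1 j : F) * p.2).sum * coef R y j u := by
  have hx : word y v ∈ htLev R y k := word_mem_htLev hv
  refine spanX_induction (p := fun u => lc R y ν (u⁻¹ * (word y v)⁻¹ * u * word y v) =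
      ∑ j, (v.map fun p => (cN D ν p.1 j : F) * p.2).sum * coef R y j u) hu
    (by simp [hy.coef_one, hy.lc_of_mem hν (one_mem _)]) fun r hr a ha b hb ih => ?_
  have ha' : a ∈ (hy.toStRelW.rgd R).U := RGD.X_le_U _ hr ha
  have h1 : a ∈ htLev R y 1 := (RGD.U_eq_lev (Y := hy.toStRelW.rgd R)).le ha'
  have hb' : b ∈ (hy.toStRelW.rgd R).U := hb
  have h2 : b ∈ htLev R y 1 := (RGD.U_eq_lev (Y := hy.toStRelW.rgd R)).le hb
  have h3 := hy.comm_htLev one_pos hk h1 hx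
  have h4 := hy.comm_htLev one_pos hk h2 hx
  rw [add_comm, ← hh] at h3 h4
  rw [show (a * b)⁻¹ * (word y v)⁻¹ * (a * b) * word y v = b⁻¹ * (a⁻¹ * (word y v)⁻¹ * a * word y v)
      * b * (b⁻¹ * (word y v)⁻¹ * b * word y v) by group, hy.lc_mul hν
      (inv_conj_mem_of_mem_normalizer ((hy.toStRel.rcomm R).lev_le_normalizer _ zero_le_one
      (by omega) h2) h3) h4, ih, hy.lc_conj hν h3 h2]
  simp only [hy.coef_mul _ ha' hb', mul_add, Finset.sum_add_distrib, add_left_inj]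
  have hr' := R.weyl_pos.1 hr
  obtain ⟨t, rfl⟩ := (hy.toStRel.mem_xSub_iff hr'.1).1 ha
  by_cases h : R.ht r = 1
  · obtain ⟨j, hj, rfl⟩ := R.eq_simple_of_ht_eq_one hr'.1 h
    rw [hy.lc_comm_simple hν hk hh ⟨j, hj⟩ t hv, Finset.sum_eq_single ⟨j, hj⟩,
      hy.coef_simple]
    · intro l _ hl
      rw [hy.coef_of_ne l hr' (fun e' => hl (R.weyl.simple_injective (a₁ := ⟨j, hj⟩) (a₂ := l) e').symm), mul_zero]
    · simp
  · have h5 := R.ht_pos hr'
    have h6 := hy.comm_htLev (c := 2) two_pos hk (x_mem_htLev hr'.1 (by omega) t) hx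
    rw [show 2 + k = R.ht ν + 1 by omega] at h6
    rw [hy.lc_of_mem hν (htLev_le_lcSet h6), Finset.sum_eq_zero]
    intro l _
    rw [hy.coef_of_ne l hr' (fun e' => h (e' ▸ R.ht_simple l)), mul_zero]

end Model

end Cfsg.Lib.Chev
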