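import Cfsg.Agent.S2227
import Cfsg.Agent.Chev.RegFratMat
import Cfsg.Agent.Chev.UnipMat

/-! Certificates for the local subgroups of the twisted group of type `E₆` over four elements. -/

set_option autoImplicit false

namespace Cfsg.Lib.Chev.E62

open Cfsg.Lib Cfsg.Lib.Chev Cfsg.Lib.Chev.Core Cfsg.Lie Cfsg.Agent.S2227

set_option maxRecDepth 100000
set_option synthInstance.maxSize 8192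

/-- The table of roots. -/
def rT : List (List ℤ) := [
  [-1, -2, -2, -3, -2, -1], [-1, -1, -2, -3, -2, -1], [-1, -1, -2, -2, -2, -1], [-1, -1, -2, -2, -1, -1],
  [-1, -1, -2, -2, -1, 0], [-1, -1, -1, -2, -2, -1], [-1, -1, -1, -2, -1, -1], [-1, -1, -1, -2, -1, 0],
  [-1, -1, -1, -1, -1, -1], [-1, -1, -1, -1, -1, 0], [-1, -1, -1, -1, 0, 0], [-1, 0, -1, -1, -1, -1],
  [-1, 0, -1, -1, -1, 0], [-1, 0, -1, -1, 0, 0], [-1, 0, -1, 0, 0, 0], [-1, 0, 0, 0, 0, 0],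
  [0, -1, -1, -2, -2, -1], [0, -1, -1, -2, -1, -1], [0, -1, -1, -2, -1, 0], [0, -1, -1, -1, -1, -1],
  [0, -1, -1, -1, -1, 0], [0, -1, -1, -1, 0, 0], [0, -1, 0, -1, -1, -1], [0, -1, 0, -1, -1, 0],
  [0, -1, 0, -1, 0, 0], [0, -1, 0, 0, 0, 0], [0, 0, -1, -1, -1, -1], [0, 0, -1, -1, -1, 0],
  [0, 0, -1, -1, 0, 0], [0, 0, -1, 0, 0, 0], [0, 0, 0, -1, -1, -1], [0, 0, 0, -1, -1, 0],
  [0, 0, 0, -1, 0, 0], [0, 0, 0, 0, -1, -1], [0, 0, 0, 0, -1, 0], [0, 0, 0, 0, 0, -1],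
  [0, 0, 0, 0, 0, 1], [0, 0, 0, 0, 1, 0], [0, 0, 0, 0, 1, 1], [0, 0, 0, 1, 0, 0],
  [0, 0, 0, 1, 1, 0], [0, 0, 0, 1, 1, 1], [0, 0, 1, 0, 0, 0], [0, 0, 1, 1, 0, 0],
  [0, 0, 1, 1, 1, 0], [0, 0, 1, 1, 1, 1], [0, 1, 0, 0, 0, 0], [0, 1, 0, 1, 0, 0],
  [0, 1, 0, 1, 1, 0], [0, 1, 0, 1, 1, 1], [0, 1, 1, 1, 0, 0], [0, 1, 1, 1, 1, 0],
  [0, 1, 1, 1, 1, 1], [0, 1, 1, 2, 1, 0], [0, 1, 1, 2, 1, 1], [0, 1, 1, 2, 2, 1],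
  [1, 0, 0, 0, 0, 0], [1, 0, 1, 0, 0, 0], [1, 0, 1, 1, 0, 0], [1, 0, 1, 1, 1, 0],
  [1, 0, 1, 1, 1, 1], [1, 1, 1, 1, 0, 0], [1, 1, 1, 1, 1, 0], [1, 1, 1, 1, 1, 1],
  [1, 1, 1, 2, 1, 0], [1, 1, 1, 2, 1, 1], [1, 1, 1, 2, 2, 1], [1, 1, 2, 2, 1, 0],
  [1, 1, 2, 2, 1, 1], [1, 1, 2, 2, 2, 1], [1, 1, 2, 3, 2, 1], [1, 2, 2, 3, 2, 1]]

theorem rT_eq_1' : type_of% @rT.eq_1 := @rT.eq_1

theorem rT_eq : ∀ r < 72, rT.getD r [] = List.ofFn (rc6 r) := by decide +kernel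

/-- Pairing of a coweight with a root. -/
def dt (v : List ℤ) (r : ℕ) : ℤ := dotL v (rT.getD r [])

theorem dt_eq_1' : type_of% @dt.eq_1 := @dt.eq_1

/-- The coordinates as functions. -/
abbrev ev (v : List ℤ) : Fin 6 → ℤ := evL v

theorem dt_eq (v : List ℤ) {r : ℕ} (hr : r < 72) : dt v r = ∑ i, ev v i * rc6 r i := by
  rw [dt, rT_eq r hr, dotL_ofFn]

/-- The twisted Frobenius condition on exponent vectors. -/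
abbrev Fx (n : ℤ) (sr : List ℕ) (ε : ℤ) (u : List ℤ) : Prop :=
  ∀ i : Fin 6, n ∣ ev u i * 2 - ε * dt u (sr.getD i 0)

/-- Squaring on the codes of the field with eight elements. -/
def sqc (c : ℕ) : ℕ := if c = 0 then 0 else (2 * c - 1) % 7 + 1

theorem sqc_eq_1' : type_of% @sqc.eq_1 := @sqc.eq_1

/-- A fixed word of commuting root elements. -/
abbrev WOk (ω : List (Fin 6)) (l : List (ℕ × ℕ × ℕ)) : Prop :=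
  (l.map fun t => (t.2.1, sqc t.2.2)).Perm (l.map fun t => (t.1, t.2.2)) ∧
  (l.map fun t => t.1).Nodup ∧ (∃ t ∈ l, t.2.2 ≠ 0) ∧
  ∀ t ∈ l, (t.1 < 72 ∧ ∀ c ∈ (chevE6.coroot.getD t.1 #[]).toList, 0 ≤ c) ∧ t.2.1 < 72 ∧ t.2.2 < 8 ∧
    (∀ j : Fin 6, ev (ω.foldr (rreflL cartanE6) (rT.getD t.2.1 [])) (piE6 j) = ev (rT.getD t.1 []) j) ∧
    ∀ s ∈ l, s.1 ≠ chevE6.neg t.1 ∧ chevE6.chainRoot t.1 s.1 1 = none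

/-- The roots computing the action of a Weyl group element on the torus. -/
abbrev SOk (ω : List (Fin 6)) (sr : List ℕ) : Prop :=
  ∀ i : Fin 6, sr.getD i 0 < 72 ∧
    rT.getD (sr.getD i 0) [] = ω.reverse.foldr (rreflL cartanE6) (omegaL (piE6 i))

/-- The data for one class of subgroups. -/
structure Dat where
  p : ℕ
  ω : List (Fin 6)
  sr : List ℕ
  ω1 : List (Fin 6)
  μ : List ℤ
  ν : List ℤ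
  i0 : ℤ
  j0 : ℤ
  ε : ℤ
  y : List ℤ
  P0 : List ℕ
  l1 : List (ℕ × ℕ × ℕ)
  l2 : List (ℕ × ℕ × ℕ)

/-- The conditions on the data. -/
abbrev Ok (d : Dat) : Prop :=
  (SOk d.ω d.sr ∧ Fx d.p d.sr 1 d.μ ∧ Fx d.p d.sr 1 d.ν ∧ Fx 3 d.sr d.ε d.ν) ∧
  (∀ r < 72, ¬ (5 * d.p : ℤ) ∣ 5 * dt d.μ r + dt d.ν r) ∧
  (∀ r < 72, (d.p : ℤ) ∣ d.i0 * dt d.μ r + d.j0 * dt d.ν r → 3 ∣ dt d.ν r) ∧
  (∀ r < 72, (15 * d.p : ℤ) ∣ dt d.ν r → (15 * d.p : ℤ) ∣ dotL d.ν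
    (d.ω.reverse.foldr (rreflL cartanE6) (List.ofFn fun j => ev (rT.getD r []) (piE6 j)))) ∧
  (∀ j : Fin 6, ev (actL cartanE6 (d.ω1.reverse ++ d.ω) (List.ofFn (ev d.ν))) j +
    15 * d.p * ∑ i : Fin 6, ev d.y i * ev (cartanE6.getD i []) j = ev d.ν j) ∧
  (WOk d.ω1 d.l1 ∧ WOk d.ω1 d.l2 ∧ (d.l1.map fun t => t.1) = (d.l2.map fun t => t.1) ∧
    (d.l1.map fun t => t.2.2) ≠ (d.l2.map fun t => t.2.2) ∧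
    ∀ t ∈ d.l1, (15 * d.p : ℤ) ∣ dt d.ν t.1) ∧
  (∀ r ∈ d.P0, r < 72 ∧ (d.p : ℤ) ∣ dt d.μ r ∧ (d.p : ℤ) ∣ dt d.ν r) ∧
  (∀ j < d.p, ¬ ∀ i, (d.p : ℤ) ∣ ev d.μ i - j * ev d.ν i) ∧ (¬ ∀ i, 3 ∣ ev d.ν i) ∧
  ∀ a ∈ [0, 1, 2], ∀ b ∈ [0, 1, 2], ∀ c ∈ [0, 1, 2], ∀ e ∈ [0, 1, 2], ∀ f ∈ [0, 1, 2],
    ∀ g ∈ [0, 1, 2], Fx 3 d.sr d.ε [a, b, c, e, f, g] → (∀ r ∈ d.P0, 3 ∣ dt [a, b, c, e, f, g] r) →
    ∃ n ∈ [0, 1, 2], ∀ i, (3 : ℤ) ∣ ev [a, b, c, e, f, g] i - n * ev d.ν i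

/-- The list of all data. -/
def dats : List Dat := [
  ⟨19, [3, 2, 1, 0], [36, 58, 62, 10, 47, 42], [2, 1, 0],
    [10, 17, 2, 3, 10, 1], [95, 95, 95, 0, 190, 190], 1, 0, 1, [1, 1, 1, 1, 0, 0], [],
    [(54, 67, 7), (67, 66, 7), (66, 54, 7)], [(54, 67, 1), (67, 66, 2), (66, 54, 4)]⟩,
  ⟨17, [3, 2, 1], [36, 43, 51, 21, 47, 57], [],
    [9, 15, 10, 3, 9, 1], [170, 0, 0, 0, 0, 85], 1, 0, 1, [0, 0, 0, 0, 0, 0], [],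
    [(39, 39, 7), (44, 44, 0)], [(39, 39, 0), (44, 44, 7)]⟩,
  ⟨13, [2, 3, 0, 2, 1, 0], [36, 58, 62, 15, 21, 47], [0, 2],
    [7, 12, 1, 3, 5, 1], [65, 0, 65, 65, 130, 130], 1, 0, 1, [1, 0, 1, 1, 0, 0], [],
    [(46, 46, 7), (71, 71, 0)], [(46, 46, 0), (71, 71, 7)]⟩,
  ⟨11, [3, 2, 0], [36, 61, 59, 13, 39, 42], [3],
    [6, 9, 2, 1, 6, 1], [0, 44, 0, 110, 55, 0], 1, 0, 1, [0, 0, 0, 0, 0, 0], [71],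
    [(44, 44, 7), (60, 60, 0)], [(44, 44, 0), (60, 60, 7)]⟩,
  ⟨7, [2, 3, 0, 2, 1, 3, 4, 3, 0, 2, 1, 3, 0, 2, 1, 0], [68, 39, 48, 24, 27, 15], [0, 2, 3, 4, 2, 3, 0, 2, 1, 3, 2, 0],
    [0, 5, 1, 3, 1, 0], [40, 9, 0, 60, 36, 1], 0, 1, 1, [0, 1, 0, 1, 1, 0], [],
    [(42, 42, 7), (51, 51, 0)], [(42, 42, 0), (51, 51, 7)]⟩,
  ⟨7, [2, 3, 0, 2, 1, 3, 4, 3, 0, 2, 1, 3, 0, 2, 1, 0], [68, 39, 48, 24, 27, 15], [2, 3, 0, 2, 1, 3, 4, 3, 2, 1, 3, 0, 2, 0],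
    [0, 5, 1, 3, 1, 0], [21, 0, 70, 0, 70, 21], 1, 0, -1, [0, 0, 0, 0, 0, 0], [36, 55, 56, 67],
    [(39, 39, 7), (47, 47, 0)], [(39, 39, 0), (47, 47, 7)]⟩,
  ⟨7, [2, 3, 0, 2, 1, 3, 4, 3, 0, 2, 1, 3, 0, 2, 1, 0], [68, 39, 48, 24, 27, 15], [3, 1],
    [40, 14, 1, 63, 37, 1], [0, 63, 70, 21, 70, 0], 1, 0, -1, [3, 3, 6, 6, 3, 0], [39, 46],
    [(36, 56, 7), (56, 36, 7), (66, 68, 0), (68, 66, 0)], [(36, 56, 0), (56, 36, 0), (66, 68, 7), (68, 66, 7)]⟩,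
  ⟨7, [2, 3, 0, 2, 1, 3, 4, 3, 0, 2, 1, 3, 0, 2, 1, 0], [68, 39, 48, 24, 27, 15], [2, 3, 4, 2, 1, 3, 2, 1],
    [80, 23, 1, 123, 73, 2], [56, 35, 35, 14, 70, 91], 1, 0, -1, [3, 2, 3, 3, 2, 0], [40, 50],
    [(45, 58, 7), (58, 45, 7), (65, 69, 0), (69, 65, 0)], [(45, 58, 0), (58, 45, 0), (65, 69, 7), (69, 65, 7)]⟩,
  ⟨7, [2, 3, 0, 2, 1, 3, 4, 3, 0, 2, 1, 3, 0, 2, 1, 0], [68, 39, 48, 24, 27, 15], [0, 2, 3, 4, 2, 3, 0, 2, 1, 3, 2, 0],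
    [120, 32, 1, 183, 109, 3], [35, 14, 0, 35, 56, 91], 1, 0, -1, [0, 1, 0, 1, 1, 0], [38, 54, 59, 61],
    [(42, 42, 7), (51, 51, 0)], [(42, 42, 0), (51, 51, 7)]⟩,
  ⟨7, [2, 3, 0, 2, 1, 3, 4, 3, 0, 2, 1, 3, 0, 2, 1, 0], [68, 39, 48, 24, 27, 15], [3, 0, 2, 1, 3, 4, 0, 2, 1, 3, 0, 2, 1, 0],
    [160, 41, 1, 243, 145, 4], [35, 35, 49, 56, 0, 91], 1, 0, -1, [0, 0, 1, 1, 1, 0], [41, 52, 57, 64],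
    [(37, 37, 7), (44, 44, 0)], [(37, 37, 0), (44, 44, 7)]⟩,
  ⟨7, [2, 3, 0, 2, 1, 3, 4, 3, 0, 2, 1, 3, 0, 2, 1, 0], [68, 39, 48, 24, 27, 15], [0, 2, 1, 3, 4, 1, 3, 0, 2, 0],
    [200, 50, 1, 303, 181, 5], [35, 56, 35, 14, 91, 91], 1, 0, -1, [0, 1, 1, 3, 2, 0], [45, 49, 58, 62],
    [(40, 40, 7), (53, 53, 0)], [(40, 40, 0), (53, 53, 7)]⟩,
  ⟨7, [2, 3, 0, 2, 1, 3, 4, 3, 0, 2, 1, 3, 0, 2, 1, 0], [68, 39, 48, 24, 27, 15], [2, 1, 3, 4, 3, 2, 1, 3, 2, 1],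
    [240, 59, 1, 363, 217, 6], [56, 56, 49, 14, 21, 70], 1, 0, -1, [3, 2, 3, 4, 2, 0], [37, 43],
    [(41, 64, 7), (64, 41, 7), (60, 71, 0), (71, 60, 0)], [(41, 64, 0), (64, 41, 0), (60, 71, 7), (71, 60, 7)]⟩,
  ⟨7, [2, 3, 0, 2, 1, 3, 4, 3, 0, 2, 1, 3, 0, 2, 1, 0], [68, 39, 48, 24, 27, 15], [3, 2, 1, 3, 4, 1, 3, 2],
    [40, 9, 0, 60, 36, 1], [35, 14, 21, 35, 14, 91], 1, 0, -1, [2, 1, 2, 2, 1, 0], [42, 48],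
    [(38, 59, 7), (59, 38, 7), (63, 70, 0), (70, 63, 0)], [(38, 59, 0), (59, 38, 0), (63, 70, 7), (70, 63, 7)]⟩]

theorem dats_eq_1' : type_of% @dats.eq_1 := @dats.eq_1

theorem ok_dats : ∀ d ∈ dats, Ok d := by
  decide +kernel

/-- The pieces of a regular unipotent element. -/
def regL : Fin 6 → List (ℕ × ℕ × ℕ) := ![[(56, 36, 7), (36, 56, 7)], [(46, 46, 7)],
  [(42, 37, 7), (37, 42, 7)], [(39, 39, 7)], [(42, 37, 7), (37, 42, 7)], [(56, 36, 7), (36, 56, 7)]]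

theorem regL_eq_1' : type_of% @regL.eq_1 := @regL.eq_1

theorem ok_regL : ∀ i : Fin 6, WOk [] (regL i) ∧ ∃ t ∈ regL i, t.1 = chevE6.simple i ∧ t.2.2 = 7 := by
  decide +kernel

end Cfsg.Lib.Chev.E62
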