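import Cfsg.Agent.Chev.E62Dat

/-! Twisted embeddings of the twisted group of type `E₆` over four elements. -/

set_option autoImplicit false
set_option linter.unusedSectionVars false

namespace Cfsg.Lib.Chev.E62

open Cfsg.Lib Cfsg.Lib.Chev Cfsg.Lib.Chev.Core Cfsg.Lie Cfsg.Agent.S2227

variable {k G : Type*} [Field k] [IsAlgClosed k] [Group G] {φ : k →+* k}
  {e : G →* GL chevE6.Idx k} {ω : List (Fin 6)}

/-- Torus elements given by exponent vectors. -/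
noncomputable def Tz (z : kˣ) (v : Fin 6 → ℤ) : GL chevE6.Idx k := T6 k fun i => z ^ v i

theorem Tz_eq_1' : type_of% @Tz.eq_1 := @Tz.eq_1

theorem Tz_mem (z : kˣ) (v : Fin 6 → ℤ) : Tz z v ∈ chevE6.group k := T6_mem _

theorem Tz_add (z : kˣ) (u v : Fin 6 → ℤ) : Tz z (u + v) = Tz z u * Tz z v := by
  rw [Tz, Tz, Tz, ← map_mul]
  exact congrArg _ (funext fun i => zpow_add _ _ _)

theorem Tz_smul (z : kˣ) (n : ℤ) (v : Fin 6 → ℤ) : Tz z (n • v) = Tz z v ^ n := by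
  rw [Tz, Tz, ← map_zpow]
  exact congrArg _ (funext fun i => by rw [Pi.pow_apply, ← zpow_mul, mul_comm]; rfl)

theorem Tz_pow (z : kˣ) (n : ℕ) (v : Fin 6 → ℤ) : Tz (z ^ n) v = Tz z v ^ n := by
  rw [Tz, Tz, ← map_pow]
  exact congrArg _ (funext fun i => by
    rw [Pi.pow_apply, ← zpow_natCast, ← zpow_natCast, zpow_comm])

theorem Tz_eq_iff {z : kˣ} {u v : Fin 6 → ℤ} :
    Tz z u = Tz z v ↔ ∀ i, (orderOf z : ℤ) ∣ u i - v i :=
  ⟨fun h i => orderOf_dvd_sub_iff_zpow_eq_zpow.2 (congrFun (T6_inj h) i), fun h =>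
    congrArg (T6 k) (funext fun i => orderOf_dvd_sub_iff_zpow_eq_zpow.1 (h i))⟩

theorem Tz_zero (z : kˣ) : Tz z 0 = 1 := by
  rw [Tz, ← map_one (T6 k)]
  exact congrArg _ (funext fun i => zpow_zero _)

theorem Tz_pow_eq_one {z : kˣ} {n : ℕ} (h : z ^ n = 1) (v : Fin 6 → ℤ) : Tz z v ^ n = 1 := by
  rw [← Tz_pow, h, Tz, ← map_one (T6 k)]
  exact congrArg _ (funext fun i => one_zpow _)

theorem T6_comm (c c' : Fin 6 → kˣ) : Commute (T6 k c) (T6 k c') := (Commute.all c c').map _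

omit [IsAlgClosed k] in
theorem chr_eq (z : kˣ) (v : Fin 6 → ℤ) (r : ℕ) :
    chr (fun i => z ^ v i) (rc6 r) = 1 ↔ (orderOf z : ℤ) ∣ ∑ i, v i * rc6 r i := by
  rw [chr_zpow, ← orderOf_dvd_iff_zpow_eq_one]

omit [IsAlgClosed k] in
theorem mem_psi {z : kˣ} {v : Fin 6 → ℤ} {r : ℕ} :
    r ∈ rootE6.weyl.psi {fun i => z ^ v i} ↔ r < 72 ∧ (orderOf z : ℤ) ∣ ∑ i, v i * rc6 r i :=
  ⟨fun h => ⟨rootE6.weyl_mem.1 h.1, (chr_eq z v r).1 (h.2 _ rfl)⟩, fun h =>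
    ⟨rootE6.weyl_mem.2 h.1, by rintro _ rfl; exact (chr_eq z v r).2 h.2⟩⟩

/-- The connected centraliser. -/
noncomputable def Cz (z : kˣ) (v : Fin 6 → ℤ) : Subgroup (GL chevE6.Idx k) :=
  cent0 k rootE6 {fun i => z ^ v i}

theorem Cz_eq_1' : type_of% @Cz.eq_1 := @Cz.eq_1

theorem Cz_le (z : kˣ) (v : Fin 6 → ℤ) : Cz z v ≤ chevE6.group k :=
  (Core.certE6.cent0_le_G0 rootE6).trans hG.le

theorem commute_of_mem_Cz {z : kˣ} {v : Fin 6 → ℤ} {g : GL chevE6.Idx k} (h : g ∈ Cz z v) :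
    Commute (Tz z v) g := Core.certE6.commute_of_mem_cent0 rootE6 h rfl

theorem mem_Cz {z : kˣ} {v : Fin 6 → ℤ} {n : ℕ} (hn : 0 < n) (h3 : Nat.Coprime 3 n)
    (hz : z ^ n = 1) {g : GL chevE6.Idx k} (hg : g ∈ chevE6.group k) (h : Commute (Tz z v) g) :
    g ∈ Cz z v :=
  Core.certE6.mem_cent0_of_commute rootE6 hk hn h3 (fun a ha => by
      obtain ⟨a1, a2⟩ := mem_ker_E6.1 ha
      have a3 := (pow_right_comm _ 2 3).trans ((congrArg (· ^ 2) a1).trans (one_pow 2))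
      rw [a2]
      exact funext (forall_fin6 a1 (one_pow _) a3 (one_pow _) a1 a3))
    (funext fun i : Fin 6 => show (z ^ v i) ^ n = 1 by
      rw [← zpow_natCast, zpow_comm, zpow_natCast, hz, one_zpow])
    (hG.ge hg) h

theorem Cz_mono {z z' : kˣ} {v v' : Fin 6 → ℤ} (h : ∀ r < 72, (orderOf z : ℤ) ∣ ∑ i, v i * rc6 r i →
    (orderOf z' : ℤ) ∣ ∑ i, v' i * rc6 r i) : Cz z v ≤ Cz z' v' :=
  sup_le_sup_right (spanX_mono _ fun _ hr =>
    mem_psi.2 ⟨(mem_psi.1 hr).1, h _ (mem_psi.1 hr).1 (mem_psi.1 hr).2⟩) _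

theorem x_mem_Cz {z : kˣ} {v : Fin 6 → ℤ} {r : ℕ} (hr : r < 72)
    (h : (orderOf z : ℤ) ∣ ∑ i, v i * rc6 r i) (t : k) : xGL chevE6 k r t ∈ Cz z v :=
  Subgroup.mem_sup_left (mem_spanX _ (mem_psi.2 ⟨hr, h⟩) (x_mem_xSub _ r t))

theorem exists_T6_of_mem_Cz {z : kˣ} {v : Fin 6 → ℤ}
    (h : ∀ r < 72, ¬ (orderOf z : ℤ) ∣ ∑ i, v i * rc6 r i) {g : GL chevE6.Idx k}
    (hg : g ∈ Cz z v) : ∃ c, T6 k c = g :=
  (sup_le (spanX_le_iff.2 fun r hr => (h r (mem_psi.1 hr).1 (mem_psi.1 hr).2).elim) le_rfl :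
    Cz z v ≤ (torGL rootE6 k).range) hg

/-- A twisted embedding. -/
structure Tw (φ : k →+* k) (ω : List (Fin 6)) (e : G →* GL chevE6.Idx k) : Prop where
  inj : Function.Injective e
  mem : ∀ g, e g ∈ chevE6.group k
  fix : ∀ g, gE6.gσ φ (e g) = nW k ω * e g * (nW k ω)⁻¹
  cube : ∀ g ∈ chevE6.group k, gE6.gσ φ g = nW k ω * g * (nW k ω)⁻¹ → g ^ 3 ∈ e.range
  cent : ∀ z ∈ chevE6.group k, z ^ 3 = 1 → (∀ g, Commute z (e g)) → z = 1

theorem Tw.conj (h : Tw φ ω e) {a : GL chevE6.Idx k} (ha : a ∈ chevE6.group k) {ω1 : List (Fin 6)}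
    (hσ : gE6.gσ φ a = nW k ω * a * (nW k ω1)⁻¹) :
    Tw φ ω1 ((MulAut.conj a⁻¹).toMonoidHom.comp e) where
  inj := (MulAut.conj a⁻¹).injective.comp h.inj
  mem g := mul_mem (mul_mem (inv_mem ha) (h.mem g)) (inv_mem (inv_mem ha))
  fix g := by
    change gE6.gσ φ (a⁻¹ * e g * a⁻¹⁻¹) = _ * (a⁻¹ * e g * a⁻¹⁻¹) * _
    rw [map_mul, map_mul, map_inv, map_inv, map_inv, h.fix, hσ]
    group
  cube g hg h1 := by
    obtain ⟨x, hx⟩ := h.cube (a * g * a⁻¹) (mul_mem (mul_mem ha hg) (inv_mem ha)) (by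
      rw [map_mul, map_mul, map_inv, h1, hσ]; group)
    refine ⟨x, ?_⟩
    change a⁻¹ * e x * a⁻¹⁻¹ = _
    rw [hx, conj_pow]; group
  cent z hz h3 h1 := by
    have := h.cent (a * z * a⁻¹) (mul_mem (mul_mem ha hz) (inv_mem ha))
      (by rw [conj_pow, h3]; group) fun g => by
        have : z * (a⁻¹ * e g * a⁻¹⁻¹) = (a⁻¹ * e g * a⁻¹⁻¹) * z := h1 g
        calc a * z * a⁻¹ * e g = a * (z * (a⁻¹ * e g * a⁻¹⁻¹)) * a⁻¹ := by group
          _ = _ := by rw [this]; group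
    exact conj_eq_one_iff.1 this

theorem Tw.comp (h : Tw φ ω e) (θ : G ≃* G) : Tw φ ω (e.comp θ.toMonoidHom) where
  inj := h.inj.comp θ.injective
  mem _ := h.mem _
  fix _ := h.fix _
  cube g hg h1 := by
    obtain ⟨x, hx⟩ := h.cube g hg h1
    exact ⟨θ.symm x, by simpa using hx⟩
  cent z hz h3 h1 := h.cent z hz h3 fun g => by simpa using h1 (θ.symm g)

theorem exists_of_cube {g : GL chevE6.Idx k} (h : g ^ 3 ∈ e.range) {n : ℕ} (h3 : Nat.Coprime 3 n)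
    (hn : 0 < n) (h1 : g ^ n = 1) : ∃ x, e x = g := by
  obtain ⟨j, hj⟩ := Nat.exists_mul_mod_eq_of_coprime 1 h3 hn.ne'
  have := pow_mem h j
  rwa [← pow_mul, pow_eq_pow_mod _ h1, hj.2, ← pow_eq_pow_mod _ h1, pow_one] at this

variable (hφ : ∀ t, φ t = t ^ 2)
include hφ

theorem gσ_x {r : ℕ} (hr : r < 72) (t : k) :
    gE6.gσ φ (xGL chevE6 k r t) = xGL chevE6 k (gE6.σ r) (t ^ 2) := by
  have h2 : (gE6.ε r : k) = 1 := by
    rcases gE6.ok.sign r with e | e <;> rw [e]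
    · exact Int.cast_one
    · push_cast; linear_combination -Cert.two_eq_zero_of_sq hφ
  rw [gE6.gσ_xGL Core.certE6 rootE6 φ hr, RootSubst.app_apply]
  change xGL chevE6 k ((gE6.sym rootE6).ρ r) (gE6.ε r * φ t) = _
  rw [gE6.sym_ρ rootE6 hr, h2, one_mul, hφ]

omit hφ in
theorem rc_σ {r : ℕ} (hr : r < 72) (j : Fin 6) : rc6 (gE6.σ r) j = rc6 r (piE6 j) := by
  have := gE6.rc_σ rootE6 hr (piE6 j)
  rw [pi_eq, (by decide : ∀ i : Fin 6, piE6 (piE6 i) = i)] at this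
  exact this

theorem nW_conj_x (ω : List (Fin 6)) {r : ℕ} (hr : r < 72) (t : k) :
    nW k ω * xGL chevE6 k r t * (nW k ω)⁻¹ = xGL chevE6 k (wprod W6.s ω • r) t :=
  Core.certE6.wprod_conj_xGL rootE6 hφ ω hr t

omit hφ in
theorem σ_eq {r s : ℕ} (hr : r < 72) (hs : s < 72) (h : ∀ j : Fin 6,
    ev (ω.foldr (rreflL cartanE6) (rT.getD s [])) (piE6 j) = ev (rT.getD r []) j) :
    gE6.σ r = wprod W6.s ω • s := by
  have h1 : s ∈ W6.Φ := rootE6.weyl_mem.2 hs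
  refine W6.rc_inj _ (rootE6.weyl_mem.2 (gE6.ok.lt _ hr)) _ (W6.smul_mem _ h1) (funext fun j => ?_)
  have := h (piE6 j)
  rw [rT_eq r hr, rT_eq s hs, (by decide : ∀ i : Fin 6, piE6 (piE6 i) = i)] at this
  rw [W6.rc_smul _ h1, lin_eq hC]
  exact (rc_σ hr j).trans ((congrFun (evL_ofFn _) _).symm.trans this.symm)

theorem tor_iff {c c' : Fin 6 → kˣ} : gE6.gσ φ (T6 k c) = nW k ω * T6 k c' * (nW k ω)⁻¹ ↔
    ∀ i, W6.tor kˣ (wprod W6.s ω) c' (piE6 i) = c i ^ 2 := by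
  rw [nW_conj]
  refine Iff.trans ?_ (((gE6.subst Core.certE6 rootE6 φ).torMap_eq_iff (c := c)
    (c' := W6.tor kˣ (wprod W6.s ω) c')).trans (forall_congr' fun i => ?_))
  · exact ⟨fun h => T6_inj ((gE6.gσ_torGL Core.certE6 rootE6 φ c).symm.trans h), fun h =>
      (gE6.gσ_torGL Core.certE6 rootE6 φ c).trans (congrArg (T6 k) h)⟩
  · rw [Units.ext_iff, Units.val_pow_eq_pow_val, ← hφ]
    exact Eq.congr (congrArg (fun j => ((W6.tor kˣ (wprod W6.s ω) c' j : kˣ) : k)) (pi_eq i)) rfl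

theorem Fx_iff {sr : List ℕ} (hs : SOk ω sr) {z : kˣ} {n : ℕ} (hz : orderOf z = n) {ε : ℤ}
    {u : List ℤ} : gE6.gσ φ (Tz z (ev u)) = nW k ω * Tz z (ev u) ^ ε * (nW k ω)⁻¹ ↔
      Fx n sr ε u := by
  rw [← Tz_smul, Tz, Tz, tor_iff hφ]
  refine forall_congr' fun i => ?_
  have h1 := (hs i).2
  rw [rT_eq _ (hs i).1] at h1
  rw [W6.tor_apply, W6.rc_smul _ (W6.simple_mem _), ← W6.wprod_reverse, lin_eq hC,
    W6.rc_simple, ← omegaL_eq, ← h1, evL_ofFn, chr_zpow, dt_eq _ (hs i).1, ← hz,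
    orderOf_dvd_sub_iff_zpow_eq_zpow, zpow_mul, zpow_two, pow_two, eq_comm, Finset.mul_sum]
  simp only [Pi.smul_apply, smul_eq_mul, mul_assoc]

/-- Decoding of the elements of the field with eight elements. -/
def dec (τ : kˣ) (c : ℕ) : k := if c = 0 then 0 else (τ ^ c : kˣ)

omit hφ in
theorem dec_eq_1' : type_of% @dec.eq_1 := @dec.eq_1

omit hφ in
theorem dec_sqc {τ : kˣ} (hτ : τ ^ 7 = 1) (c : ℕ) : dec τ (sqc c) = dec τ c ^ 2 := by
  rcases eq_or_ne c 0 with rfl | h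
  · simp [dec, sqc]
  · rw [sqc, if_neg h, dec, dec, if_neg h, if_neg (Nat.succ_ne_zero _), ← Units.val_pow_eq_pow_val,
      ← pow_mul, pow_succ, ← pow_eq_pow_mod _ hτ, ← pow_succ]
    congr 2
    omega

omit hφ in
theorem dec_ne {τ : kˣ} {c : ℕ} (h : c ≠ 0) : dec τ c ≠ 0 := by
  rw [dec, if_neg h]
  exact Units.ne_zero _

omit hφ in
theorem dec_inj {τ : kˣ} (hτ : orderOf τ = 7) {c c' : ℕ} (h : c < 8) (h' : c' < 8)
    (e : dec τ c = dec τ c') : c = c' := by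
  by_cases h0 : c = 0
  · by_contra n
    exact dec_ne (τ := τ) (h0 ▸ Ne.symm n) (e.symm.trans (by rw [h0]; rfl))
  by_cases h1 : c' = 0
  · exact (dec_ne (τ := τ) h0 (e.trans (by rw [h1]; rfl))).elim
  rw [dec, dec, if_neg h0, if_neg h1, Units.val_inj, pow_eq_pow_iff_modEq, hτ, Nat.ModEq] at e
  omega

/-- The word given by a list of codes. -/
noncomputable def wrd (τ : kˣ) (l : List (ℕ × ℕ)) : GL chevE6.Idx k :=
  word (xGL chevE6 k) (l.map fun t => (t.1, dec τ t.2))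

omit hφ in
theorem wrd_eq_1' : type_of% @wrd.eq_1 := @wrd.eq_1

omit hφ in
theorem wrd_mem {K : Subgroup (GL chevE6.Idx k)} {τ : kˣ} {l : List (ℕ × ℕ)}
    (h : ∀ t ∈ l, ∀ u, xGL chevE6 k t.1 u ∈ K) : wrd τ l ∈ K :=
  list_prod_mem fun _ hx => by
    simp only [List.map_map, List.mem_map] at hx
    obtain ⟨t, ht, rfl⟩ := hx
    exact h t ht _

omit hφ in
theorem stRel : StRel chevE6 (xGL chevE6 k) := (Core.certE6.stRelN k rootE6).toStRelW.toStRel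

omit hφ in
theorem WOk.comm {l : List (ℕ × ℕ × ℕ)} (h : WOk ω l) {t s : ℕ × ℕ × ℕ} (ht : t ∈ l) (hs : s ∈ l)
    (a b : k) : Commute (xGL chevE6 k t.1 a) (xGL chevE6 k s.1 b) :=
  stRel.commute rootE6 (h.2.2.2 t ht).1.1 (h.2.2.2 s hs).1.1 ((h.2.2.2 t ht).2.2.2.2 s hs).1
    ((h.2.2.2 t ht).2.2.2.2 s hs).2 a b

theorem WOk.sq {l : List (ℕ × ℕ × ℕ)} (h : WOk ω l) (τ : kˣ) :
    wrd τ (l.map fun t => (t.1, t.2.2)) ^ 2 = 1 := by
  rw [wrd, word, List.map_map, List.map_map, pow_two]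
  refine (list_prod_map_mul_of_pairwise l (fun t => xGL chevE6 k t.1 (dec τ t.2.2)) _
    (List.pairwise_of_forall_mem_list fun t ht s hs => h.comm ht hs _ _)).symm.trans
    (List.prod_eq_one fun x hx => ?_)
  obtain ⟨t, ht, rfl⟩ := List.mem_map.1 hx
  have h1 := (h.2.2.2 t ht).1.1
  rw [stRel.add _ h1, ← two_mul, Cert.two_eq_zero_of_sq hφ, zero_mul, stRel.zero h1]

theorem WOk.fix {l : List (ℕ × ℕ × ℕ)} (h : WOk ω l) {τ : kˣ} (hτ : τ ^ 7 = 1) :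
    gE6.gσ φ (wrd τ (l.map fun t => (t.1, t.2.2))) =
      nW k ω * wrd τ (l.map fun t => (t.1, t.2.2)) * (nW k ω)⁻¹ := by
  have h1 : wrd τ (l.map fun t => (t.2.1, sqc t.2.2)) = wrd τ (l.map fun t => (t.1, t.2.2)) := by
    refine (((h.1.map _).map _).symm.prod_eq' ?_).symm
    rw [List.map_map, List.map_map, List.pairwise_map]
    exact List.pairwise_of_forall_mem_list fun t ht s hs => h.comm ht hs _ _
  nth_rw 2 [← h1]
  rw [← MulAut.conj_apply, wrd, wrd, word, word, map_list_prod, map_list_prod]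
  simp only [List.map_map]
  refine congrArg _ (List.map_congr_left fun t ht => ?_)
  obtain ⟨a1, a2, -, a3, -⟩ := h.2.2.2 t ht
  simp only [Function.comp, MulAut.conj_apply]
  rw [gσ_x hφ a1.1, nW_conj_x hφ ω a2, σ_eq a1.1 a2 a3, dec_sqc hτ]

omit hφ in
theorem WOk.pos {l : List (ℕ × ℕ × ℕ)} (h : WOk ω l) (τ : kˣ) :
    ∀ p ∈ (l.map fun t => (t.1, t.2.2)).map fun t => (t.1, dec τ t.2), chevE6.IsPosRoot p.1 := by
  simp only [List.map_map, List.mem_map]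
  rintro _ ⟨t, ht, rfl⟩
  exact (h.2.2.2 t ht).1

omit hφ in
theorem WOk.ne_one {l : List (ℕ × ℕ × ℕ)} (h : WOk ω l) (τ : kˣ) :
    wrd τ (l.map fun t => (t.1, t.2.2)) ≠ 1 := fun e => by
  obtain ⟨t, ht, h0⟩ := h.2.2.1
  exact dec_ne h0 ((Core.certE6.model k rootE6).posInj.eq_zero stRel
    (by rw [List.map_map, List.map_map]; exact h.2.1) (h.pos τ) e (t.1, dec τ t.2.2)
    (List.mem_map.2 ⟨_, List.mem_map.2 ⟨t, ht, rfl⟩, rfl⟩))

omit hφ in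
theorem WOk.mem {l : List (ℕ × ℕ × ℕ)} (τ : kˣ) :
    wrd τ (l.map fun t => (t.1, t.2.2)) ∈ chevE6.group k :=
  wrd_mem fun _ _ _ => Core.certE6.xGL_mem_group rootE6 _ _

theorem exists_tau : ∃ τ : kˣ, orderOf τ = 7 := by
  obtain ⟨z, h, -⟩ := exists_unit_order k (n := 7) fun h => one_ne_zero (α := k) (by
    push_cast at h; linear_combination h - 3 * Cert.two_eq_zero_of_sq hφ)
  exact ⟨z, h⟩

theorem tw_of_emb (E : Emb φ e) : Tw φ [] e := by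
  have h0 : ∀ g, nW k [] * g * (nW k [])⁻¹ = g := fun g => by
    rw [show nW k [] = 1 from rfl]; simp
  have h1 : ∀ g ∈ chevE6.group k, gE6.gσ φ g = nW k [] * g * (nW k [])⁻¹ → g ^ 3 ∈ e.range :=
    fun g hg h => (E.norm g hg (h.trans (h0 g))).1
  refine ⟨E.inj, E.mem, fun g => (E.fix g).trans (h0 _).symm, h1, fun z hz h3 hc => ?_⟩
  obtain ⟨τ, hτ⟩ := exists_tau hφ
  have τ7 : τ ^ 7 = 1 := hτ ▸ pow_orderOf_eq_one τ
  have hy := Core.certE6.model k rootE6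
  have h2 : ∀ i : Fin 6, ∃ u ∈ (Core.certE6.Y k rootE6).U, coef rootE6 (xGL chevE6 k) i u = 1 ∧
      z * u * z⁻¹ = u := fun i => by
    obtain ⟨a, t, ht, b1, b2⟩ := ok_regL i
    obtain ⟨x, hx⟩ := exists_of_cube (h1 _ (WOk.mem τ) (a.fix hφ τ7)) (n := 2) (by norm_num)
      two_pos (a.sq hφ τ)
    refine ⟨_, hy.word_mem_U (a.pos τ), hy.coef_word_of_mem (a.pos τ)
      (by rw [List.map_map, List.map_map]; exact a.2.1) (List.mem_map.2 ⟨_, List.mem_map.2 ⟨t, ht, rfl⟩,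
        Prod.ext b1 (by simp [dec, b2, τ7])⟩), ?_⟩
    have := (hc x).eq
    rw [hx] at this
    exact mul_inv_eq_of_eq_mul this
  obtain ⟨u, hu, _, ⟨c, rfl⟩, rfl⟩ := (RGD.mem_B_iff _).1 ((Core.certE6.faithful_Yhat rootE6).mem_B_of_conj_reg
    (hG.ge hz) fun i => by
      obtain ⟨u, hu, a, b⟩ := h2 i
      exact ⟨u, hu, fun n => one_ne_zero (a.symm.trans ((hy.coef_eq_zero_iff' i hu).2 n)),
        b.symm ▸ (Core.certE6.Yhat k rootE6).U_le_B hu⟩)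
  obtain rfl : c = 1 := funext fun i => by
    obtain ⟨s, hs, a, b⟩ := h2 i
    have := Core.certE6.coef_conj_B rootE6 hu c hs i
    rw [b, a, mul_one] at this
    exact Units.ext this.symm
  have : CharP k 2 := CharTwo.of_one_ne_zero_of_two_eq_zero one_ne_zero (Cert.two_eq_zero_of_sq hφ)
  rw [map_one, mul_one] at h3 ⊢
  exact (pow_eq_one_iff_of_coprime (by norm_num : Nat.Coprime 3 (2 ^ 4))).1 ⟨h3,
    Core.certE6.pow_eq_one_of_mem_U rootE6 2 (k := 4)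
      (by decide +kernel : ∀ r < 72, ∑ i : Fin 6, rc6 r i < 2 ^ 4) hu⟩

theorem Tw.lang (h : Tw φ ω e) {K : Subgroup (GL chevE6.Idx k)} (hK : (Lang.glCoord k chevE6.Idx).Conn (K : Set _))
    (h1 : K ≤ chevE6.group k) (h2 : ∀ g ∈ K, (nW k ω)⁻¹ * gE6.gσ φ g * nW k ω ∈ K)
    {ω1 : List (Fin 6)} (h3 : (nW k ω1)⁻¹ * nW k ω ∈ K) :
    ∃ a ∈ K, Tw φ ω1 ((MulAut.conj a⁻¹).toMonoidHom.comp e) := by
  have : CharP k 2 := CharTwo.of_one_ne_zero_of_two_eq_zero one_ne_zero (Cert.two_eq_zero_of_sq hφ)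
  obtain ⟨a, ha, h4⟩ := Lang.Coord.lang hK ((gE6.steinberg_gσ 2 one_pos φ hφ).conj (nW k ω)⁻¹)
    (fun g hg => by simpa using h2 g hg) h3
  refine ⟨a, ha, h.conj (h1 ha) ?_⟩
  replace h4 : (nW k ω1)⁻¹ * nW k ω = a⁻¹ * ((nW k ω)⁻¹ * gE6.gσ φ a * (nW k ω)⁻¹⁻¹) := h4
  calc _ = nW k ω * a * (a⁻¹ * ((nW k ω)⁻¹ * gE6.gσ φ a * (nW k ω)⁻¹⁻¹)) * (nW k ω)⁻¹ := by group
    _ = _ := by rw [← h4]; group

theorem exists_tw (E : Emb φ e) (ω : List (Fin 6)) : ∃ e' : G →* GL chevE6.Idx k, Tw φ ω e' := by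
  obtain ⟨a, -, h⟩ := (tw_of_emb hφ E).lang hφ
    (Core.certE6.conn_group rootE6 (snf_of_mem (by simp))) le_rfl (fun g hg => mul_mem (mul_mem
      (inv_mem (nW_mem _)) (gE6.gσ_mem_group Core.certE6 rootE6 φ hg)) (nW_mem _))
    (mul_mem (inv_mem (nW_mem ω)) (nW_mem _))
  exact ⟨_, h⟩

theorem stable_Cz {z : kˣ} {v : Fin 6 → ℤ} (h : ∀ r < 72, (orderOf z : ℤ) ∣ ∑ i, v i * rc6 r i →
    (orderOf z : ℤ) ∣ ∑ i, v i * ev (ω.reverse.foldr (rreflL cartanE6)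
      (List.ofFn fun j => rc6 r (piE6 j))) i) {g : GL chevE6.Idx k} (hg : g ∈ Cz z v) :
    (nW k ω)⁻¹ * gE6.gσ φ g * nW k ω ∈ Cz z v := by
  have h0 : nW k ω.reverse * nW k ω = 1 := by
    rw [← nW_append]
    exact Core.certE6.wprod_n_eq rootE6 hφ (ω' := []) (show wprod W6.s _ = wprod W6.s [] by
      rw [wprod_append, W6.wprod_reverse, inv_mul_cancel, wprod_nil])
  rw [inv_eq_of_mul_eq_one_left h0, eq_inv_of_mul_eq_one_right h0]
  have : Cz z v ≤ (Cz z v).comap ((MulAut.conj (nW k ω.reverse)).toMonoidHom.comp (gE6.gσ φ)) := by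
    refine sup_le (spanX_le_iff.2 fun r hr => (Subgroup.closure_le _).2 ?_) ?_
    · rintro _ ⟨t, rfl⟩
      obtain ⟨h1, h2⟩ := mem_psi.1 hr
      have h3 := gE6.ok.lt _ h1
      change nW k ω.reverse * gE6.gσ φ _ * _ ∈ Cz z v
      rw [gσ_x hφ h1, nW_conj_x hφ _ h3]
      refine x_mem_Cz (rootE6.weyl_mem.1 (W6.smul_mem _ (rootE6.weyl_mem.2 h3))) ?_ _
      have h4 := (W6.rc_smul (wprod W6.s ω.reverse) (rootE6.weyl_mem.2 h3)).trans (lin_eq hC _ _)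
      have h5 : W6.rc (gE6.σ r) = fun j => rc6 r (piE6 j) := funext (rc_σ h1)
      rw [h5] at h4
      exact (congrArg (fun u : Fin 6 → ℤ => (orderOf z : ℤ) ∣ ∑ i, v i * u i) h4).mpr (h r h1 h2)
    · rintro _ ⟨c, rfl⟩
      change nW k ω.reverse * gE6.gσ φ _ * _ ∈ Cz z v
      rw [gE6.gσ_torGL Core.certE6 rootE6]
      exact (congrArg (· ∈ Cz z v) (nW_conj (k := k) _ _)).mpr (Subgroup.mem_sup_right ⟨_, rfl⟩)
  exact this hg

end Cfsg.Lib.Chev.E62
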