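import Cfsg.Agent.Chev.E8SLat
import Cfsg.Agent.Known.E7Lat

/-! Classes of coweights of `E₈` invariant under multiplication by `3`. -/

set_option autoImplicit false
set_option maxRecDepth 100000

namespace Cfsg.Lib.Chev.E8S

open Cfsg.Lie Matrix Finset Cfsg.Lib.Known.WE

variable {n q : ℕ} {μ ν : Fin 8 → ℤ}

theorem box_nil (P : ℕ → Bool) (V : ℕ) : box P [] V = P V := rfl

/-- The invariant Kac coordinates satisfy `P`. -/
noncomputable def clsK (n q : ℕ) (P : List ℕ → ℕ → Bool) : Bool :=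
  forceN (tb n q) fun T => kac (fun a V => !(sumT n T V == 15728640) || P a V) mc n [] 0

theorem cls (hn : 0 < n) (hn' : n ≤ 1000) {P : List ℕ → ℕ → Bool} (hc : clsK n q P = true)
    (h : Fr n q μ) : ∃ (w : w8.W) (m : Fin 8 → ℕ), Cg n (w8.co w μ) (cw m) ∧ (∀ i, m i ≤ n) ∧
      P (List.ofFn m) (pv m) = true := by
  obtain ⟨w, m, h1, h2, h3⟩ := exists_kac hn μ
  rw [clsK, forceN_eq] at hc
  have h4 := h3 _ hc
  rw [(((h.co w).congr h1).inv hn).test hn fun i => (h2 i).trans hn', beq_self_eq_true,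
    Bool.not_true, Bool.false_or] at h4
  exact ⟨w, m, h1, h2, h4⟩

theorem nz_of_cg {d : ℕ} {w : w8.W} {m : Fin 8 → ℕ} (h : Cg n (w8.co w μ) (cw m))
    (hm : ∀ i, m i ≤ 1000) (hd : d ∣ n) (h0 : 0 < d) : nz d μ = 2 * sumT d 1 (pv m) := by
  rw [← nz_co w, (h.of_dvd hd).nz, nz_cw h0 hm]

theorem two_cases (μ : Fin 8 → ℤ) : nz 2 μ = 112 ∨ nz 2 μ = 128 ∨ nz 2 μ = 240 := by
  obtain ⟨w, m, h1, h2, h3⟩ := exists_kac (n := 2) (by omega) μ
  have h4 := h3 (fun _ V => [56, 64, 120].contains (sumT 2 1 V)) (by decide +kernel)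
  rw [nz_of_cg h1 (fun i => (h2 i).trans (by omega)) dvd_rfl (by omega)]
  simp only [List.contains_iff_mem, List.mem_cons, List.not_mem_nil, or_false] at h4
  omega

theorem five_cases (h : Fr 5 3 μ) : nz 5 μ = 40 ∨ nz 5 μ = 44 ∨ nz 5 μ = 60 ∨ nz 5 μ = 240 := by
  obtain ⟨w, m, h1, h2, h4⟩ := cls (P := fun _ V => [20, 22, 30, 120].contains (sumT 5 1 V))
    (by omega) (by omega) (by decide +kernel) h
  rw [nz_of_cg h1 (fun i => (h2 i).trans (by omega)) dvd_rfl (by omega)]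
  simp only [List.contains_iff_mem, List.mem_cons, List.not_mem_nil, or_false] at h4
  omega

/-- Half the numbers of roots vanishing modulo `2`, `4`, `8`. -/
def L8 : List (ℕ × ℕ × ℕ) := [(56, 26, 11), (56, 26, 12), (56, 26, 15), (56, 28, 12), (56, 42, 18),
  (56, 42, 22), (56, 42, 30), (64, 29, 13), (64, 29, 21), (64, 31, 13), (64, 31, 14), (64, 31, 15),
  (64, 37, 16), (64, 37, 20), (64, 37, 36), (64, 63, 28), (64, 63, 36), (120, 56, 26),
  (120, 56, 28), (120, 56, 42), (120, 64, 29), (120, 64, 31), (120, 64, 37), (120, 64, 63),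
  (120, 120, 56), (120, 120, 64), (120, 120, 120)]

theorem eight_cases (h : Fr 8 3 μ) : ∃ x ∈ L8, nz 2 μ = 2 * x.1 ∧ nz 4 μ = 2 * x.2.1 ∧
    nz 8 μ = 2 * x.2.2 := by
  obtain ⟨w, m, h1, h2, h4⟩ := cls (P := fun _ V => L8.contains (sumT 2 1 V, sumT 4 1 V, sumT 8 1 V))
    (by omega) (by omega) (by decide +kernel) h
  have h3 : ∀ i, m i ≤ 1000 := fun i => (h2 i).trans (by omega)
  exact ⟨_, List.contains_iff_mem.1 h4, nz_of_cg h1 h3 (by omega) (by omega),
    nz_of_cg h1 h3 (by omega) (by omega), nz_of_cg h1 h3 (by omega) (by omega)⟩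

theorem clsL (hn : 0 < n) (hn' : n ≤ 1000) {L : List (List ℕ)}
    (hc : clsK n q (fun a _ => L.contains a) = true) (h : Fr n q μ) :
    ∃ (w : w8.W) (a : List ℕ), a ∈ L ∧ Cg n (w8.co w μ) (cw fun i => a.getD i 0) := by
  obtain ⟨w, m, h1, -, h4⟩ := cls hn hn' hc h
  refine ⟨w, _, List.contains_iff_mem.1 h4, ?_⟩
  convert h1 with i
  fin_cases i <;> rfl

theorem eleven_cases (h : Fr 11 3 μ) :
    nz 11 μ = 240 ∨ ∃ w : w8.W, Cg 11 (w8.co w μ) (cw ![1, 1, 0, 0, 0, 0, 1, 1]) := by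
  obtain ⟨w, a, ha, h1⟩ := clsL (L := [[0, 0, 0, 0, 0, 0, 0, 0], [1, 1, 0, 0, 0, 0, 1, 1]])
    (by omega) (by omega) (by decide +kernel) h
  simp only [List.mem_cons, List.not_mem_nil, or_false] at ha
  rcases ha with rfl | rfl
  · exact .inl ((nz_co w μ).symm.trans (nz_of_zero (by omega) (h1.trans (by unfold Cg; decide))))
  · exact .inr ⟨w, h1.trans (by unfold Cg; decide)⟩

theorem orderOf_six : orderOf ((6 : ℕ) : ZMod 41) = 40 := by
  rw [orderOf_eq_iff (by norm_num)]; decide +kernel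

theorem fortyone (h : Fr 41 6 μ) : nz 41 μ = 240 := by
  obtain ⟨w, h⟩ := h
  refine nz_of_zero (by omega) (not_not.1 fun h0 => ?_)
  have : Fact (Nat.Prime 41) := ⟨by norm_num⟩
  set A := w8.mat w⁻¹
  have hm : A ^ orderOf w⁻¹ = 1 := by rw [← w8.mat_pow, pow_orderOf_eq_one, w8.mat_one]
  have hd : (41 : ℤ) ∣ A.charpoly.eval 6 := by
    rw [Matrix.eval_charpoly]
    refine (ZMod.intCast_zmod_eq_zero_iff_dvd _ 41).1 ?_
    rw [show ∀ x : ℤ, (x : ZMod 41) = Int.castRingHom (ZMod 41) x from fun _ => rfl, RingHom.map_det]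
    refine Matrix.exists_mulVec_eq_zero_iff.1 ⟨fun i => (μ i : ZMod 41), fun e => h0 fun i =>
      (ZMod.intCast_eq_intCast_iff _ _ 41).1 ((congrFun e i).trans Int.cast_zero.symm), ?_⟩
    funext i
    have h1 := (ZMod.intCast_eq_intCast_iff _ _ 41).2 (h i)
    have h2 := (Int.castRingHom (ZMod 41)).map_mulVec (Matrix.scalar (Fin 8) (6 : ℤ) - A) μ i
    refine h2.symm.trans ?_
    rw [sub_mulVec, Pi.sub_apply, map_sub, Pi.zero_apply, sub_eq_zero]
    refine Eq.trans ?_ (h1.symm.trans ?_)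
    · simp
    · exact congrArg _ (dotProduct_comm _ _)
  have hroot : ∀ z : ℂ, Polynomial.aeval z A.charpoly = 0 → z ^ orderOf w⁻¹ = 1 := fun z hz =>
    Known.E7L.root_charpoly (A := A.map (Int.castRingHom ℂ)) (by
      rw [← RingHom.mapMatrix_apply, ← map_pow, hm, map_one]) (by
      rw [Matrix.charpoly_map, Polynomial.eval_map]; exact hz)
  obtain ⟨d, hd0, h1, h2⟩ := Known.E7L.exists_cyclotomic_dvd (orderOf_pos _)
    (Int.prime_iff_natAbs_prime.2 (by norm_num)) 6 _ A.charpoly_monic hroot hd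
  have hle : d.totient ≤ 8 := by
    have := Polynomial.natDegree_le_of_dvd h1 A.charpoly_monic.ne_zero
    simpa [Polynomial.natDegree_cyclotomic] using this
  have o := orderOf_six
  have hd' := Known.E7L.eq_orderOf_of_dvd_cyclotomic (p := 41) (a := 6) hd0 h2 (by
    rw [o, show Nat.totient 40 = 16 by decide]; omega)
  rw [hd', o, show Nat.totient 40 = 16 by decide] at hle
  omega

/-! ### Orders `14` and `26` -/

/-- Check of the classes of order `2 p`. -/
noncomputable def dblK (p : ℕ) (L : List (List ℕ)) (Q : List (ℕ × ℕ × ℕ)) : Bool :=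
  forceN (tb (2 * p) 3) fun T => L.all fun a => forceN ((p + 1) * pv fun i => a.getD i 0)
    (box (fun V => !(sumT (2 * p) T V == 15728640) ||
      Q.contains (sumT 2 1 V, sumT p 1 V, sumT (2 * p) 1 V))
    [(2, p * col 0), (2, p * col 1), (2, p * col 2), (2, p * col 3), (2, p * col 4), (2, p * col 5),
      (2, p * col 6), (2, p * col 7)])

theorem dbl {p : ℕ} (hp : p = 7 ∨ p = 13) {L : List (List ℕ)} {Q : List (ℕ × ℕ × ℕ)}
    (hL : ∀ a ∈ L, ∀ i : Fin 8, a.getD i 0 ≤ 20) (hc : clsK p 3 (fun a _ => L.contains a) = true)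
    (hd : dblK p L Q = true) (h : Fr (2 * p) 3 μ) :
    ∃ x ∈ Q, nz 2 μ = 2 * x.1 ∧ nz p μ = 2 * x.2.1 ∧ nz (2 * p) μ = 2 * x.2.2 := by
  obtain ⟨w, a, ha, h1⟩ := clsL (by omega) (by omega) hc (h.of_dvd (Dvd.intro_left 2 rfl))
  obtain ⟨e, he⟩ : ∃ e : Fin 8 → ℕ, e = fun i => res 2 (w8.co w μ i) := ⟨_, rfl⟩
  have he2 : ∀ i, e i < 2 := fun i => he ▸ res_lt (by omega) _
  have h2 : Cg (2 * p) (w8.co w μ) (cw fun i => (p + 1) * a.getD i 0 + e i * p) := fun i => by
    have h3 := h1 i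
    have h4 := res_cast (n := 2) (by omega) (w8.co w μ i)
    rw [show res 2 (w8.co w μ i) = e i by rw [he]] at h4
    simp only [cw, Int.ModEq] at h3 ⊢
    rcases hp with rfl | rfl <;> push_cast at h3 h4 ⊢ <;> omega
  have h3 : ∀ i : Fin 8, (p + 1) * a.getD i 0 + e i * p ≤ 1000 := fun i => by
    have := hL a ha i; have := he2 i; rcases hp with rfl | rfl <;> omega
  rw [dblK, forceN_eq] at hd
  have h4 := List.all_eq_true.1 hd a ha
  rw [forceN_eq] at h4
  have h5 := box_cons (box_cons (box_cons (box_cons (box_cons (box_cons (box_cons (box_cons h4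
    (he2 0)) (he2 1)) (he2 2)) (he2 3)) (he2 4)) (he2 5)) (he2 6)) (he2 7)
  have h6 : (pv fun i => (p + 1) * a.getD i 0 + e i * p) = (p + 1) * pv (fun i => a.getD i 0) +
      e 0 * (p * col 0) + e 1 * (p * col 1) + e 2 * (p * col 2) + e 3 * (p * col 3) +
      e 4 * (p * col 4) + e 5 * (p * col 5) + e 6 * (p * col 6) + e 7 * (p * col 7) := by
    rw [pv_eq', pv_eq']; ring
  rw [← h6, box_nil, (((h.co w).congr h2).inv (by omega)).test (by omega) h3, beq_self_eq_true,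
    Bool.not_true, Bool.false_or] at h5
  exact ⟨_, List.contains_iff_mem.1 h5, nz_of_cg h2 h3 (Dvd.intro _ rfl) (by omega),
    nz_of_cg h2 h3 (Dvd.intro_left _ rfl) (by omega), nz_of_cg h2 h3 dvd_rfl (by omega)⟩

/-- Invariant classes modulo `13`. -/
def L13 : List (List ℕ) := [[0, 0, 0, 0, 0, 0, 0, 0], [0, 0, 0, 0, 0, 0, 1, 2],
  [0, 0, 0, 0, 0, 0, 2, 3], [1, 0, 0, 0, 0, 1, 1, 1], [1, 1, 0, 0, 1, 0, 0, 1],
  [2, 0, 0, 0, 0, 1, 0, 0], [3, 0, 0, 0, 0, 1, 1, 0]]

theorem cls13 : clsK 13 3 (fun a _ => L13.contains a) = true := by decide +kernel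

theorem fourteen_cases (h : Fr 14 3 μ) : ∃ x ∈ [(56, 15, 5), (56, 36, 20), (56, 120, 56),
    (64, 15, 7), (64, 15, 13), (64, 36, 16), (64, 120, 64), (120, 15, 15), (120, 36, 36),
    (120, 120, 120)], nz 2 μ = 2 * x.1 ∧ nz 7 μ = 2 * x.2.1 ∧ nz 14 μ = 2 * x.2.2 :=
  dbl (p := 7) (L := [[0, 0, 0, 0, 0, 0, 0, 0], [0, 0, 0, 0, 0, 0, 1, 1], [1, 0, 0, 0, 0, 1, 0, 0]])
    (.inl rfl) (by decide) (by decide +kernel) (by decide +kernel) h

theorem twentysix_cases (h : Fr 26 3 μ) : ∃ x ∈ [(56, 6, 2), (56, 15, 5), (56, 36, 20),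
    (56, 120, 56), (64, 6, 4), (64, 12, 4), (64, 15, 7), (64, 15, 13), (64, 36, 16), (64, 120, 64),
    (120, 6, 6), (120, 12, 12), (120, 15, 15), (120, 36, 36), (120, 120, 120)],
    nz 2 μ = 2 * x.1 ∧ nz 13 μ = 2 * x.2.1 ∧ nz 26 μ = 2 * x.2.2 :=
  dbl (p := 13) (L := L13) (.inr rfl) (by decide) cls13 (by decide +kernel) h

theorem thirteen_cases (h : Fr 13 3 μ) : nz 13 μ = 240 ∨ nz 13 μ = 72 ∨ nz 13 μ = 24 ∨
    (nz 13 μ = 12 ∧ ∃ w : w8.W, Cg 13 (w8.co w μ) ![1, 1, 0, 0, 1, 0, 0, 1]) ∨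
    (nz 13 μ = 30 ∧ ∃ (w : w8.W) (e : ℕ), (e = 1 ∨ e = 2) ∧
      Cg 13 (w8.co w μ) ![2 * e, 0, 0, 0, 0, e, 0, 0]) := by
  obtain ⟨w, a, ha, h1⟩ := clsL (by omega) (by omega) cls13 h
  have h2 : ∀ a ∈ L13, ∀ i : Fin 8, a.getD i 0 ≤ 1000 := by decide
  rw [nz_of_cg h1 (h2 a ha) dvd_rfl (by omega)]
  simp only [L13, List.mem_cons, List.not_mem_nil, or_false] at ha
  rcases ha with rfl | rfl | rfl | rfl | rfl | rfl | rfl
  · exact .inl (by decide +kernel)
  · exact .inr (.inl (by decide +kernel))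
  · exact .inr (.inl (by decide +kernel))
  · exact .inr (.inr (.inl (by decide +kernel)))
  · exact .inr (.inr (.inr (.inl ⟨by decide +kernel, w, h1.trans (by unfold Cg; decide)⟩)))
  · exact .inr (.inr (.inr (.inr ⟨by decide +kernel, w, 1, .inl rfl,
      h1.trans (by unfold Cg; decide)⟩)))
  · refine .inr (.inr (.inr (.inr ⟨by decide +kernel, wprod w8.s [7, 6, 5, 4, 3, 1, 2, 0, 3, 2, 4, 3, 1, 5, 4, 3, 2, 0, 6, 5, 4, 3, 1, 2, 3, 4, 5, 6, 7, 6, 5, 4, 3, 1, 2, 0, 3, 2, 4, 3, 1, 5, 4, 3, 2, 0, 6] * w, 2, .inr rfl, ?_⟩)))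
    rw [w8.co_mul]
    refine (h1.co _).trans ?_
    rw [w8_hasC.co_wprod]
    unfold Cg
    decide +kernel

/-! ### Order `91` -/

theorem coL_top (y : Fin 8 → ℤ) : y ∈ w8.coL := by
  have hC : ∀ i, w8.C i = evL (cartanE8.getD i []) := fun i => by rw [w8_hasC i, evL_ofFn]
  have h1 : ∀ j : Fin 8, Pi.single j (1 : ℤ) = ∑ i : Fin 8, ((([[4, 5, 7, 10, 8, 6, 4, 2], [5, 8, 10, 15, 12, 9, 6, 3], [7, 10, 14, 20, 16, 12, 8, 4], [10, 15, 20, 30, 24, 18, 12, 6], [8, 12, 16, 24, 20, 15, 10, 5], [6, 9, 12, 18, 15, 12, 8, 4], [4, 6, 8, 12, 10, 8, 6, 3], [2, 3, 4, 6, 5, 4, 3, 2]] : List (List ℤ)).getD j []).getD i 0 : ℤ) •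
      (evL (cartanE8.getD i []) : Fin 8 → ℤ) := by decide +kernel
  rw [pi_eq_sum_univ' y]
  refine sum_mem fun j _ => Submodule.smul_mem _ _ ?_
  rw [h1]
  exact sum_mem fun i _ => Submodule.smul_mem _ _ (Submodule.subset_span ⟨i, hC i⟩)

theorem chr_ofAdd (ν v : Fin 8 → ℤ) : chr (fun i => Multiplicative.ofAdd (ν i : ZMod n)) v =
    Multiplicative.ofAdd ((ν ⬝ᵥ v : ℤ) : ZMod n) := by
  simp only [chr, dotProduct, Int.cast_sum, ofAdd_sum, ← ofAdd_zsmul, zsmul_eq_mul, Int.cast_mul,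
    mul_comm]

/-- A coset of the Weyl group of type `A₂ A₂`. -/
def L36 : List (List (List ℤ)) := (List.range 36).map fun k => (List.range 8).map fun i =>
  (List.range 8).map fun j => ((0x8888887998798869a7898859a8898849a88a873a988a785998898859888988688888887997988869a7898859a8898849a88a873a988a78599889885988898868888888799879886999798859a8898849a88a873a988a78599889885988898868888888798988886999798859a8898849a88a873a988a78599889885988898868888888799798886998988859a8898849a88a873a988a78599889885988898868888888798988886998988859a8898849a88a873a988a785998898859888988688888887998798869a7898859a8898849a88a7939988a785998898859888988688888887997988869a7898859a8898849a88a7939988a78599889885988898868888888799879886999798859a8898849a88a7939988a78599889885988898868888888798988886999798859a8898849a88a7939988a78599889885988898868888888799798886998988859a8898849a88a7939988a78599889885988898868888888798988886998988859a8898849a88a7939988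a785998898859888988688888887998798869a7898859a8898849a88a873a9889974998898859888988688888887997988869a7898859a8898849a88a873a988997499889885988898868888888799879886999798859a8898849a88a873a988997499889885988898868888888798988886999798859a8898849a88a873a988997499889885988898868888888799798886998988859a8898849a88a873a988997499889885988898868888888798988886998988859a8898849a88a873a9889974998898859888988688888887998798869a7898859a8898849a88998299889974998898859888988688888887997988869a7898859a8898849a8899829988997499889885988898868888888799879886999798859a8898849a8899829988997499889885988898868888888798988886999798859a8898849a8899829988997499889885988898868888888799798886998988859a8898849a8899829988997499889885988898868888888798988886998988859a8898849a88998299889974998898859888988688888887998798869a7898859a8898849a88a79399889894898898859888988688888887997988869a7898859a8898849a88a7939988989489889885988898868888888799879886999798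859a8898849a88a7939988989489889885988898868888888798988886999798859a8898849a88a7939988989489889885988898868888888799798886998988859a8898849a88a7939988989489889885988898868888888798988886998988859a8898849a88a79399889894898898859888988688888887998798869a7898859a8898849a88998299889894898898859888988688888887997988869a7898859a8898849a8899829988989489889885988898868888888799879886999798859a8898849a8899829988989489889885988898868888888798988886999798859a8898849a8899829988989489889885988898868888888799798886998988859a8898849a8899829988989489889885988898868888888798988886998988859a8898849a8899829988989489889885988898868 >>> (4 * (64 * k + 8 * i + j)) % 16 : ℕ) : ℤ) - 8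

/-- A word. -/
def W0 : List (Fin 8) := [1, 3, 2, 0, 4, 3, 1, 2, 3, 4, 5, 4, 3, 1, 2, 0, 3, 2, 4, 3, 1, 6, 5, 4, 3, 1, 2, 0, 3, 2, 4, 3, 1, 5, 4, 3, 2, 6, 5, 4, 3, 7, 6, 5, 4, 3, 1, 2, 0, 3, 2, 4, 3, 1, 5, 4, 3, 2, 0, 6, 5, 4, 3, 1, 2, 3, 4, 5, 6, 7, 6, 5, 4, 3, 2, 0]

theorem L36_ok : (L36.all fun M => annChk 8 M [-1, -1, 0, 1, 1] &&
    ([2, 3, 5, 6] : List (Fin 8)).all fun j => forceM (M.map (sreflL cartanE8 j)) L36.contains) =
    true := by
  decide +kernel

theorem F4 (h : Fr 91 3 ν) (ha : Cg 13 ν ![1, 1, 0, 0, 1, 0, 0, 1]) : nz 7 ν = 240 := by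
  obtain ⟨w, h⟩ := h
  have h1 : Cg 13 (w8.co (wprod w8.s W0) ![1, 1, 0, 0, 1, 0, 0, 1]) ![3, 3, 0, 0, 3, 0, 0, 3] := by
    rw [w8_hasC.co_wprod]; unfold Cg; decide +kernel
  have h2 : Cg 13 (w8.co (w * (wprod w8.s W0)⁻¹) ![3, 3, 0, 0, 3, 0, 0, 3])
      ![3, 3, 0, 0, 3, 0, 0, 3] := by
    refine (h1.symm.co _).trans ?_
    rw [← w8.co_mul, inv_mul_cancel_right]
    exact ((ha.symm.co _).trans (h.of_dvd (by norm_num))).trans ((ha.smul _).trans
      (by unfold Cg; decide))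
  choose y hy using fun i => Int.modEq_iff_dvd.1 (h2 i)
  have h3 := w8.mem_WS_of_co (N := 13) (by omega) (w := w * (wprod w8.s W0)⁻¹)
    (μ := ![3, 3, 0, 0, 3, 0, 0, 3]) (coL_top y) (funext fun i => by
      have := hy i
      rw [Pi.add_apply, Pi.smul_apply, smul_eq_mul]; push_cast at this; omega)
  have h4 : ∀ r < 240, (13 : ℤ) ∣ ![3, 3, 0, 0, 3, 0, 0, 3] ⬝ᵥ w8.rc r → w8.rc r 0 = 0 ∧
      w8.rc r 1 = 0 ∧ w8.rc r 4 = 0 ∧ w8.rc r 7 = 0 := by decide +kernel
  have h5 : w * (wprod w8.s W0)⁻¹ ∈ w8.WJ {i | i ∈ ([2, 3, 5, 6] : List (Fin 8))} := by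
    refine (Subgroup.closure_le _).2 ?_ h3
    rintro _ ⟨u, i, hu, rfl⟩
    have := h4 _ (w8_mem.1 hu.1) hu.2
    refine w8.conj_s_mem_WJ ⟨hu.1, fun j hj => ?_⟩
    fin_cases j
    exacts [this.1, this.2.1, (hj (by decide)).elim, (hj (by decide)).elim, this.2.2.1,
      (hj (by decide)).elim, (hj (by decide)).elim, this.2.2.2]
  have h6 := w8.WJ_induction (p := fun v => MW w8 (v * wprod w8.s W0) ∈ L36) h5
    (by rw [one_mul, MW_wprod w8_hasC]; decide +kernel) fun i hi v _ hv => by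
      have := List.all_eq_true.1 (Bool.and_eq_true_iff.1 (List.all_eq_true.1 L36_ok _ hv)).2 i hi
      rw [forceM_eq] at this
      rw [mul_assoc, MW_s_mul w8_hasC]
      exact List.contains_iff_mem.1 this
  rw [inv_mul_cancel_right] at h6
  have h7 := orderOf_dvd_of_ann (R := w8) (w := w) (q := 3)
    (c := fun i => Multiplicative.ofAdd (ν i : ZMod 7)) (funext fun i => by
      refine (chr_ofAdd ν (w8.rc (w⁻¹ • w8.simple i))).trans ?_
      rw [Pi.pow_apply, ← ofAdd_nsmul]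
      refine congrArg _ (((ZMod.intCast_eq_intCast_iff _ _ 7).2
        (h.of_dvd (by norm_num) i)).trans ?_)
      simp) (Bool.and_eq_true_iff.1 (List.all_eq_true.1 L36_ok _ h6)).1
  have h8 : orderOf (fun i => Multiplicative.ofAdd (ν i : ZMod 7)) ∣ 7 :=
    orderOf_dvd_of_pow_eq_one (funext fun i => by
      rw [Pi.pow_apply, ← ofAdd_nsmul, nsmul_eq_mul, ZMod.natCast_self, zero_mul]; rfl)
  have h9 := orderOf_eq_one_iff.1 (Nat.eq_one_of_dvd_coprimes (show Nat.Coprime 7 104 by norm_num)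
    h8 (Int.natCast_dvd_natCast.1 h7))
  exact nz_of_zero (by omega) fun i => (ZMod.intCast_eq_intCast_iff _ _ 7).1
    ((ofAdd_eq_one.1 (congrFun h9 i)).trans Int.cast_zero.symm)

/-- A lift modulo `91`. -/
def mm (e b0 b1 b2 b3 b4 b5 b6 b7 : ℕ) : Fin 8 → ℕ :=
  ![28 * e + 78 * b0, 78 * b1, 78 * b2, 78 * b3, 78 * b4, 14 * e + 78 * b5, 78 * b6, 78 * b7]

theorem pv_mm (e b0 b1 b2 b3 b4 b5 b6 b7 : ℕ) : pv (mm e b0 b1 b2 b3 b4 b5 b6 b7) =
    e * (28 * col 0 + 14 * col 5) + b1 * (78 * col 1) + b2 * (78 * col 2) + b3 * (78 * col 3) +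
    b4 * (78 * col 4) + b6 * (78 * col 6) + b7 * (78 * col 7) + b0 * (78 * col 0) +
    b5 * (78 * col 5) := by
  rw [pv_eq']; simp only [mm, Matrix.cons_val]; ring

/-- The pruned enumeration modulo `91`. -/
noncomputable def chk5 (e : ℕ) : Bool := forceN (tb 91 3) fun T =>
  forceN (e * (28 * col 0 + 14 * col 5)) (box (fun V => decide (sumT 91 1 V < 8) ||
    box (fun V => decide (sumT 91 1 V < 8) ||
      box (fun V => !(sumT 91 T V == 15728640) || sumT 7 1 V == 120)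
        [(7, 78 * col 0), (7, 78 * col 5)] V) [(7, 78 * col 6), (7, 78 * col 7)] V)
    [(7, 78 * col 1), (7, 78 * col 2), (7, 78 * col 3), (7, 78 * col 4)])

theorem chk5_one : chk5 1 = true := by decide +kernel

theorem chk5_two : chk5 2 = true := by decide +kernel

theorem F5 {e : ℕ} (he : e = 1 ∨ e = 2) (h : Fr 91 3 ν) (ha : Cg 13 ν ![2 * e, 0, 0, 0, 0, e, 0, 0])
    (h16 : 16 ≤ nz 91 ν) : nz 7 ν = 240 := by
  obtain ⟨b, hb⟩ : ∃ b : Fin 8 → ℕ, b = fun i => res 7 (ν i) := ⟨_, rfl⟩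
  have hb7 : ∀ i, b i < 7 := fun i => hb ▸ res_lt (by omega) _
  have hle : ∀ b0 < 7, ∀ b5 < 7, ∀ b6 < 7, ∀ b7 < 7, ∀ i,
      mm e b0 (b 1) (b 2) (b 3) (b 4) b5 b6 b7 i ≤ 1000 := fun b0 _ b5 _ b6 _ b7 _ i => by
    have := hb7 1; have := hb7 2; have := hb7 3; have := hb7 4
    fin_cases i <;> simp [mm] <;> omega
  have h2 : Cg 91 ν (cw (mm e (b 0) (b 1) (b 2) (b 3) (b 4) (b 5) (b 6) (b 7))) := fun i => by
    have h3 := ha i
    have h4 := res_cast (n := 7) (by omega) (ν i)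
    rw [show res 7 (ν i) = b i by rw [hb]] at h4
    fin_cases i <;> simp [cw, mm, Int.ModEq] at h3 h4 ⊢ <;> omega
  have h3 : ∀ r < 240, (13 : ℤ) ∣ 2 * w8.rc r 0 + w8.rc r 5 → w8.rc r 0 = 0 ∧ w8.rc r 5 = 0 ∧
      ((w8.rc r 6 = 0 ∧ w8.rc r 7 = 0) ∨ (w8.rc r 1 = 0 ∧ w8.rc r 2 = 0 ∧ w8.rc r 3 = 0 ∧
        w8.rc r 4 = 0)) := by decide +kernel
  have h4 : ∀ r < 240, ((91 : ℕ) : ℤ) ∣ cw (mm e (b 0) (b 1) (b 2) (b 3) (b 4) (b 5) (b 6) (b 7)) ⬝ᵥ
      w8.rc r → (((91 : ℕ) : ℤ) ∣ cw (mm e 0 (b 1) (b 2) (b 3) (b 4) 0 0 0) ⬝ᵥ w8.rc r) ∧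
      ((91 : ℕ) : ℤ) ∣ cw (mm e 0 (b 1) (b 2) (b 3) (b 4) 0 (b 6) (b 7)) ⬝ᵥ w8.rc r :=
    fun r hr hd => by
      have h5 := ((h2.of_dvd (show 13 ∣ 91 by norm_num)).symm.trans ha).dot (w8.rc r)
      have h6 := h3 r hr (by
        have h7 := h5.dvd
        have h8 := (show (13 : ℤ) ∣ ((91 : ℕ) : ℤ) by norm_num).trans hd
        generalize cw (mm e (b 0) (b 1) (b 2) (b 3) (b 4) (b 5) (b 6) (b 7)) ⬝ᵥ w8.rc r = x at h7 h8
        rcases he with rfl | rfl <;> simp [dotProduct, Fin.sum_univ_eight] at h7 <;> omega)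
      simp only [dotProduct, Fin.sum_univ_eight, cw, mm, Matrix.cons_val] at hd ⊢
      obtain ⟨h7, h8, ⟨h9, h10⟩ | ⟨h9, h10, h11, h12⟩⟩ := h6
      · simp only [h7, h8, h9, h10, mul_zero, add_zero] at hd ⊢
        exact ⟨hd, hd⟩
      · simp only [h7, h8, h9, h10, h11, h12, mul_zero, add_zero, Nat.cast_zero, zero_mul] at hd ⊢
        exact ⟨dvd_zero _, hd⟩
  rw [h2.nz] at h16
  have h5 := h16.trans (nz_mono (by omega) (by omega) fun r hr hd => (h4 r hr hd).1)
  have h6 := h16.trans (nz_mono (by omega) (by omega) fun r hr hd => (h4 r hr hd).2)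
  rw [nz_cw (by omega) (hle _ (by omega) _ (by omega) _ (by omega) _ (by omega)), pv_mm] at h5
  rw [nz_cw (by omega) (hle _ (by omega) _ (by omega) _ (hb7 6) _ (hb7 7)), pv_mm] at h6
  simp only [zero_mul, add_zero] at h5 h6
  have h7 : chk5 e = true := by
    rcases he with rfl | rfl
    exacts [chk5_one, chk5_two]
  rw [chk5, forceN_eq, forceN_eq] at h7
  have h8 := box_cons (box_cons (box_cons (box_cons h7 (hb7 1)) (hb7 2)) (hb7 3)) (hb7 4)
  rw [box_nil] at h8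
  have h9 := box_cons (box_cons ((Bool.or_eq_true_iff.1 h8).resolve_left
    (by rw [decide_eq_true_iff]; omega)) (hb7 6)) (hb7 7)
  rw [box_nil] at h9
  have h10 := box_cons (box_cons ((Bool.or_eq_true_iff.1 h9).resolve_left
    (by rw [decide_eq_true_iff]; omega)) (hb7 0)) (hb7 5)
  rw [← pv_mm, box_nil] at h10
  have h11 := hle _ (hb7 0) _ (hb7 5) _ (hb7 6) _ (hb7 7)
  rw [((h.congr h2).inv (by omega)).test (by omega) h11, beq_self_eq_true, Bool.not_true,
    Bool.false_or] at h10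
  rw [(h2.of_dvd (show 7 ∣ 91 by norm_num)).nz, nz_cw (by omega) h11, beq_iff_eq.1 h10]

theorem no729 (h : Fr 182 3 μ) (h2 : nz 2 μ ≠ 240) (h7 : nz 7 μ ≠ 240) {m : ℕ} (hm : m ≤ 9)
    (e : nz 13 μ = nz 14 μ + 2 * m) (hd : nz 2 μ = 128 → 16 ≤ nz 14 μ ∧ 16 ≤ nz 91 μ) : False := by
  obtain ⟨x, hx, a1, a2, a3⟩ := fourteen_cases (h.of_dvd (by norm_num))
  obtain ⟨y, hy, b1, b2, -⟩ := twentysix_cases (h.of_dvd (by norm_num))
  have h91 : Fr 91 3 μ := h.of_dvd (by norm_num)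
  have key : nz 13 μ = 12 ∨ nz 13 μ = 30 ∧ 16 ≤ nz 91 μ := by
    simp only [List.mem_cons, List.not_mem_nil, or_false] at hx hy
    rcases hx with rfl | rfl | rfl | rfl | rfl | rfl | rfl | rfl | rfl | rfl <;>
    simp only at a1 a2 a3 <;>
    rcases hy with rfl | rfl | rfl | rfl | rfl | rfl | rfl | rfl | rfl | rfl | rfl | rfl | rfl |
      rfl | rfl <;> simp only at b1 b2 <;> omega
  rcases thirteen_cases (h.of_dvd (show 13 ∣ 182 by norm_num)) with c | c | c | ⟨c, w, hw⟩ |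
    ⟨c, w, e, he, hw⟩
  · omega
  · omega
  · omega
  · exact h7 ((nz_co w μ).symm.trans (F4 (h91.co w) hw))
  · exact h7 ((nz_co w μ).symm.trans (F5 he (h91.co w) hw (by rw [nz_co]; omega)))

theorem clsK_eq_1' : type_of% @clsK.eq_1 := @clsK.eq_1
theorem L8_eq_1' : type_of% @L8.eq_1 := @L8.eq_1
theorem dblK_eq_1' : type_of% @dblK.eq_1 := @dblK.eq_1
theorem L13_eq_1' : type_of% @L13.eq_1 := @L13.eq_1
theorem L36_eq_1' : type_of% @L36.eq_1 := @L36.eq_1
theorem W0_eq_1' : type_of% @W0.eq_1 := @W0.eq_1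
theorem mm_eq_1' : type_of% @mm.eq_1 := @mm.eq_1
theorem chk5_eq_1' : type_of% @chk5.eq_1 := @chk5.eq_1

end Cfsg.Lib.Chev.E8S
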