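import Cfsg.Agent.Known.WeylEnum
import Cfsg.Agent.Chev.WeylTypes
import Cfsg.Agent.Chev.WeylAff
import Cfsg.Agent.Chev.RootCertE8

/-! Coweights of `E₈` modulo `n`: counting roots with prescribed values, Kac coordinates. -/

set_option autoImplicit false
set_option maxRecDepth 100000
set_option linter.unusedSectionVars false

namespace Cfsg.Lib.Chev

open Cfsg.Lie Matrix Finset Cfsg.Lib.Known.WE

theorem WeylData.exists_alcove {ι X : Type} [Fintype ι] [DecidableEq ι] [DecidableEq X]
    (R : WeylData ι X) {N : ℤ} (hN : 0 < N) (μ : ι → ℤ) : ∃ (u : R.W) (z : ι → ℤ), ∀ r, R.Pos r →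
      0 ≤ (R.co u μ + N • z) ⬝ᵥ R.rc r ∧ (R.co u μ + N • z) ⬝ᵥ R.rc r ≤ N := by
  obtain ⟨c, hc0, hc⟩ : ∃ c : ℤ, 0 < c ∧ ∀ r ∈ R.Φ, (fun _ => 1) ⬝ᵥ R.rc r < c := by
    obtain ⟨c, hc⟩ := (R.Φ.finite_toSet.image fun r => (fun _ => 1) ⬝ᵥ R.rc r).bddAbove
    exact ⟨max c 0 + 1, by omega, fun r hr => by have := hc ⟨r, hr, rfl⟩; simp only at this; omega⟩
  have hM : ∀ r ∈ R.Φ, (fun _ => 1) ⬝ᵥ R.rc r < c * N := fun r hr =>
    (hc r hr).trans_le (le_mul_of_one_le_right hc0.le hN)
  obtain ⟨⟨u, z⟩, h1, h⟩ := R.exists_min_ip (fun p : R.W × (ι → ℤ) => p.2 ∈ R.coL)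
    (fun p => R.co p.1 (c • μ) + (c * N) • p.2 - fun _ => 1) (t := (1, 0)) (zero_mem _)
  simp only at h1 h
  have key : ∀ r ∈ R.Φ, ∀ k : ℤ, 0 ≤ ((R.co u (c • μ) + (c * N) • z) ⬝ᵥ R.rc r - c * N * k) *
      ((fun _ => 1) ⬝ᵥ R.rc r - c * N * k) := fun r hr k => by
    obtain ⟨v, i, rfl⟩ := RGD.exists_smul_simple R hr
    refine le_of_not_gt fun hlt => h (v * R.s i * v⁻¹ * u, R.co (v * R.s i * v⁻¹) z +
      k • R.co v (R.C i)) (add_mem (R.co_mem_coL _ h1)
        (Submodule.smul_mem _ _ (R.cor_mem_coL v i))) ?_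
    simpa only [WeylData.co_mul (w := v * R.s i * v⁻¹), smul_add, ← add_assoc, WeylData.co_add,
      WeylData.co_smul, mul_smul] using R.ip_lt v i _ hlt
  refine ⟨u, z, fun r hr => ?_⟩
  have h3 := key r hr.1 0
  have h4 := key r hr.1 1
  rw [mul_zero, sub_zero, sub_zero] at h3
  rw [mul_one] at h4
  have h5 := nonneg_of_mul_nonneg_left h3 ((R.one_dot_pos hr.1).2 hr)
  have h6 := sub_nonpos.1 (nonpos_of_mul_nonneg_left h4 (sub_neg.2 (hM r hr.1)))
  rw [R.co_smul, mul_smul, ← smul_add, smul_dotProduct, smul_eq_mul] at h5 h6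
  exact ⟨nonneg_of_mul_nonneg_right h5 hc0 |> fun h => by nlinarith, le_of_mul_le_mul_left h6 hc0⟩

namespace E8S

/-- The root system. -/
noncomputable def w8 : WeylData (Fin 8) ℕ := rootE8.weyl

theorem w8_mem {r : ℕ} : r ∈ w8.Φ ↔ r < 240 := rootE8.weyl_mem

theorem w8_Φ : w8.Φ = range 240 := rootE8.weyl_Φ

theorem w8_hasC : w8.HasC cartanE8 := hasC_E8 rootE8

theorem w8_rc (r : ℕ) (i : Fin 8) : w8.rc r i = certE8.rcN chevE8 r i := rfl

theorem w8_pos {r : ℕ} : w8.Pos r ↔ 120 ≤ r ∧ r < 240 := rootE8.weyl_pos.trans (rootE8.pos_iff r)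

theorem rc_rev {r : ℕ} (hr : r < 240) : w8.rc (240 - 1 - r) = - w8.rc r := by
  have := rootE8.rc_neg r hr
  rw [rootE8.neg_eq r hr] at this
  exact this

/-- The residue modulo `n`. -/
def res (n : ℕ) (v : ℤ) : ℕ := (v % (n : ℤ)).toNat

/-- Sum of a function of the residues over the roots. -/
noncomputable def smN (n : ℕ) (g : ℕ → ℕ) (μ : Fin 8 → ℤ) : ℕ :=
  ∑ r ∈ range 240, g (res n (μ ⬝ᵥ w8.rc r))

/-- The number of roots whose value is divisible by `d`. -/
noncomputable def nz (d : ℕ) (μ : Fin 8 → ℤ) : ℕ := smN d (fun t => if t = 0 then 1 else 0) μ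

/-- Congruence of coweights. -/
def Cg (n : ℕ) (μ ν : Fin 8 → ℤ) : Prop := ∀ i, μ i ≡ ν i [ZMOD n]

/-- `μ` is conjugate to `q μ` modulo `n`. -/
def Fr (n q : ℕ) (μ : Fin 8 → ℤ) : Prop := ∃ w : w8.W, Cg n (w8.co w μ) ((q : ℤ) • μ)

/-- The values of `μ` are invariant under multiplication by `q`. -/
def Inv (n q : ℕ) (μ : Fin 8 → ℤ) : Prop :=
  ∀ g : ℕ → ℕ, smN n g μ = smN n (fun t => g (q * t % n)) μ

variable {n q d : ℕ} {μ ν κ : Fin 8 → ℤ}

theorem res_cast (hn : 0 < n) (v : ℤ) : (res n v : ℤ) = v % n :=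
  Int.toNat_of_nonneg (Int.emod_nonneg _ (by omega))

theorem res_lt (hn : 0 < n) (v : ℤ) : res n v < n := by
  have := res_cast hn v
  have := Int.emod_lt_of_pos v (show (0 : ℤ) < n by omega)
  omega

theorem res_congr {u v : ℤ} (h : u ≡ v [ZMOD n]) : res n u = res n v := by
  rw [res, res, h]

theorem res_nat (x : ℕ) : res n x = x % n := by
  rw [res, ← Int.natCast_mod, Int.toNat_natCast]

theorem res_modEq (hn : 0 < n) (v : ℤ) : v ≡ res n v [ZMOD n] := by
  rw [res_cast hn]; exact (Int.mod_modEq _ _).symm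

theorem res_mul (hn : 0 < n) (v : ℤ) : res n (q * v) = q * res n v % n := by
  rw [← res_nat, res_congr ((res_modEq hn v).mul_left q)]; push_cast; rfl

theorem res_neg (hn : 0 < n) (v : ℤ) : res n (-v) = (n - 1) * res n v % n := by
  rw [← res_mul hn]
  refine res_congr ?_
  rw [Nat.cast_sub hn, Int.modEq_iff_dvd]
  exact ⟨v, by push_cast; ring⟩

theorem res_eq_zero (hn : 0 < n) {v : ℤ} : res n v = 0 ↔ (n : ℤ) ∣ v := by
  rw [Int.dvd_iff_emod_eq_zero, ← res_cast hn]; omega

theorem res_mod (hn : 0 < n) (h : d ∣ n) (v : ℤ) : res n v % d = res d v := by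
  rw [← res_nat]
  exact (res_congr ((res_modEq hn v).of_dvd (Int.natCast_dvd_natCast.2 h))).symm

theorem Cg.refl (μ : Fin 8 → ℤ) : Cg n μ μ := fun _ => Int.ModEq.refl _
theorem Cg.symm (h : Cg n μ ν) : Cg n ν μ := fun i => (h i).symm
theorem Cg.trans (h : Cg n μ ν) (h' : Cg n ν κ) : Cg n μ κ := fun i => (h i).trans (h' i)
theorem Cg.of_dvd (h : Cg n μ ν) (hd : d ∣ n) : Cg d μ ν := fun i =>
  (h i).of_dvd (Int.natCast_dvd_natCast.2 hd)
theorem Cg.smul (h : Cg n μ ν) (a : ℤ) : Cg n (a • μ) (a • ν) := fun i => (h i).mul_left a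

theorem Cg.dot (h : Cg n μ ν) (v : Fin 8 → ℤ) : μ ⬝ᵥ v ≡ ν ⬝ᵥ v [ZMOD n] :=
  Int.ModEq.sum fun i _ => (h i).mul_right _

theorem Cg.co (h : Cg n μ ν) (w : w8.W) : Cg n (w8.co w μ) (w8.co w ν) := fun _ => h.dot _

theorem Cg.smN (h : Cg n μ ν) (g : ℕ → ℕ) : smN n g μ = smN n g ν :=
  sum_congr rfl fun _ _ => by rw [res_congr (h.dot _)]

theorem Cg.nz (h : Cg n μ ν) : nz n μ = nz n ν := h.smN _

theorem smN_co (g : ℕ → ℕ) (w : w8.W) (μ : Fin 8 → ℤ) : smN n g (w8.co w μ) = smN n g μ := by
  unfold smN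
  rw [← w8_Φ]
  refine sum_bij' (fun r _ => w⁻¹ • r) (fun r _ => w • r) (fun r hr => w8.smul_mem _ hr)
    (fun r hr => w8.smul_mem _ hr) (fun r _ => smul_inv_smul _ _) (fun r _ => inv_smul_smul _ _)
    fun r hr => by rw [w8.co_dot_rc _ _ hr]

theorem nz_co (w : w8.W) (μ : Fin 8 → ℤ) : nz n (w8.co w μ) = nz n μ := smN_co _ _ _

theorem smN_smul (hn : 0 < n) (g : ℕ → ℕ) (μ : Fin 8 → ℤ) :
    smN n g ((q : ℤ) • μ) = smN n (fun t => g (q * t % n)) μ :=
  sum_congr rfl fun _ _ => by rw [smul_dotProduct, smul_eq_mul, res_mul hn]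

theorem smN_congr (hn : 0 < n) {f g : ℕ → ℕ} (h : ∀ t < n, f t = g t) : smN n f μ = smN n g μ :=
  sum_congr rfl fun _ _ => h _ (res_lt hn _)

theorem smN_add (f g : ℕ → ℕ) : smN n (fun t => f t + g t) μ = smN n f μ + smN n g μ :=
  sum_add_distrib

theorem smN_one : smN n (fun _ => 1) μ = 240 := by simp [smN]

theorem smN_dvd (hn : 0 < n) (h : d ∣ n) (g : ℕ → ℕ) :
    smN d g μ = smN n (fun t => g (t % d)) μ :=
  sum_congr rfl fun _ _ => by rw [← res_mod hn h]

theorem nz_eq (hn : 0 < n) : nz n μ = ∑ r ∈ range 240, if (n : ℤ) ∣ μ ⬝ᵥ w8.rc r then 1 else 0 := by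
  unfold nz smN
  exact sum_congr rfl fun _ _ => if_congr (res_eq_zero hn) rfl rfl

theorem nz_mono {m : ℕ} (hn : 0 < n) (hm : 0 < m)
    (h : ∀ r < 240, (n : ℤ) ∣ μ ⬝ᵥ w8.rc r → (m : ℤ) ∣ ν ⬝ᵥ w8.rc r) : nz n μ ≤ nz m ν := by
  rw [nz_eq hn, nz_eq hm]
  refine sum_le_sum fun r hr => ?_
  split_ifs with h1 h2
  · rfl
  · exact (h2 (h r (mem_range.1 hr) h1)).elim
  all_goals omega

theorem nz_of_zero (hn : 0 < n) (h : Cg n μ 0) : nz n μ = 240 := by
  rw [h.nz, nz_eq hn]; simp

theorem Fr.inv (hn : 0 < n) (h : Fr n q μ) : Inv n q μ := fun g => by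
  obtain ⟨w, h⟩ := h
  rw [← smN_co g w, h.smN, smN_smul hn]

theorem Fr.co (h : Fr n q μ) (u : w8.W) : Fr n q (w8.co u μ) := by
  obtain ⟨w, h⟩ := h
  refine ⟨u * w * u⁻¹, ?_⟩
  rw [← w8.co_mul, inv_mul_cancel_right, w8.co_mul, ← w8.co_smul]
  exact h.co u

theorem Fr.congr (h : Fr n q μ) (h' : Cg n μ ν) : Fr n q ν := by
  obtain ⟨w, h⟩ := h
  exact ⟨w, ((h'.symm.co w).trans h).trans (h'.smul _)⟩

theorem Fr.of_dvd (h : Fr n q μ) (hd : d ∣ n) : Fr d q μ := by
  obtain ⟨w, h⟩ := h
  exact ⟨w, h.of_dvd hd⟩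

theorem Fr.mul {p : ℕ} (h : Fr n q μ) (h' : Fr n p μ) : Fr n (q * p) μ := by
  obtain ⟨w, h⟩ := h
  obtain ⟨u, h'⟩ := h'
  refine ⟨w * u, ?_⟩
  rw [w8.co_mul]
  refine (h'.co w).trans ?_
  rw [w8.co_smul, Nat.cast_mul, mul_comm, mul_smul]
  exact h.smul _

theorem Inv.neg (hn : 0 < n) : Inv n (n - 1) μ := fun g => by
  unfold smN
  rw [← sum_range_reflect]
  exact sum_congr rfl fun r hr => by rw [rc_rev (mem_range.1 hr), dotProduct_neg, res_neg hn]

theorem Inv.mul {p : ℕ} (hn : 0 < n) (h : Inv n q μ) (h' : Inv n p μ) : Inv n (q * p) μ := fun g => by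
  rw [h g, h']
  exact smN_congr hn fun t _ => by rw [Nat.mul_mod_mod, mul_assoc]

theorem Inv.pow (hn : 0 < n) (h : Inv n q μ) (k : ℕ) : Inv n (q ^ k) μ := by
  induction k with
  | zero => exact fun g => smN_congr hn fun t ht => by rw [pow_zero, one_mul, Nat.mod_eq_of_lt ht]
  | succ k ih => rw [pow_succ]; exact ih.mul hn h

theorem Inv.orbit (hn : 0 < n) (h : Inv n q μ) {A f : ℕ → ℕ} {k : ℕ}
    (e : ∀ t < n, f t = ∑ i ∈ range k, A (q ^ i * t % n)) : smN n f μ = k * smN n A μ := by
  rw [smN_congr hn e, smN, sum_comm]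
  refine (sum_congr rfl fun i _ => (h.pow hn i A).symm).trans (by simp)

theorem mod121 (h : Fr 121 3 μ) : nz 121 μ % 10 = 0 := by
  have h1 := ((h.inv (by omega)).mul (by omega) (Inv.neg (by omega))).orbit (by omega)
    (A := fun t => 1772982 >>> t % 2) (f := fun t => if t = 0 then 0 else 1) (k := 10)
    (by decide +kernel)
  have h2 := smN_add (n := 121) (μ := μ) (fun t => if t = 0 then 1 else 0)
    (fun t => if t = 0 then 0 else 1)
  rw [smN_congr (g := fun _ => 1) (by omega) (by decide), smN_one] at h2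
  unfold nz
  omega

theorem mod122 (h : Fr 122 3 μ) : nz 122 μ % 10 = nz 2 μ % 10 := by
  have h1 := (h.inv (by omega)).orbit (by omega)
    (A := fun t => 1115412 >>> t % 2) (f := fun t => if t % 2 = 0 ∧ t ≠ 0 then 1 else 0) (k := 10)
    (by decide +kernel)
  have h2 := smN_add (n := 122) (μ := μ) (fun t => if t = 0 then 1 else 0)
    (fun t => if t % 2 = 0 ∧ t ≠ 0 then 1 else 0)
  rw [smN_congr (g := fun t => if t % 2 = 0 then 1 else 0) (by omega) (by decide +kernel)] at h2
  unfold nz
  rw [smN_dvd (n := 122) (d := 2) (by omega) (by decide)]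
  omega

/-! ### Packed evaluation -/

/-- Digits in base `B`. -/
def pack (B : ℕ) (f : ℕ → ℕ) (n : ℕ) : ℕ := ∑ r ∈ range n, f r * B ^ r

theorem pack_digit {B : ℕ} {f : ℕ → ℕ} {n r : ℕ} (hf : ∀ r < n, f r < B) (hr : r < n) :
    pack B f n / B ^ r % B = f r := by
  induction r generalizing f n with
  | zero =>
    obtain ⟨n, rfl⟩ : ∃ m, n = m + 1 := ⟨n - 1, by omega⟩
    rw [pack, sum_range_succ', pow_zero, Nat.div_one, mul_one]
    simp only [pow_succ, ← mul_assoc, ← sum_mul]
    rw [Nat.mul_add_mod_of_lt (hf 0 hr)]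
  | succ r ih =>
    obtain ⟨n, rfl⟩ : ∃ m, n = m + 1 := ⟨n - 1, by omega⟩
    rw [pack, sum_range_succ', pow_zero, mul_one, pow_succ', ← Nat.div_div_eq_div_mul]
    simp only [pow_succ, ← mul_assoc, ← sum_mul]
    have hB : 0 < B := by have := hf 0 (by omega); omega
    rw [add_comm, Nat.add_mul_div_right _ _ hB, Nat.div_eq_of_lt (hf 0 (by omega)), zero_add]
    exact ih (f := fun r => f (r + 1)) (fun r hr => hf _ (by omega)) (by omega)

/-- Coefficients of the positive roots. -/
def cf (r i : ℕ) : ℕ := (certE8.rcN chevE8 (120 + r) i).toNat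

/-- The packed columns. -/
def col (i : ℕ) : ℕ := [0x200020002000200020002000200020002000200020002000200020001000100010001000100010001000100010001000100010001000100010001000100010001000100010001000100010001000100010001000100010001000100010001000100010001000100010001000100010001000100010001000100010001000100010001000100010001000100010001000100010001000100010001000000000000000000000000000000000000000000000000000000000000000000000000000000000000000000000000000000000000000000000000000000000000000000000000000000000000000000000000000105939f767c45,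
  0x30003000300030003000300030002000200020002000200020002000300020002000200020002000200020002000200020002000200020002000200020002000200020002000200010001000100010001000100010001000100010001000100010001000100010001000100010001000100010001000100010001000100010001000100010001000100010001000000000000000000000000000000010001000100010001000100010001000100010001000100010001000100010001000100010001000100000000000000000000000000000000000000000000000000000000000000000000000000000000000000016f23bde5c099,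
  0x4000400040004000400040003000400030003000300030003000300030003000300030003000300030002000200020002000200020002000200020002000200020002000200020002000200020002000200020002000200020002000200020002000200020002000200020002000200010001000100010001000100010001000100010001000100010001000100010001000100010001000100000001000100010001000100010001000100010001000100010001000100010000000000000000000000000001000100010001000100010000000000000000000000000000000000000000000000000000000000000002c304cb91ce37,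
  0x60006000600060006000500050005000500040004000400040004000500050004000400040004000400040004000400040004000300030003000300030003000300030003000300030003000300030003000300030003000300030002000200020002000200020002000200020002000200020002000200020002000200020002000200010001000100010001000100010001000100010000000000020002000200020002000200020002000200020001000100010001000100010001000100010001000000010001000100010001000000010001000100010001000000000000000000000000000000000000000000035db5f1446beb,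
  0x50005000500050004000400040004000400040003000300030003000400040004000300030003000300040003000300030003000300030003000300020002000200020002000200030003000300030002000200020002000200020002000200020002000200020001000100010001000200020002000200020002000100010001000100010001000100010000000100010001000100000000000000020002000200020002000200010001000100010001000100010001000000010001000100010000000000010001000100010000000000010001000100010000000100010001000100000000000000000000000000029baebd69fe29,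
  0x40004000400030003000300030003000300030003000200020002000300030003000300020002000200030003000200020002000300020002000200020002000200010001000100030002000200020002000200020001000100010002000200020001000100010001000100010000000200020002000100010001000100010001000000010001000100000000000100010001000000000000000000020002000200010001000100010001000100000001000100010000000000010001000100000000000000010001000100000000000000010001000100000000000100010001000000010001000100000000000000021ec2ec1d7da1,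
  0x30003000200020002000200020002000200020002000200010001000200020002000200020001000100020002000200010001000200020001000100020001000100010001000000020002000100010002000100010001000100000002000100010001000100000001000100000000000200010001000100010000000100010000000000010001000000000000000100010000000000000000000000020001000100010001000000010001000000000001000100000000000000010001000000000000000000010001000000000000000000010001000000000000000100010000000000010001000000010001000000035c84076ce2ef,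
  0x20001000100010001000100010001000100010001000100010000000100010001000100010001000000010001000100010000000100010001000000010001000000010000000000010001000100000001000100000001000000000001000100000001000000000001000000000000000100010000000100000000000100000000000000010000000000000000000100000000000000000000000000010001000000010000000000010000000000000001000000000000000000010000000000000000000000010000000000000000000000010000000000000000000100000000000000010000000000010000000100031a9477330bdb].getD i 0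

theorem col_eq : ∀ i < 8, col i = pack 65536 (fun r => cf r i) 120 * 2 ^ 64 + col i % 2 ^ 50 := by
  decide +kernel

theorem cf_le : ∀ r < 120, ∀ i < 8, cf r i ≤ 6 := by decide +kernel

theorem rc_pos {r : ℕ} (hr : r < 120) (i : Fin 8) : w8.rc (120 + r) i = cf r i :=
  (Int.toNat_of_nonneg ((w8_pos.2 ⟨by omega, by omega⟩ : w8.Pos (120 + r)).2 i)).symm

/-- The packed values of a coweight on the positive roots. -/
def pv (m : Fin 8 → ℕ) : ℕ := ∑ i : Fin 8, m i * col i

/-- The value on a positive root. -/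
def xv (m : Fin 8 → ℕ) (r : ℕ) : ℕ := ∑ i : Fin 8, m i * cf r i

/-- A table entry. -/
def dg (T t : ℕ) : ℕ := Nat.mod (Nat.shiftRight T (Nat.mul 32 t)) 4294967296

/-- Sum of table entries over the positive roots. -/
noncomputable def sumT (n T V : ℕ) : ℕ :=
  Nat.rec 0 (fun r acc => Nat.add acc
    (dg T (Nat.mod (Nat.mod (Nat.shiftRight V (Nat.add 64 (Nat.mul 16 r))) 65536) n))) 120

theorem pv_eq {m : Fin 8 → ℕ} (hm : ∀ i, m i ≤ 1000) : pv m / 2 ^ 64 = pack 65536 (xv m) 120 := by
  have h1 : ∑ i : Fin 8, m i * (col i % 2 ^ 50) < 2 ^ 64 :=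
    (sum_le_sum fun i _ => Nat.mul_le_mul (hm i) (Nat.mod_lt _ (by omega)).le).trans_lt (by simp)
  rw [pv, sum_congr rfl fun i _ => by rw [col_eq i i.2, mul_add, ← mul_assoc], sum_add_distrib,
    ← sum_mul, add_comm, Nat.add_mul_div_right _ _ (by omega), Nat.div_eq_of_lt h1, zero_add]
  simp only [pack, xv, mul_sum, sum_mul, mul_assoc]
  exact sum_comm

theorem sumT_eq {m : Fin 8 → ℕ} (hm : ∀ i, m i ≤ 1000) (n T : ℕ) :
    sumT n T (pv m) = ∑ r ∈ range 120, dg T (xv m r % n) := by
  have h1 : ∀ r < 120, xv m r < 65536 := fun r hr =>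
    (sum_le_sum fun i _ => Nat.mul_le_mul (hm i) (cf_le r hr i i.2)).trans_lt (by simp)
  have h2 : ∀ k ≤ 120, Nat.rec 0 (fun r acc => Nat.add acc
      (dg T (Nat.mod (Nat.mod (Nat.shiftRight (pv m) (Nat.add 64 (Nat.mul 16 r))) 65536) n))) k =
      ∑ r ∈ range k, dg T (xv m r % n) := fun k hk => by
    induction k with
    | zero => rfl
    | succ k ih =>
      rw [sum_range_succ, ← ih (by omega), ← pack_digit h1 (show k < 120 by omega), ← pv_eq hm]
      change _ + dg T (pv m >>> (64 + 16 * k) % 65536 % n) = _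
      rw [Nat.shiftRight_eq_div_pow, pow_add, pow_mul, show 2 ^ 16 = 65536 from rfl,
        Nat.div_div_eq_div_mul]
  exact h2 120 le_rfl

/-- Natural coordinates as a coweight. -/
def cw (m : Fin 8 → ℕ) : Fin 8 → ℤ := fun i => m i

theorem smN_eq (hn : 0 < n) (g : ℕ → ℕ) (m : Fin 8 → ℕ) : smN n g (cw m) =
    ∑ r ∈ range 120, (g (xv m r % n) + g ((n - 1) * (xv m r % n) % n)) := by
  have h1 : ∀ r < 120, cw m ⬝ᵥ w8.rc (120 + r) = xv m r := fun r hr => by
    simp only [dotProduct, rc_pos hr, cw, xv]; push_cast; rfl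
  unfold smN
  refine (sum_range_add _ 120 120).trans ?_
  rw [← sum_range_reflect, add_comm, sum_add_distrib]
  refine congrArg₂ _ (sum_congr rfl fun r hr => ?_) (sum_congr rfl fun r hr => ?_)
  · rw [h1 r (mem_range.1 hr), res_nat]
  · have hr := mem_range.1 hr
    rw [show 120 - 1 - r = 240 - 1 - (120 + r) by omega, rc_rev (by omega), dotProduct_neg,
      res_neg hn, h1 r hr, res_nat]

theorem dg_one (t : ℕ) : dg 1 t = if t = 0 then 1 else 0 := by
  cases t with
  | zero => rfl
  | succ t =>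
    change 1 >>> (32 * (t + 1)) % _ = 0
    rw [Nat.shiftRight_eq_div_pow, Nat.div_eq_of_lt (Nat.one_lt_two_pow (by omega))]

theorem nz_cw (hn : 0 < n) {m : Fin 8 → ℕ} (hm : ∀ i, m i ≤ 1000) :
    nz n (cw m) = 2 * sumT n 1 (pv m) := by
  rw [nz, smN_eq hn, sumT_eq hm, mul_sum]
  refine sum_congr rfl fun r _ => ?_
  rw [dg_one, ← res_nat, ← res_neg hn]
  simp only [res_eq_zero hn, dvd_neg]
  split_ifs <;> rfl

/-- A hash function. -/
def hs (t : ℕ) : ℕ := (t * t * t * t * t + 7 * t + 1) % 65521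

/-- The table testing invariance under `q`. -/
def tb (n q : ℕ) : ℕ := pack 4294967296 (fun t => 131072 + hs t + hs ((n - 1) * t % n) -
  (hs (q * t % n) + hs (q * ((n - 1) * t % n) % n))) n

theorem hs_lt (t : ℕ) : hs t < 65521 := Nat.mod_lt _ (by omega)

theorem Inv.test (hn : 0 < n) {m : Fin 8 → ℕ} (hm : ∀ i, m i ≤ 1000) (h : Inv n q (cw m)) :
    sumT n (tb n q) (pv m) = 15728640 := by
  have h1 := h hs
  rw [smN_eq hn, smN_eq hn] at h1
  have h2 : ∀ t < n, dg (tb n q) t + (hs (q * t % n) + hs (q * ((n - 1) * t % n) % n)) =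
      131072 + (hs t + hs ((n - 1) * t % n)) := fun t ht => by
    have h3 : dg (tb n q) t = tb n q / 4294967296 ^ t % 4294967296 := by
      change tb n q >>> (32 * t) % _ = _
      rw [Nat.shiftRight_eq_div_pow, pow_mul, show 2 ^ 32 = 4294967296 from rfl]
    rw [h3, tb, pack_digit (fun t _ => ?_) ht]
    · have := hs_lt (q * t % n); have := hs_lt (q * ((n - 1) * t % n) % n); omega
    · have := hs_lt t; have := hs_lt ((n - 1) * t % n); omega
  have h4 := sum_congr rfl fun r (_ : r ∈ range 120) => h2 (xv m r % n) (Nat.mod_lt _ hn)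
  rw [sum_add_distrib, sum_add_distrib (f := fun _ => 131072), ← h1, ← sumT_eq hm] at h4
  simpa using h4

/-! ### Enumerations -/

/-- Enumeration of a box. -/
noncomputable def box (P : ℕ → Bool) (l : List (ℕ × ℕ)) : ℕ → Bool :=
  List.rec P (fun p _ ih V => allR p.1 fun s => forceN (Nat.add V (Nat.mul s p.2)) ih) l

theorem box_cons {P : ℕ → Bool} {k c V : ℕ} {l : List (ℕ × ℕ)} (h : box P ((k, c) :: l) V = true)
    {s : ℕ} (hs : s < k) : box P l (V + s * c) = true :=
  (forceN_eq _ _).symm.trans ((allR_iff _ _).1 h s hs)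

/-- Enumeration of Kac coordinates. -/
noncomputable def kac (P : List ℕ → ℕ → Bool) (l : List (ℕ × ℕ)) : ℕ → List ℕ → ℕ → Bool :=
  List.rec (fun _ => P) (fun p _ ih rem acc V => allR (Nat.succ (Nat.div rem p.1)) fun s =>
    forceN (Nat.sub rem (Nat.mul s p.1)) fun rem' =>
      forceN (Nat.add V (Nat.mul s p.2)) (ih rem' (s :: acc))) l

theorem kac_cons {P : List ℕ → ℕ → Bool} {k c V rem : ℕ} {l : List (ℕ × ℕ)} {acc : List ℕ}
    (h : kac P ((k, c) :: l) rem acc V = true) (hk : 0 < k) {s : ℕ} (hs : s * k ≤ rem) :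
    kac P l (rem - s * k) (s :: acc) (V + s * c) = true := by
  have := (allR_iff (Nat.succ (Nat.div rem k)) fun s => forceN (Nat.sub rem (Nat.mul s k)) fun rem' =>
      forceN (Nat.add V (Nat.mul s c)) (kac P l rem' (s :: acc))).1 h s
    (Nat.lt_succ_of_le ((Nat.le_div_iff_mul_le hk).2 hs))
  rwa [forceN_eq, forceN_eq] at this

/-- Marks and columns. -/
def mc : List (ℕ × ℕ) := [(2, col 7), (3, col 6), (4, col 5), (5, col 4), (6, col 3), (4, col 2),
  (3, col 1), (2, col 0)]

theorem pv_eq' (m : Fin 8 → ℕ) : pv m = 0 + m 7 * col 7 + m 6 * col 6 + m 5 * col 5 + m 4 * col 4 +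
    m 3 * col 3 + m 2 * col 2 + m 1 * col 1 + m 0 * col 0 := by
  rw [pv, Fin.sum_univ_eight]
  change m 0 * col 0 + m 1 * col 1 + m 2 * col 2 + m 3 * col 3 + m 4 * col 4 + m 5 * col 5 +
    m 6 * col 6 + m 7 * col 7 = _
  ring

theorem cf_top : ∀ i : Fin 8, cf 119 i = ![2, 3, 4, 6, 5, 4, 3, 2] i := by decide +kernel

theorem exists_kac (hn : 0 < n) (μ : Fin 8 → ℤ) : ∃ (w : w8.W) (m : Fin 8 → ℕ),
    Cg n (w8.co w μ) (cw m) ∧ (∀ i, m i ≤ n) ∧ ∀ P : List ℕ → ℕ → Bool,
      kac P mc n [] 0 = true → P (List.ofFn m) (pv m) = true := by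
  obtain ⟨u, z, h⟩ := w8.exists_alcove (N := n) (by omega) μ
  have h0 : ∀ i, 0 ≤ (w8.co u μ + (n : ℤ) • z) i := fun i => by
    have := (h _ (w8.pos_simple i)).1
    rwa [w8.rc_simple, dotProduct_single, mul_one] at this
  obtain ⟨m, hm⟩ : ∃ m : Fin 8 → ℕ, w8.co u μ + (n : ℤ) • z = cw m :=
    ⟨fun i => ((w8.co u μ + (n : ℤ) • z) i).toNat, funext fun i => (Int.toNat_of_nonneg (h0 i)).symm⟩
  have h1 := (h (120 + 119) (w8_pos.2 ⟨by omega, by omega⟩)).2
  rw [hm] at h1
  simp only [dotProduct, rc_pos (show 119 < 120 by omega), cf_top, cw, Fin.sum_univ_eight] at h1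
  simp only [Matrix.cons_val] at h1
  refine ⟨u, m, fun i => ?_, fun i => ?_, fun P hP => ?_⟩
  · rw [← hm]; exact (Int.modEq_iff_dvd.2 ⟨z i, by simp⟩)
  · fin_cases i <;> simp only [Fin.reduceFinMk, Fin.zero_eta, Fin.mk_one] <;> omega
  · have := kac_cons (kac_cons (kac_cons (kac_cons (kac_cons (kac_cons (kac_cons (kac_cons hP
      (by omega) (s := m 7) (by omega)) (by omega) (s := m 6) (by omega)) (by omega) (s := m 5)
      (by omega)) (by omega) (s := m 4) (by omega)) (by omega) (s := m 3) (by omega)) (by omega)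
      (s := m 2) (by omega)) (by omega) (s := m 1) (by omega)) (by omega) (s := m 0) (by omega)
    rw [pv_eq']
    exact this

end E8S

theorem E8S.w8_eq_1' : type_of% @E8S.w8.eq_1 := @E8S.w8.eq_1
theorem E8S.res_eq_1' : type_of% @E8S.res.eq_1 := @E8S.res.eq_1
theorem E8S.smN_eq_1' : type_of% @E8S.smN.eq_1 := @E8S.smN.eq_1
theorem E8S.nz_eq_1' : type_of% @E8S.nz.eq_1 := @E8S.nz.eq_1
theorem E8S.Cg_eq_1' : type_of% @E8S.Cg.eq_1 := @E8S.Cg.eq_1
theorem E8S.Fr_eq_1' : type_of% @E8S.Fr.eq_1 := @E8S.Fr.eq_1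
theorem E8S.Inv_eq_1' : type_of% @E8S.Inv.eq_1 := @E8S.Inv.eq_1
theorem E8S.pack_eq_1' : type_of% @E8S.pack.eq_1 := @E8S.pack.eq_1
theorem E8S.cf_eq_1' : type_of% @E8S.cf.eq_1 := @E8S.cf.eq_1
theorem E8S.col_eq_1' : type_of% @E8S.col.eq_1 := @E8S.col.eq_1
theorem E8S.pv_eq_1' : type_of% @E8S.pv.eq_1 := @E8S.pv.eq_1
theorem E8S.xv_eq_1' : type_of% @E8S.xv.eq_1 := @E8S.xv.eq_1
theorem E8S.dg_eq_1' : type_of% @E8S.dg.eq_1 := @E8S.dg.eq_1
theorem E8S.sumT_eq_1' : type_of% @E8S.sumT.eq_1 := @E8S.sumT.eq_1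
theorem E8S.cw_eq_1' : type_of% @E8S.cw.eq_1 := @E8S.cw.eq_1
theorem E8S.hs_eq_1' : type_of% @E8S.hs.eq_1 := @E8S.hs.eq_1
theorem E8S.tb_eq_1' : type_of% @E8S.tb.eq_1 := @E8S.tb.eq_1
theorem E8S.box_eq_1' : type_of% @E8S.box.eq_1 := @E8S.box.eq_1
theorem E8S.kac_eq_1' : type_of% @E8S.kac.eq_1 := @E8S.kac.eq_1
theorem E8S.mc_eq_1' : type_of% @E8S.mc.eq_1 := @E8S.mc.eq_1

end Cfsg.Lib.Chev
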