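import Cfsg.Agent.Chev.EGMat
import Cfsg.Agent.Chev.TwistG2

/-!
# Squares of semisimple classes in groups of rank two
-/

set_option autoImplicit false
set_option linter.unusedSectionVars false

namespace Cfsg.Lib.Chev

open Matrix MatrixGroups Cfsg.Lie Cfsg.Lib.Chev.Core

universe u

theorem exists_quad_ext {F : Type u} [Field F] [Finite F] (τ : F) {e : F} (he : e ≠ 0) :
    ∃ (F' : Type u) (_ : Field F') (_ : Finite F') (f : F →+* F') (l : F'), l ≠ 0 ∧ l + f e * l⁻¹ = f τ := by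
  let P : Polynomial F := Polynomial.X ^ 2 + Polynomial.C (-τ) * Polynomial.X + Polynomial.C e
  have h1 : P.degree = 2 := by simpa [P] using Polynomial.degree_quadratic (a := (1 : F)) (b := -τ) (c := e) one_ne_zero
  obtain ⟨l, hl⟩ := (Polynomial.SplittingField.splits P).exists_eval_eq_zero (by rw [Polynomial.degree_map, h1]; decide)
  simp only [P, Polynomial.map_add, Polynomial.map_pow, Polynomial.map_X, Polynomial.map_mul, Polynomial.map_C,
    Polynomial.eval_add, Polynomial.eval_pow, Polynomial.eval_X, Polynomial.eval_mul, Polynomial.eval_C,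
    map_neg (algebraMap F _)] at hl
  have h0 : l ≠ 0 := fun h => he (by simpa [h] using hl)
  exact ⟨_, _, Module.finite_of_finite F, algebraMap F _, l, h0, by field_simp; linear_combination hl⟩

theorem exists_not_trace {k : Type*} [Field k] [Finite k] [CharP k 2] {c : k} (h : c = 0 ∨ 2 < Nat.card k) :
    ∃ τ : k, τ ≠ c ∧ ∀ t, t ≠ 0 → t + t⁻¹ ≠ τ := by
  classical
  by_contra! hc
  have h1 : Function.Injective fun t : k => if t = 0 then c else t + t⁻¹ :=
    Finite.injective_iff_surjective.2 fun τ => (em (τ = c)).elim (fun e => ⟨0, by simp [e]⟩) fun e =>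
      (hc τ e).imp fun t ht => by simp [ht]
  rcases h with rfl | h
  · exact one_ne_zero (h1 (a₂ := 0) (by simp [CharTwo.add_self_eq_zero]))
  · have := Fintype.ofFinite k
    obtain ⟨t, h2, h3⟩ := exists_pow_ne_one (K := k) one_ne_zero (by rwa [← Nat.card_eq_fintype_card])
    have h4 := h1 (a₁ := t) (a₂ := t⁻¹) (by simp [h2, add_comm])
    exact h3 (by simpa [CharTwo.neg_eq] using mul_self_eq_one_iff.1 ((mul_eq_one_iff_eq_inv₀ h2).2 h4))

theorem zpow_mul_ne_one {F F' : Type*} [Field F] [Field F'] {f : F →+* F'} {l : F'} (h : ∀ t, f t ≠ l) {i : ℤ}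
    (hi : i.natAbs = 1) (c : F) : l ^ i * f c ≠ 1 := fun e => by
  rcases Int.natAbs_eq_iff.1 hi with rfl | rfl
  · exact h c⁻¹ (by simpa using (eq_inv_of_mul_eq_one_left e).symm)
  · exact h c (by simpa using eq_inv_of_mul_eq_one_right e)

theorem commMod_of_zero {D : ChevalleyDatum} {k l : ℕ} (h : commMod D 0 k l = true) (p : ℕ) : commMod D p k l = true := by
  simp only [commMod, Bool.or_eq_true, Bool.and_eq_true, List.all_eq_true, beq_iff_eq] at h ⊢
  exact h.imp_right (And.imp_right fun h c hc => by simpa using congrArg (· % (p : ℤ)) (h c hc))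

theorem GRD.exists_X_ne_one {W A ι G : Type*} [Group W] [MulAction W A] [Group G] {C : CoxSys W A ι} (Y : GRD C G)
    (w : W) (c : ι) : ∃ v ∈ Y.X (w • C.t c • C.simple c), v ≠ 1 := by
  obtain ⟨m, hm⟩ := Y.exists_lifts w
  obtain ⟨v, hv, h⟩ := Y.nontriv c
  exact ⟨_, Y.conj hm (C.smul_mem _ (C.simple_mem c)) hv, mt conj_eq_one_iff.1 h⟩

theorem wordChar_const {F : Type*} [Field F] (D : ChevalleyDatum) {l : F} (h : l ≠ 0) (L : List ℕ) (s : ℕ) :
    wordChar D (L.map fun r => (r, l)) s = l ^ (L.map (D.pairing · s)).sum := by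
  induction L with
  | nil => simp [wordChar]
  | cons r L ih => rw [List.map_cons (l := L), List.map_cons, List.sum_cons, zpow_add₀ h, ← ih]; rfl

theorem StRelN.prod_hel_sq {F G : Type*} [Field F] [Group G] {D : ChevalleyDatum} {y : ℕ → F → G} (hy : StRelN D y)
    (R : RootData D) {w : List ℕ} (hw : ∀ r ∈ w, r < D.nroots) :
    (w.map fun r => hel D y r (-1)).prod * (w.map fun r => hel D y r (-1)).prod = 1 := by
  have h0 : (-1 : F) ≠ 0 := neg_ne_zero.2 one_ne_zero
  induction w with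
  | nil => simp
  | cons r w ih =>
    rw [List.forall_mem_cons] at hw
    rw [List.map_cons, List.prod_cons, (hy.hSub_comm R (list_prod_mem (List.forall_mem_map.2 fun s hs =>
      hel_mem_hSub y (hw.2 s hs) h0)) (hel_mem_hSub y hw.1 h0)).mul_mul_mul_comm, ih hw.2, hy.hmul r hw.1 _ _ h0 h0]
    simpa using hy.hel_one R hw.1

/-- The action of a word in the twisted Weyl group. -/
def twAct (D : ChevalleyDatum) {κ : Type} (tw : κ → List (Fin D.rank)) (ω : List κ) (r : ℕ) : ℕ :=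
  (ω.flatMap tw).foldr (fun i s => D.reflectRoot i s) r

/-- The root lies in the span of the given simple roots. -/
def inJChk (D : ChevalleyDatum) (J : List (Fin D.rank)) (r : ℕ) : Bool :=
  decide (∀ i : Fin D.rank, i ∉ J → (D.coroot.getD r #[]).getD i 0 = 0)

theorem twAct_eq_1' : type_of% @twAct.eq_1 := @twAct.eq_1
theorem inJChk_eq_1' : type_of% @inJChk.eq_1 := @inJChk.eq_1

variable {F : Type u} [Field F] [Finite F] {D : ChevalleyDatum} (C : Cert D) {R : RootData D} {S : R.weyl.Sym}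
  (T : (C.Y F R).Twist S) {K : Subgroup (GL D.Idx F)} (hK : T.G1 = K) {κ : Type} {rep : κ → Fin D.rank}
  (hrep : ∀ i, ∃ k, i ∈ S.orb (rep k)) {tw orb : κ → List (Fin D.rank)}
  (htw : ∀ k, S.orb (rep k) = {j | j ∈ orb k} ∧ S.t (rep k) = wprod R.weyl.s (tw k))
  (p : ℕ) [Fact p.Prime] [CharP F p] {a b c : κ}

namespace Core.Cert

include htw in
theorem exists_perp (ω : List κ) (h1 : D.IsPosRoot (twAct D tw ω (D.simple (rep c))))
    (h2 : ∀ r < D.nroots, ∀ s < D.nroots, inJChk D (orb a) r = true → inJChk D (orb c) s = true →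
      commMod D p (twAct D tw ω s) r = true) {v : K}
    (hv : v ∈ (T.grd (C.faithful F R) hK rep hrep).X
      (wprod (S.cox rep hrep).t ω • (S.cox rep hrep).t c • (S.cox rep hrep).simple c)) (h3 : v ≠ 1) :
    v ∈ (T.grd (C.faithful F R) hK rep hrep).Rm a ∧ ∃ n, (T.grd (C.faithful F R) hK rep hrep).Perp a n ∧
      ∃ u ∈ (T.grd (C.faithful F R) hK rep hrep).Rp a, ∃ u' ∈ (T.grd (C.faithful F R) hK rep hrep).Rp a,
        v = u * n * u' := by
  obtain ⟨m, hm⟩ := (T.grd (C.faithful F R) hK rep hrep).exists_lifts (wprod (S.cox rep hrep).t ω)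
  have h4 := fun r => RootData.cox_smul hrep (fun k => (htw k).2) ω (r := r)
  refine GRD.exists_perp (T.grd_faithful _ hK rep hrep) hm (R.weyl_pos.2 ((h4 _ (R.simple_lt _ (rep c).2)).symm ▸ h1))
    (T.grd_commute _ hK rep hrep hm fun r s hr hs x hx z hz => ?_) hv h3
  rw [(htw _).1, R.inJ_iff] at hr hs
  have h5 := R.weyl_smul_lt (wprod (S.cox rep hrep).t ω : S.fix) hs.1
  obtain ⟨t, rfl⟩ := ((C.stRelN F R).mem_xSub_iff hr.1).1 hx
  obtain ⟨u, rfl⟩ := ((C.stRelN F R).mem_xSub_iff h5).1 hz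
  exact (C.stRelN F R).commute_of_commMod R h5 hr.1 ((h4 s hs.1).symm ▸
    h2 r hr.1 s hs.1 (decide_eq_true hr.2) (decide_eq_true hs.2)) _ _

include htw in
theorem cox_ne {ω ω' : List κ} {r : ℕ} (h : r < D.nroots ∧ twAct D tw ω r ≠ twAct D tw ω' r) :
    wprod (S.cox rep hrep).t ω ≠ wprod (S.cox rep hrep).t ω' := fun e => h.2 (by
  rw [twAct, twAct, ← RootData.cox_smul hrep (fun k => (htw k).2) ω h.1, e,
    RootData.cox_smul hrep (fun k => (htw k).2) ω' h.1])

theorem grd_comm : ∀ g ∈ (T.grd (C.faithful F R) hK rep hrep).H, ∀ h ∈ (T.grd (C.faithful F R) hK rep hrep).H,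
    Commute g h := fun _ hg _ hh =>
  Subtype.ext ((C.stRelN F R).hSub_comm R (RGD.lifts_one_iff.1 hg) (RGD.lifts_one_iff.1 hh))

theorem grd_odd [CharP F 2] : ∀ g ∈ (T.grd (C.faithful F R) hK rep hrep).H, Odd (orderOf g) := fun _ hg =>
  odd_card_units.of_dvd_nat (orderOf_dvd_of_pow_eq_one (Subtype.ext
    ((C.model F R).pow_eq_one (RGD.lifts_one_iff.1 hg))))

variable {T} {k : Type*} [Field k] [Finite k] {L : List ℕ} {ψ : ℕ → k →+* F}
  (h : (C.model F R).Node T (rep a) L ψ) [IsSimpleGroup K] (hM : (T.grd (C.faithful F R) hK rep hrep).Onto)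
  {n : K} (hn : (T.grd (C.faithful F R) hK rep hrep).Perp a n) (hab : ∀ i, i = a ∨ i = b)
  (hw0 : ∀ i : Fin D.rank, R.weyl.w0 Set.univ • D.simple i = D.neg (D.simple i))
include htw h hM hn hab hw0

theorem cover_odd (hp : p ≠ 2) {r : ℕ} (hc : r < D.nroots ∧ twAct D tw [a, b] r ≠ twAct D tw [b, a] r) {w : List ℕ}
    (hw : TorWord D (xGL D F) K (w.map fun r => (r, -1))) (h1 : ∀ r ∈ L, Odd (w.map (D.pairing · r)).sum)
    (h2 : ∀ s < D.nroots, inJChk D (orb a) s = false → ((L.map (D.pairing · s)).sum = 0 ∧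
      Odd (w.map (D.pairing · s)).sum) ∨ (L.map (D.pairing · s)).sum.natAbs = 1) :
    ∃ x : K, ¬ p ∣ orderOf x ∧ ∀ g : K, g ≠ 1 → ∃ u v : K, g = u * x * u⁻¹ * (v * x * v⁻¹) := by
  obtain ⟨φ, hφ, e⟩ := h.exists_hom hK hrep
  have hF : (2 : F) ≠ 0 := Ring.two_ne_zero (ringChar.eq F p ▸ hp)
  obtain ⟨r₀, -⟩ := List.exists_mem_of_ne_nil L h.ne
  have hk : (2 : k) ≠ 0 := fun e => hF (by simpa [map_ofNat] using congrArg (ψ r₀) e)
  have he : ((-1 : kˣ) : k) * (-1 : kˣ) = 1 := by simp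
  have h3 := wordChar_const D (neg_ne_zero.2 (one_ne_zero (α := F))) w
  have hwe : ∀ r ∈ L, wordChar D (w.map fun r => (r, -1)) r = ψ r (-1 : kˣ) := fun r hr => by
    simp [h3, (h1 r hr).neg_one_zpow]
  obtain ⟨B, hB⟩ := exists_twTr (e := -1) (2 : k)
  obtain ⟨F', _, _, f, l, h4, h5⟩ := exists_quad_ext (2 : F) (neg_ne_zero.2 one_ne_zero)
  have h6 := (map_ne_zero f).2 hF
  have := charP_of_injective_ringHom f.injective p
  obtain ⟨h7, h8, h9⟩ := h.fpf hK hrep e hw he hwe (C.model F' R) f (C.mapGL_xGL f R) (B := B)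
    (by rw [hB]; convert pow_ne_zero 3 hk using 1; simp; norm_num) (l := fun _ => l) (fun _ => h4)
    (fun r _ => by simpa [hB, map_ofNat] using h5) hφ (mapGL_injective f) fun s hs h7 e => by
      rw [wordChar_const D h4, h3, map_zpow₀, map_neg, map_one] at e
      rw [(htw _).1, R.inJ_iff] at h7
      rcases h2 s hs (decide_eq_false fun e => h7 ⟨hs, e⟩) with h8 | h8
      · rw [h8.1, h8.2.neg_one_zpow, zpow_zero] at e
        exact h6 (by rw [map_ofNat]; linear_combination -e)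
      have h9 : (l ^ (L.map (D.pairing · s)).sum) ^ 2 = 1 := by
        rcases Int.even_or_odd (w.map (D.pairing · s)).sum with h | h
        · rw [h.neg_one_zpow, mul_one] at e; rw [e, one_pow]
        · rw [h.neg_one_zpow, mul_neg_one, neg_eq_iff_eq_neg] at e; rw [e, neg_one_sq]
      have h10 : l⁻¹ = l := inv_eq_of_mul_eq_one_right (by
        rcases Int.natAbs_eq_iff.1 h8 with h | h <;> simpa [h, ← sq] using h9)
      exact h6 (by rw [← h5, h10]; simp)
  refine ⟨_, fun e => (Fact.out : p.Prime).coprime_iff_not_dvd.1 (coprime_card_units p)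
    (e.trans (orderOf_dvd_of_pow_eq_one h9)), fun g hg =>
    hφ.cover_odd hM (C.grd_comm T hK hrep) (T.grd_faithful _ hK rep hrep) (T.grd_span _ hK rep hrep) hn hab
      ((C.model F R).grd_inv T hK rep hrep hw0) ((T.grd_H _ hK rep hrep).ge hw.mem_hSub) h7 h8 hk
      (by simpa using cox_ne hrep htw hc) (inv_eq_of_mul_eq_one_right (Subtype.ext ?_))
      (h.conj_hom e hw he hwe) hB hg⟩
  simpa [Function.comp_def] using (C.stRelN F R).prod_hel_sq R fun r hr => (hw.1 _ (List.mem_map_of_mem hr)).1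

theorem cover_even [CharP F 2] {r : ℕ} (hc : r < D.nroots ∧ twAct D tw [a, b, a, b] r ≠ twAct D tw [b, a, b, a] r)
    {w : List (ℕ × F)} (hw : TorWord D (xGL D F) K w) (hwe : ∀ r ∈ L, wordChar D w r = 1) {τ : k} (hτ : τ ≠ 0)
    {F' : Type*} [Field F'] [Finite F'] (f : F →+* F') {l : ℕ → F'} (h0 : ∀ r, l r ≠ 0)
    (h1 : ∀ r ∈ L, l r + (l r)⁻¹ = f (ψ r τ)) (h2 : ∀ s < D.nroots, inJChk D (orb a) s = false →
      wordChar D (L.map fun r => (r, l r)) s * f (wordChar D w s) ≠ 1) {v u u' : K}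
    (hv : v ∈ (T.grd (C.faithful F R) hK rep hrep).Rm a) (hu : u ∈ (T.grd (C.faithful F R) hK rep hrep).Rp a)
    (hu' : u' ∈ (T.grd (C.faithful F R) hK rep hrep).Rp a) (e : v = u * n * u')
    (h6 : 2 < Nat.card k ∨ ∃ u ∈ (T.grd (C.faithful F R) hK rep hrep).Rp a,
      ∃ v' ∈ (T.grd (C.faithful F R) hK rep hrep).Rm a,
        ∃ x ∈ (T.grd (C.faithful F R) hK rep hrep).X ((S.cox rep hrep).simple a), x ≠ 1 ∧
          ∃ u' ∈ (T.grd (C.faithful F R) hK rep hrep).Rp a, u * v = v' * x * u') :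
    ∃ x : K, Odd (orderOf x) ∧ ∀ g : K, g ≠ 1 → ∃ u v : K, g = u * x * u⁻¹ * (v * x * v⁻¹) := by
  obtain ⟨φ, hφ, e₀⟩ := h.exists_hom hK hrep
  obtain ⟨r₀, -⟩ := List.exists_mem_of_ne_nil L h.ne
  have := (ψ r₀).charP (ψ r₀).injective 2
  have he : ((1 : kˣ) : k) * (1 : kˣ) = 1 := by simp
  have hwe' : ∀ r ∈ L, wordChar D w r = ψ r (1 : kˣ) := by simpa using hwe
  obtain ⟨B, hB⟩ := exists_twTr (e := 1) τ
  have := charP_of_injective_ringHom f.injective 2
  obtain ⟨h7, h8, h9⟩ := h.fpf hK hrep e₀ hw he hwe' (C.model F' R) f (C.mapGL_xGL f R) (B := B)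
    (by simpa [hB, show (4 : k) = 0 by linear_combination 2 * CharTwo.two_eq_zero (R := k)] using hτ) h0
    (by simpa [hB] using h1) hφ (mapGL_injective f) fun s hs h7 => by
      rw [(htw _).1, R.inJ_iff] at h7
      exact h2 s hs (decide_eq_false fun e => h7 ⟨hs, e⟩)
  refine ⟨_, odd_card_units.of_dvd_nat (orderOf_dvd_of_pow_eq_one h9), fun g hg =>
    hφ.cover_even hM (C.grd_comm T hK hrep) (T.grd_faithful _ hK rep hrep) (T.grd_span _ hK rep hrep) hn hab
      ((C.model F R).grd_inv T hK rep hrep hw0) ((T.grd_H _ hK rep hrep).ge hw.mem_hSub) h7 h8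
      (by simpa [mul_assoc] using cox_ne hrep htw hc) (C.grd_odd T hK hrep)
      (fun B => mul_inv_eq_iff_eq_mul.1 ((h.conj_hom e₀ hw he hwe' B).trans (congrArg _ (slD_one B))))
      (by simpa [← hB, twTr, trace_fin_two] using hτ) ⟨u, hu, v, hv, _, inv_mem hu', by simp [e]⟩
      (h6.imp_right ?_) hg⟩
  rintro ⟨r, hr, v', hv', x, hx, h3, r', hr', e'⟩
  exact ⟨_, mul_mem hr hu, v', hv', x, hx, h3, _, mul_mem hr' (inv_mem hu'), by rw [← mul_assoc, ← e', e]; group⟩

end Core.Cert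

theorem cover_G2 (h3 : 2 < Nat.card F) [IsSimpleGroup (chevG2.group F)] : ∃ x : chevG2.group F, ¬ p ∣ orderOf x ∧
    ∀ g : chevG2.group F, g ≠ 1 → ∃ u v, g = u * x * u⁻¹ * (v * x * v⁻¹) := by
  have C := Core.certG2
  have hY := C.faithful F rootG2
  have hK : hY.idTwist.G1 = chevG2.group F := by
    rw [RGD.Faithful.idTwist_G1, C.group_eq_Y rootG2, StRelW.rgd_G0']; rfl
  have hrep : ∀ i, ∃ k, i ∈ rootG2.weyl.idSym.orb (id k) := fun i => ⟨i, rootG2.weyl.idSym.self_mem_orb i⟩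
  have htw : ∀ k, rootG2.weyl.idSym.orb (id k) = {j | j ∈ [k]} ∧ rootG2.weyl.idSym.t (id k) = wprod rootG2.weyl.s [k] :=
    fun k => by simp [WeylData.Sym.t_def, WeylData.idSym_orb, WeylData.w0_singleton]
  have h1 := (C.model F rootG2).node
  have hM : (hY.idTwist.grd hY hK id hrep).Onto := fun i _ =>
    ((h1 i).exists_hom hK hrep).elim fun _ h => h.1.onto (RGD.Twist.grd_faithful ..)
  obtain ⟨v, hv, h2⟩ := (hY.idTwist.grd hY hK id hrep).exists_X_ne_one (wprod _ ([0, 1] : List (Fin 2))) (0 : Fin 2)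
  obtain ⟨h4, n, hn, u, hu, u', hu', e⟩ := C.exists_perp _ hK hrep htw p (a := (1 : Fin 2)) _ (by decide +kernel)
    (fun r hr s hs h h' => commMod_of_zero (by revert r s; decide +kernel) p) hv h2
  have hab : ∀ i : Fin 2, i = 1 ∨ i = 0 := by decide
  have h5 : ∀ r, r < 12 → ∀ t : F, t ≠ 0 → TorWord chevG2 (xGL chevG2 F) (chevG2.group F) [(r, t)] := fun r hr t ht =>
    ⟨by simpa using ⟨hr, ht⟩, by
      simpa [C.group_eq_Y rootG2] using (C.Y F rootG2).H_le_G0 (hel_mem_hSub _ hr ht)⟩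
  by_cases hp : p = 2
  · subst hp
    have := Fintype.ofFinite F
    obtain ⟨t, h6, h7⟩ := exists_pow_ne_one (K := F) one_ne_zero (by rwa [← Nat.card_eq_fintype_card])
    obtain ⟨τ, hτ, h8⟩ := exists_not_trace (k := F) (.inl rfl)
    obtain ⟨F', _, _, f, l, h9, h10⟩ := exists_quad_ext τ one_ne_zero
    rw [map_one, one_mul] at h10
    simpa only [← Nat.not_even_iff_odd, even_iff_two_dvd] using C.cover_even hK hrep htw (h1 (1 : Fin 2)) hM hn hab
      w0_smul_G2 (r := 6) (by decide +kernel) (h5 9 (by decide) t h6) (by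
        simp [wordChar, show chevG2.pairing 9 (chevG2.simple 1) = 0 by decide +kernel]) hτ f
        (fun _ => h9) (fun _ _ => h10) (fun s hs h => by
          rw [wordChar_const _ h9]
          rcases (by decide +kernel : ∀ s < 12, inJChk chevG2 [(1 : Fin 2)] s = false →
            (([chevG2.simple (1 : Fin 2)].map (chevG2.pairing · s)).sum = 0 ∧ (chevG2.pairing 9 s).natAbs = 2) ∨
              ([chevG2.simple (1 : Fin 2)].map (chevG2.pairing · s)).sum.natAbs = 1) s hs h with h | h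
          · rw [h.1, zpow_zero, one_mul, map_ne_one_iff _ f.injective]
            simpa [wordChar] using zpow_ne_one_of_natAbs (h.2.symm ▸ fun e => h7 (by
              simpa [CharTwo.neg_eq] using sq_eq_one_iff.1 e))
          · exact zpow_mul_ne_one (fun t e => h8 t (by rintro rfl; exact h9 (e.symm.trans (map_zero f)))
              (f.injective (by rw [map_add, map_inv₀, e, h10]))) h _) h4 hu hu' e (.inl h3)
  · exact C.cover_odd hK hrep htw p (h1 (1 : Fin 2)) hM hn hab w0_smul_G2 hp (r := 6) (by decide +kernel) (w := [7])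
      (h5 7 (by decide) _ (by simp)) (by decide +kernel) (by decide +kernel)

end Cfsg.Lib.Chev
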