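import Cfsg.Agent.Chev.PackTwo
import Cfsg.Agent.Chev.FoldTwE6
import Cfsg.Agent.Chev.SubCent

/-!
# The Fischer group `Fi₂₂` inside `²E₆(2)`; three classes of subgroups
-/

set_option autoImplicit false
set_option maxRecDepth 100000

namespace Cfsg.Lib.Chev.Core

open Cfsg.Lie Cfsg.Spor

noncomputable section

/-- Root elements `x_r(ω ^ e)`. -/
def fiLetters : List (Nat × Nat) := [(46, 0), (25, 0), (39, 0), (32, 0), (56, 0), (36, 0), (56, 1), (36, 2), (56, 2), (36, 4), (15, 0), (35, 0), (15, 1), (35, 2), (15, 2), (35, 4), (42, 0), (37, 0), (42, 1), (37, 2), (42, 2), (37, 4), (29, 0), (34, 0), (29, 1), (34, 2), (29, 2), (34, 4)]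

/-- Generators of `²E₆(2)` as words in the root elements. -/
def fiGens : List (List Nat) := [[0], [1], [2], [3], [4, 5], [6, 7], [8, 9], [10, 11], [12, 13], [14, 15], [16, 17], [18, 19], [20, 21], [22, 23], [24, 25], [26, 27]]

/-- The nine transpositions as words in the generators. -/
def fiNodes : List (List Nat) := [[11, 3, 13, 4, 2, 10, 3, 2, 0, 2, 3, 10, 2, 4, 13, 3, 11], [13, 10, 1, 3, 13, 3, 1, 0, 1, 3, 13, 3, 1, 10, 13], [1, 0, 1], [0], [2, 10, 2, 1, 0, 1, 2, 10, 2], [2, 10, 7, 3, 13, 2, 3, 0, 1, 0, 1, 0, 3, 2, 13, 3, 7, 10, 2], [11, 7, 3, 13, 4, 2, 10, 3, 2, 0, 2, 3, 10, 2, 4, 13, 3, 7, 11], [4, 2, 10, 2, 1, 0, 1, 2, 10, 2, 4], [15, 4, 2, 10, 7, 3, 13, 2, 3, 0, 1, 0, 1, 0, 3, 2, 13, 3, 7, 10, 2, 4, 15]]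

/-- Evaluate the constants once. -/
def withN {α : Type} (S : Nat) (f : Nat → Nat → Nat → α) : α :=
  force (onesN S S) fun O => force (2 ^ S) fun B => force (onesN (S + 1) S) fun I => f O B I

/-- Packed matrices of a list of words. -/
def wordsN (S : Nat) (As ws : List (List Nat)) : List (List Nat) :=
  ws.map fun w => withN S fun O B I => unpackN S B S (evN O As w I)

/-- The matrices of the nine transpositions. -/
def fiMats {α : Type} (f : List (List Nat) → α) : α :=
  forceLL (fiLetters.map fun a => xColsN tabE6 (tbFour 78) 78 156 a.1 a.2) fun A₀ =>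
    forceLL (wordsN 156 A₀ fiGens) fun A₁ => forceLL (wordsN 156 A₁ fiNodes) f

/-- A power of a word is trivial. -/
def powChk (S : Nat) (As : List (List Nat)) (w : List Nat) (m : Nat) : Bool :=
  withN S fun O _ I => Nat.beq (evPowN O As w m I) I

/-- Numbering of the generators. -/
def fiIx : Fi22.Gen → Nat
  | .a => 0 | .b => 1 | .c => 2 | .d => 3 | .e => 4 | .f => 5 | .g => 6 | .h => 7 | .i => 8

/-- The inverse of the matrix of the spun vectors. -/
def fiQ : Nat := 0x65eac58fd243bb033f686b873c97e089a9d13d438b2320f33df162359fc57e7aa57e2c0abb3e404445415404541540014111451510010001105442ce3230a229a17325da856b6ff56b380fee2b4051411545151051540441045040450415500140575bf85ca9342ee022a7c7ec628d6b0cdfd9129445005150105050045450555040511405401441411014005050505454055544545151140145550114151441445150001511450440105504554000137014023de253faa8681c9acd16aa775b277bb08519bf70f660e6ce1fbea6a321dbd4271aabc33260140329b352affc7c18df8917ff665e366ee040441554551400004500444151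45104540010053627e117235f8ea652621b52e7609881a350d1a451014040054450111501554154414451005005169b9a77075bead8d953c79bd381ab3a289252697c61493beef084b62370d68dd637c99bdfde4e000511050104440150550051541441100501444aece427ef02e8952e0f6607e9c74e3ad942c454527865c24e82671217637daa352233ef215924f17a97c7a5fe3f7ecd6130e0ff4929753141ebc3e4362c9176531af506f0456c1d2ff99fc8c82b6c51dea60a770b78b1aebf7f2319e94361ffe8222736b116325acbf753731e53b670dcc1f25091f41404500011055114144544440114445104145417dedf66065ebf9c9d5286de92c1fe2f3cd353741510115101104155044110100555455401545490461d44f6fdf96f2b16de3fedc4e91486595bbd68714d2ebba0c4e7326097c997268dde9a9b4bd0471944a7a9ad7a3e179b2ab984bd14c75d5ee100115540514511440450554014544014154411501514141450055554445440455110505040455fb8b436ba03bcd53b0a7706bd864b2f9d438454504554041541450141500401100414140045411790f9980778872958b3b0f2c63c77f7caf0302eb19684ee6526f96b4727d8c6e138ebc4ad7f10a536c75834bc37613167269ff253322ba315d34a6d0addc066cc63d5ce2e0a38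72866a68fa0203b04144000501044140114005500410014411005016fd686f5ab2a6b897120b0aa4d3d652141be82e1d7c4bb7537ad7e46369c87b12cbe84f96a10fb42738d167521fa507a04578193aadda8c8c3e74818ca339226012ac2219bf0c1ea26f0de0f8b04e1ceab0fab0ec86928782703d8ea22e32ce1fe3f36f358ae159533d5a033ad19e4922912164de004010150454100111405155454111451514454656c5cf57e99b9bb65de9ca8e7d35b2075c4e0b8ef329c2056089215b441802c8636ca7d11ed664b18bfe0afe0b8c7d3c6c36029cbf33b238b1ab757858a56bddedee759bd8fcb6925e306584b0e45404504140554141510004050504154011404560ad5e0f171e4bbf7d9a7f5ad4e0629eb267fad45055151041505101454004445450141501015510050505401455101500155515001404440411118bb2d688c08ac4d19a045f58e44a0649e00ca0f0d4d5ad2908029fb1c06e02831da8b39ed20fb1cee397cc80cf8491df045a5cb44f074db008f040041111511155015154415511541005554105486fe53411a76abdb009308f4c08b39da81f4e9b51400004510041441405001544011544411554513eb5c350d6e42aaf23a5ddb1fe4ab040b216e6a720fee92ee049d1d790868eb423b4232711ecf4c1c8f22d337013f8331de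a081bf37a09b0ace02a27a25cfb15d52295f022f91db4d33d131749bcba23d830570cd315e441c038c7278f6911b97770f95b0a161b4eea69df6a5f94b073dbe376af9511000155014500504104115141545444000544a09495f93d0c03dae1807b03c219fce2db930aec7ab52411f67fe9e00d20ca480ce2d9fc1a4bde04014440450555541450051005040514511441112be5825097b43ffa32f599e1ab4fe040e317b7045414455110510550045441004010010450441079a074d0b56c0ed27005a9f79b60d10c6b1288f630abbd3bb04d9196d0c7cbe432e4323611b8a06df06490e5780b936005fda6de7091087e13cc100541451140151050400010100044404051110110444005515054041041110001145510445414444505545444014050115105540504444015410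

theorem fiLetters_eq_1' : type_of% @fiLetters.eq_1 := @fiLetters.eq_1
theorem fiGens_eq_1' : type_of% @fiGens.eq_1 := @fiGens.eq_1
theorem fiNodes_eq_1' : type_of% @fiNodes.eq_1 := @fiNodes.eq_1
theorem withN_eq_1' : type_of% @withN.eq_1 := @withN.eq_1
theorem wordsN_eq_1' : type_of% @wordsN.eq_1 := @wordsN.eq_1
theorem fiMats_eq_1' : type_of% @fiMats.eq_1 := @fiMats.eq_1
theorem powChk_eq_1' : type_of% @powChk.eq_1 := @powChk.eq_1

/-- The relations, and the certificate for the centraliser. -/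
def fiChkB : Bool := fiMats fun A =>
    band ((coxNodes Fi22.edges).dedup.all fun x => (coxNodes Fi22.edges).dedup.all fun y =>
      powChk 156 A [fiIx x, fiIx y] (coxLabel Fi22.edges x y))
    (band (powChk 156 A [3, 2, 1, 3, 4, 5, 3, 7, 8] 10) (band (powChk 156 A [0, 1, 2, 3, 4, 5, 7] 9)
      (band (powChk 156 A [1, 2, 3, 4, 5, 6, 7] 9)
        (scalChk 156 A [[3, 6, 8, 2, 7, 2], [5, 4], [2, 1, 3, 6, 2]] [[1, 4, 7, 4, 3], [2, 4, 3, 6, 7, 8, 5], [4, 3, 6, 2, 6, 5, 4]]
          [true, false, true, true, true, false, false, true, true, true, false, true, false, true, true, true, true, false, true, true, false, true, true, true, false, true, true, false, true, true, false, false, false, true, false, false, true, true, false, true, false, true, true, true, false, true, true, false, true, false, false, false, false, false, false, false, true, false, true, true, false, false, false, false, true, false, true, true, false, true, true, false, false, true, true, false,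 true] 0 78 78 78 fiQ))))

theorem fiChkB_eq_1' : type_of% @fiChkB.eq_1 := @fiChkB.eq_1

theorem fiChk : fiChkB = true := by
  decide +kernel

section words

variable {F V G : Type*} [Field F] [CharP F 2] [AddCommGroup V] [Module F V] [Monoid G] {bas : ℕ → V}
  {S : ℕ} (ρ : G →* Module.End F V) {y : ℕ → G} {As : List (List ℕ)} {n : ℕ}
  (hA : ∀ i < n, RepL bas S (ρ (y i)) (As.getD i []))
include hA

theorem repL_wordsN {ws : List (List ℕ)} (hw : ∀ w ∈ ws, ∀ i ∈ w, i < n) : ∀ j < ws.length,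
    RepL bas S (ρ ((ws.getD j []).map y).prod) ((wordsN S As ws).getD j []) := fun j hj => by
  simpa only [wordsN, withN, force_eq, map_list_prod, List.map_map, Function.comp_def] using
    repL_words hA hw j hj

theorem pow_eq_one_of_powChk (hρ : Function.Injective ρ) (hb : Submodule.span F (bas '' Set.Iio S) = ⊤)
    {w : List ℕ} (hw : ∀ i ∈ w, i < n) {m : ℕ} (h : powChk S As w m = true) :
    (w.map y).prod ^ m = 1 := by
  simp only [powChk, withN, force_eq] at h
  have h1 := repP_evPowN hA hw m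
  rw [Nat.eq_of_beq_eq_true h] at h1
  refine hρ ?_
  rw [map_one, map_pow, map_list_prod, List.map_map]
  exact h1.eq hb repP_one

end words

/-- Matrices as endomorphisms. -/
def glEnd (n K : Type*) [Fintype n] [DecidableEq n] [Field K] : GL n K →* Module.End K (n → K) :=
  (Matrix.toLinAlgEquiv' : Matrix n n K ≃ₐ[K] _).toMulEquiv.toMonoidHom.comp (Units.coeHom _)

theorem glEnd_eq_1' : type_of% @glEnd.eq_1 := @glEnd.eq_1

theorem glEnd_injective {n K : Type*} [Fintype n] [DecidableEq n] [Field K] :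
    Function.Injective (glEnd n K) :=
  (Matrix.toLinAlgEquiv' : Matrix n n K ≃ₐ[K] _).injective.comp Units.val_injective

theorem comm_of_glEnd {n K : Type*} [Fintype n] [DecidableEq n] [Field K] {c : GL n K} {a : K}
    (h : ∀ v, glEnd n K c v = a • v) (g : GL n K) : c * g = g * c :=
  glEnd_injective (LinearMap.ext fun v => by simp [h])

variable {K : Type*} [Field K] [Fintype K]

theorem exists_omega (hK : Fintype.card K = 4) : ∃ ω : K, ω ^ 2 = ω + 1 := by
  classical
  have : CharP K 2 := charP_of_card_eq_prime_pow (p := 2) (f := 2) hK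
  obtain ⟨ω, hω⟩ : ∃ ω : Kˣ, ω ≠ 1 := by
    have : Nontrivial Kˣ := Fintype.one_lt_card_iff_nontrivial.1 (by rw [Fintype.card_units, hK]; norm_num)
    exact exists_ne 1
  have h3 := congrArg Units.val (pow_card_eq_one (x := ω))
  rw [Fintype.card_units, hK, Units.val_pow_eq_pow_val, Units.val_one] at h3
  have h2 : (2 : K) = 0 := CharTwo.two_eq_zero
  refine ⟨ω, mul_left_cancel₀ (sub_ne_zero.2 fun e => hω (Units.ext e) : (ω : K) - 1 ≠ 0) ?_⟩
  linear_combination h3 - (ω ^ 2 - 1 : K) * h2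

/-- **`Fi₂₂` acts on the Lie algebra through `²E₆(2)`**, and the centraliser of the last eight
generators consists of scalars. -/
theorem exists_Fi22_hom (hK : Fintype.card K = 4) : ∃ ψ : Fi22 →* twistedE6 K 2,
    ∀ c : GL chevE6.Idx K, (∀ x, x ≠ Fi22.Gen.a → Commute c (ψ (PresentedGroup.of x))) →
      ∀ g, c * g = g * c := by
  have : CharP K 2 := charP_of_card_eq_prime_pow (p := 2) (f := 2) hK
  obtain ⟨ω, hω⟩ := exists_omega hK
  let y₀ : ℕ → GL chevE6.Idx K := fun i => xGL chevE6 K (fiLetters.getD i 0).1 (ω ^ (fiLetters.getD i 0).2)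
  let y₁ : ℕ → GL chevE6.Idx K := fun j => ((fiGens.getD j []).map y₀).prod
  let y₂ : ℕ → GL chevE6.Idx K := fun j => ((fiNodes.getD j []).map y₁).prod
  have hb : Submodule.span K (basN chevE6 ω '' Set.Iio 156) = ⊤ := span_basN_top (by decide)
  have A₀ : ∀ i < 28, RepL (basN chevE6 ω) 156 (glEnd _ K (y₀ i)) ((fiLetters.map fun a =>
      xColsN tabE6 (tbFour 78) 78 156 a.1 a.2).getD i []) := fun i hi => by
    rw [List.getD_eq_getElem _ _ (by rw [List.length_map]; exact hi), List.getElem_map,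
      ← List.getD_eq_getElem _ 0]
    have := repL_x (Tab.link_of_chk _ linkE6) rfl rfl (vecN_tbFour hω (N := 78) rfl)
      ((by decide : ∀ i < 28, (fiLetters.getD i 0).1 < tabE6.n) i hi) (fiLetters.getD i 0).2
    rw [← certE6.coe_xGL rootE6] at this
    exact this
  have A₁ := repL_wordsN (glEnd _ K) A₀ (ws := fiGens) (by decide)
  have A₂ := repL_wordsN (glEnd _ K) A₁ (ws := fiNodes) (by decide)
  have chk := fiChk
  simp only [fiChkB, fiMats, forceLL_eq, band_iff, List.all_eq_true, List.mem_dedup] at chk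
  obtain ⟨c1, c2, c3, c4, c5⟩ := chk
  have m₁ : ∀ j < 16, y₁ j ∈ twistedE6 K 2 := by
    have h1 : ∀ r ∈ [e6p2, e6m2, e6p4, e6m4], xGL chevE6 K r (ω ^ 0) * 1 ∈ twistedE6 K 2 := fun r hr =>
      Subgroup.subset_closure ⟨[(r, ω ^ 0)], Or.inl ⟨ω ^ 0, by simp, r, hr, rfl⟩,
        certE6.coe_word rootE6 [(r, ω ^ 0)]⟩
    have h2 : ∀ rs ∈ [(e6p1, e6p6), (e6m1, e6m6), (e6p3, e6p5), (e6m3, e6m5)], ∀ e : ℕ,
        xGL chevE6 K rs.1 (ω ^ e) * (xGL chevE6 K rs.2 (ω ^ (e * 2)) * 1) ∈ twistedE6 K 2 :=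
      fun rs hr e => Subgroup.subset_closure ⟨[(rs.1, ω ^ e), (rs.2, ω ^ (e * 2))],
        Or.inr ⟨ω ^ e, rs, hr, by rw [pow_mul]⟩,
        certE6.coe_word rootE6 [(rs.1, ω ^ e), (rs.2, ω ^ (e * 2))]⟩
    intro j hj
    interval_cases j
    exacts [h1 e6p2 (by simp), h1 e6m2 (by simp), h1 e6p4 (by simp), h1 e6m4 (by simp),
      h2 (e6p1, e6p6) (by simp) 0, h2 (e6p1, e6p6) (by simp) 1, h2 (e6p1, e6p6) (by simp) 2,
      h2 (e6m1, e6m6) (by simp) 0, h2 (e6m1, e6m6) (by simp) 1, h2 (e6m1, e6m6) (by simp) 2,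
      h2 (e6p3, e6p5) (by simp) 0, h2 (e6p3, e6p5) (by simp) 1, h2 (e6p3, e6p5) (by simp) 2,
      h2 (e6m3, e6m5) (by simp) 0, h2 (e6m3, e6m5) (by simp) 1, h2 (e6m3, e6m5) (by simp) 2]
  have m₂ : ∀ x, y₂ (fiIx x) ∈ twistedE6 K 2 := fun x => list_prod_mem fun g hg => by
    obtain ⟨j, hj, rfl⟩ := List.mem_map.1 hg
    exact m₁ j ((by cases x <;> decide : ∀ j ∈ fiNodes.getD (fiIx x) [], j < 16) j hj)
  have hp := fun {w} hw {m} h => pow_eq_one_of_powChk (glEnd _ K) (y := y₂) A₂ glEnd_injective hb (w := w) hw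
    (m := m) h
  refine ⟨PresentedGroup.toGroup (f := fun x => (⟨_, m₂ x⟩ : twistedE6 K 2)) ?_, fun c hc => ?_⟩
  · rintro _ (⟨x, hx, z, hz, rfl⟩ | hr)
    · have := hp (by cases x <;> cases z <;> decide) (c1 x hx z hz)
      refine Subtype.ext ?_
      simpa using this
    · simp only [Fi22.extra, Set.mem_ofPred_eq, List.mem_cons, List.not_mem_nil, or_false] at hr
      refine Subtype.ext ?_
      rcases hr with rfl | rfl | rfl
      · simpa [mul_assoc, fiIx] using hp (by decide) c2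
      · simpa [mul_assoc, fiIx] using hp (by decide) c3
      · simpa [mul_assoc, fiIx] using hp (by decide) c4
  · have hc' : ∀ i, 0 < i → i < 9 → Commute (glEnd _ K c) (glEnd _ K (y₂ i)) := fun i h0 h9 => by
      obtain ⟨x, hx, rfl⟩ : ∃ x, x ≠ Fi22.Gen.a ∧ fiIx x = i := by
        interval_cases i
        exacts [⟨.b, nofun, rfl⟩, ⟨.c, nofun, rfl⟩, ⟨.d, nofun, rfl⟩, ⟨.e, nofun, rfl⟩, ⟨.f, nofun, rfl⟩,
          ⟨.g, nofun, rfl⟩, ⟨.h, nofun, rfl⟩, ⟨.i, nofun, rfl⟩]
      have := hc x hx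
      rw [PresentedGroup.toGroup.of] at this
      exact this.map _
    obtain ⟨a, ha⟩ := exists_eq_smul_of_scalChk A₂ hb (by decide) (by decide) (ω := ω)
      (by
        rw [basN_of_lt (k := 0) (by decide)]
        exact (by rw [pow_one] : ω ^ 1 • eB chevE6 K 0 = ω • eB chevE6 K 0)) (fun W h => span_basN (m := 78) (by decide) h (by decide)) c5
      (c := glEnd _ K c) fun w hw i hi => by
        have := (by decide : ∀ w ∈ [[3, 6, 8, 2, 7, 2], [5, 4], [2, 1, 3, 6, 2]] ++ [[1, 4, 7, 4, 3], [2, 4, 3, 6, 7, 8, 5], [4, 3, 6, 2, 6, 5, 4]], ∀ i ∈ w, 0 < i ∧ i < 9) w hw i hi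
        exact ⟨this.2, hc' i this.1 this.2⟩
    exact comm_of_glEnd ha

/-- A subgroup of `²E₆(2)` with scalar centraliser and outer automorphism group of exponent two is not
conjugate to its images under the diagonal automorphisms. -/
theorem exists_three_classes (hK : Fintype.card K = 4) (H : Subgroup (twistedE6 K 2))
    (hout : ∀ α : MulAut H, α ^ 2 ∈ Inn H)
    (hc : ∀ c : GL chevE6.Idx K, (∀ x ∈ H, Commute c x) → ∀ g, c * g = g * c) :
    ∃ L : Fin 3 → Subgroup (twistedE6 K 2), (∀ i, Nonempty (L i ≃* H)) ∧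
      ∀ i j, i ≠ j → ∀ g : twistedE6 K 2, (L i).map (MulAut.conj g).toMonoidHom ≠ L j := by
  classical
  obtain ⟨f, hf, hq, hG⟩ := exists_twE6 (K := K) (q := 2) hK
  obtain ⟨ω, hω⟩ : ∃ ω : Kˣ, ω ≠ 1 := by
    have : Nontrivial Kˣ := Fintype.one_lt_card_iff_nontrivial.1 (by rw [Fintype.card_units, hK]; norm_num)
    exact exists_ne 1
  have hu : ∀ a : Kˣ, a ^ 3 = 1 := fun a => by
    have := pow_card_eq_one (x := a)
    rwa [Fintype.card_units, hK] at this
  have ho : orderOf ω = 3 := orderOf_eq_prime (hu ω) hω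
  let c : Fin chevE6.rank → Kˣ := (![ω, 1, 1, 1, 1, ω ^ 2] : Fin 6 → Kˣ)
  have hcT : c ∈ (subE6 f).fixT := (mem_fixT_E6 f).2 (forall_fin6 (by simp [c, piE6, hq])
    (by simp [c, piE6]) (by simp [c, piE6]) (by simp [c, piE6]) (by simp [c, piE6]) (by
      have : (ω ^ 2) ^ 2 = ω := by rw [← pow_mul, show 2 * 2 = 3 + 1 from rfl, pow_succ, hu, one_mul]
      simpa [c, piE6, hq] using congrArg Units.val this.symm))
  let d := certE6.twAut (endE6 f hf) (clE6 f hf _) hG ⟨c, hcT⟩ (RingEquiv.refl K)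
  set τ := torGL rootE6 K c with hτ
  have hd : ∀ (n : ℕ) (x : twistedE6 K 2), ((d ^ n) x).1 = τ ^ n * x.1 * (τ ^ n)⁻¹ := by
    intro n x
    induction n with
    | zero => simp
    | succ n ih =>
      rw [pow_succ', MulAut.mul_apply]
      refine (certE6.coe_twAut _ _ hG _ _ _).trans ?_
      rw [ih, pow_succ']
      change τ * (τ ^ n * x.1 * (τ ^ n)⁻¹) * τ⁻¹ = _
      group
  have hG6 := certE6.tw_le (endE6 f hf) (clE6 f hf _) hG
  refine ⟨fun i => H.map (d ^ (i : ℕ)).toMonoidHom, fun i =>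
    ⟨(Subgroup.equivMapOfInjective _ _ (d ^ (i : ℕ)).injective).symm⟩, fun i j hij g e => ?_⟩
  have hτ0 : ∀ n : ℕ, τ ^ n ∈ (torGL rootE6 K).range := fun n => pow_mem (MonoidHom.mem_range.2 ⟨c, rfl⟩) n
  let β : MulAut (twistedE6 K 2) := (d ^ (j : ℕ))⁻¹ * MulAut.conj g * d ^ (i : ℕ)
  set m : GL chevE6.Idx K := (τ ^ (j : ℕ))⁻¹ * g.1 * τ ^ (i : ℕ) with hm
  have hβ : ∀ x, (β x).1 = m * x.1 * m⁻¹ := fun x => by
    have e1 := hd j (β x)
    rw [show (d ^ (j : ℕ)) (β x) = g * (d ^ (i : ℕ)) x * g⁻¹ from MulEquiv.apply_symm_apply _ _] at e1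
    have e2 : g.1 * (τ ^ (i : ℕ) * x.1 * (τ ^ (i : ℕ))⁻¹) * g.1⁻¹ =
      τ ^ (j : ℕ) * (β x).1 * (τ ^ (j : ℕ))⁻¹ := hd i x ▸ e1
    calc _ = (τ ^ (j : ℕ))⁻¹ * (τ ^ (j : ℕ) * (β x).1 * (τ ^ (j : ℕ))⁻¹) * τ ^ (j : ℕ) := by group
      _ = _ := by rw [← e2, hm]; group
  have hβH : H.map β.toMonoidHom = H := by
    have := congrArg (Subgroup.map (d ^ (j : ℕ))⁻¹.toMonoidHom) e
    simp only [Subgroup.map_map] at this
    refine this.trans ((congrArg (Subgroup.map · H) ?_).trans (Subgroup.map_id H))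
    exact MonoidHom.ext fun x => MulEquiv.symm_apply_apply _ x
  let α : MulAut H := (β.subgroupMap H).trans (MulEquiv.subgroupCongr hβH)
  obtain ⟨k, hk⟩ := hout α
  have hmem : m ∈ (certE6.Yhat K rootE6).G0 := by
    rw [certE6.Yhat_G0]
    exact mul_mem (mul_mem (Subgroup.mem_sup_right (inv_mem (hτ0 _)))
      (Subgroup.mem_sup_left (hG6 g.2))) (Subgroup.mem_sup_right (hτ0 _))
  have h1 : k.1.1⁻¹ * m ^ 2 = 1 := by
    refine certE6.eq_one_of_commute_one rootE6 (mul_mem (inv_mem ?_) (pow_mem hmem 2)) fun r _ =>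
      hc _ (fun x hx => ?_) _
    · rw [certE6.Yhat_G0]; exact Subgroup.mem_sup_left (hG6 k.1.2)
    · have e1 : k.1.1 * x.1 * k.1.1⁻¹ = (β (β x)).1 :=
        congrArg (fun γ : MulAut H => (γ ⟨x, hx⟩).1.1) (hk.trans (sq α))
      rw [hβ, hβ] at e1
      change _ * _ = _ * _
      calc _ = k.1.1⁻¹ * (m * (m * x.1 * m⁻¹) * m⁻¹) * m ^ 2 := by rw [sq]; group
        _ = _ := by rw [← e1]; group
  set t := (τ ^ (j : ℕ))⁻¹ * τ ^ (i : ℕ) with ht
  have ht0 : t ∈ (torGL rootE6 K).range := mul_mem (inv_mem (hτ0 _)) (hτ0 _)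
  have h5 : t ^ 2 ∈ chevE6.group K := by
    have a1 := inv_conj_mem_of_mem_normalizer (certE6.range_torGL_le_normalizer rootE6 (hτ0 j))
      (hG6 g.2)
    have a2 := (Subgroup.mem_normalizer_iff.1 (certE6.range_torGL_le_normalizer rootE6 ht0) _).1 a1
    have := mul_mem (inv_mem a2) (mul_mem (inv_mem a1) (hG6 k.1.2))
    rw [inv_mul_eq_one.1 h1] at this
    convert this using 1
    rw [hm, ht, sq, sq]
    group
  have h6 := certE6.mem_hSub_of_mem_range rootE6 h5 (pow_mem ht0 2)
  rw [ht, hτ, ← map_pow, ← map_pow, ← map_inv, ← map_mul, ← map_pow,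
    certE6.torGL_mem_hSub_iff rootE6] at h6
  obtain ⟨a, ha⟩ := h6
  let v : Fin chevE6.rank → ℤ := (![1, 0, 2, 0, 1, 2] : Fin 6 → ℤ)
  have h7 := chr_cartanHom' a v
  rw [ha, Finset.prod_eq_one fun i _ => ?_] at h7
  · have h8 : chr c v = ω ^ 5 := by
      refine (Fin.prod_univ_six fun i => c i ^ v i).trans ?_
      simp [c, v]
      group
    rw [chr_pow_left, chr_mul, chr_inv, chr_pow_left, chr_pow_left, h8, mul_pow, inv_pow,
      inv_mul_eq_one, ← pow_mul, ← pow_mul, ← pow_mul, ← pow_mul, pow_eq_pow_iff_modEq, ho] at h7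
    exact (by decide : ∀ i j : Fin 3, i ≠ j → ¬ 5 * ((j : ℕ) * 2) ≡ 5 * ((i : ℕ) * 2) [MOD 3]) i j hij h7
  · obtain ⟨m, hm⟩ := (by decide +kernel : ∀ i : Fin chevE6.rank, (3 : ℤ) ∣
      ∑ j : Fin chevE6.rank, chevE6.cartan i (chevE6.simple j) *
        (![1, 0, 2, 0, 1, 2] : Fin 6 → ℤ) j) i
    rw [hm, zpow_mul, zpow_ofNat, hu, one_zpow]

/-- Transport of the exponent of the outer automorphism group. -/
theorem sq_mem_Inn {A B : Type*} [Group A] [Group B] (e : A ≃* B) (h : Nat.card (Out B) = 2)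
    (α : MulAut A) : α ^ 2 ∈ Inn A := by
  have h1 : ((MulAut.congr e α ^ 2 : MulAut B) : Out B) = 1 := by
    rw [QuotientGroup.mk_pow, ← h, pow_card_eq_one']
  obtain ⟨b, hb⟩ := (QuotientGroup.eq_one_iff _).1 h1
  refine ⟨e.symm b, MulEquiv.ext fun x => e.injective ?_⟩
  have := congrArg (fun γ : MulAut B => γ (e x)) hb
  simpa [sq] using this

end

end Cfsg.Lib.Chev.Core
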