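import Cfsg.Agent.Chev.InvCls
import Cfsg.Agent.Chev.CoreCertE6
import Cfsg.Agent.Chev.RootCertSmall
import Cfsg.Agent.Chev.WeylTypes

/-!
# The classes of involutions of type `E6` in characteristic two
-/

set_option autoImplicit false

open Cfsg.Lie

namespace Cfsg.Lib.Chev.Core

/-- The representatives. -/
def invRepsE6 : List (List ℕ) := [[71], [68, 66], [55, 65, 67]]

/-- The ranks of `g - 1` minus one. -/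
def invRanksE6 : List ℕ := [21, 31, 37]

/-- The classes of involutions of the Weyl group. -/
def invClsE6 : List (List (List (Fin 6) × Fin 6) × List (List ℕ) × ℕ) :=
  [([([1, 3, 2, 0, 4, 3, 1, 2, 3, 4], 5)], [[0]], 0), ([([2, 0, 3, 1, 2, 3, 4], 5), ([0, 4, 3, 1,
  2, 3, 4], 5)], [[3, 5]], 1), ([([4, 3, 1, 2, 3, 4], 5), ([0, 3, 1, 2, 3, 4], 5), ([2, 0, 3, 1,
  2, 3], 4)], [[16, 6, 4]], 2), ([([4, 3, 1, 2, 3, 4], 5), ([0, 3, 1, 2, 3, 4], 5), ([2, 0, 3, 1,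
  2, 3], 4), ([], 1)], [[13], [65], [30, 27, 16, 6, 4, 25]], 2)]

/-- The reduction of the longest elements. -/
def invCertE6 : List (List (Fin 6) × List (Fin 6) × List (Fin 6) × ℕ) :=
  [([0], [0], [1, 3, 2, 4, 3, 1, 5, 4, 3, 2], 0), ([1], [1], [1, 3, 2, 0, 4, 3, 2, 5, 4, 3], 0),
  ([2], [2], [1, 3, 2, 0, 4, 3, 1, 5, 4, 3], 0), ([3], [3], [1, 3, 2, 0, 4, 3, 1, 2, 5, 4], 0),
  ([4], [4], [1, 3, 2, 0, 4, 3, 1, 2, 3, 5], 0), ([5], [5], [1, 3, 2, 0, 4, 3, 1, 2, 3, 4], 0),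
  ([0, 1], [1, 0], [0, 2, 0, 3, 1, 4, 3, 1, 2, 5, 4, 3, 2], 1), ([0, 2], [0, 2, 0], [], 0), ([0,
  3], [3, 0], [0, 2, 0, 3, 1, 4, 3, 1, 5, 4, 3, 1, 2], 1), ([0, 4], [4, 0], [0, 2, 0, 3, 4, 3, 1,
  5, 4, 3, 1, 2, 3], 1), ([0, 5], [5, 0], [0, 2, 0, 4, 3, 1, 5, 4, 3, 1, 2, 3, 4], 1), ([1, 2],
  [2, 1], [0, 2, 0, 3, 1, 4, 3, 1, 2, 0, 5, 4, 3], 1), ([1, 3], [1, 3, 1], [], 0), ([1, 4], [4,
  1], [2, 4, 5, 4, 3, 1, 2, 0, 3, 2, 4, 3, 5], 1), ([1, 5], [5, 1], [2, 0, 4, 5, 4, 3, 1, 2, 0,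
  3, 2, 4, 3], 1), ([2, 3], [2, 3, 2], [], 0), ([2, 4], [4, 2], [0, 2, 0, 3, 4, 3, 5, 4, 3, 1, 2,
  0, 3], 1), ([2, 5], [5, 2], [0, 2, 0, 4, 3, 5, 4, 3, 1, 2, 0, 3, 4], 1), ([3, 4], [3, 4, 3],
  [], 0), ([3, 5], [5, 3], [0, 2, 0, 4, 5, 4, 3, 1, 2, 0, 3, 2, 4], 1), ([4, 5], [4, 5, 4], [],
  0), ([0, 1, 2], [0, 2, 1, 0], [], 0), ([0, 1, 3], [1, 3, 1, 0], [], 0), ([0, 1, 4], [4, 1, 0],
  [0, 2, 0, 3, 2, 4, 3, 2, 5, 4, 3, 1, 2, 0, 3, 2, 4, 3, 5], 2), ([0, 1, 5], [5, 1, 0], [0, 2, 0,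
  3, 2, 4, 3, 2, 0, 5, 4, 3, 1, 2, 0, 3, 2, 4, 3], 2), ([0, 2, 3], [0, 2, 3, 0, 2, 0], [], 0),
  ([0, 2, 4], [4, 0, 2, 0], [], 0), ([0, 2, 5], [5, 0, 2, 0], [], 0), ([0, 3, 4], [3, 4, 3, 0],
  [], 0), ([0, 3, 5], [5, 3, 0], [0, 2, 0, 3, 2, 0, 4, 3, 2, 0, 5, 4, 3, 1, 2, 0, 3, 2, 4], 2),
  ([0, 4, 5], [4, 5, 4, 0], [], 0), ([1, 2, 3], [3, 2, 1, 3, 2, 1], [], 0), ([1, 2, 4], [4, 2,
  1], [0, 2, 0, 3, 4, 3, 1, 2, 5, 4, 3, 1, 2, 0, 3, 2, 4, 3, 5], 2), ([1, 2, 5], [5, 2, 1], [0,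
  2, 0, 3, 4, 3, 1, 2, 0, 5, 4, 3, 1, 2, 0, 3, 2, 4, 3], 2), ([1, 3, 4], [1, 3, 4, 1, 3, 1], [],
  0), ([1, 3, 5], [5, 1, 3, 1], [], 0), ([1, 4, 5], [4, 5, 4, 1], [], 0), ([2, 3, 4], [2, 3, 4,
  2, 3, 2], [], 0), ([2, 3, 5], [5, 2, 3, 2], [], 0), ([2, 4, 5], [4, 5, 4, 2], [], 0), ([3, 4,
  5], [3, 4, 5, 3, 4, 3], [], 0), ([0, 1, 2, 3], [2, 3, 0, 2, 1, 3, 0, 2, 1, 0], [], 0), ([0, 1,
  2, 4], [4, 0, 2, 1, 0], [], 0), ([0, 1, 2, 5], [5, 0, 2, 1, 0], [], 0), ([0, 1, 3, 4], [1, 3,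
  4, 1, 3, 1, 0], [], 0), ([0, 1, 3, 5], [5, 1, 3, 1, 0], [], 0), ([0, 1, 4, 5], [4, 5, 4, 1, 0],
  [], 0), ([0, 2, 3, 4], [0, 2, 3, 4, 0, 2, 3, 0, 2, 0], [], 0), ([0, 2, 3, 5], [5, 0, 2, 3, 0,
  2, 0], [], 0), ([0, 2, 4, 5], [4, 5, 4, 0, 2, 0], [], 0), ([0, 3, 4, 5], [3, 4, 5, 3, 4, 3, 0],
  [], 0), ([1, 2, 3, 4], [4, 3, 2, 1, 3, 4, 3, 2, 1, 3, 2, 1], [0, 2, 3, 4, 3, 1, 2, 0, 3, 4, 5,
  4, 3, 1, 2, 0, 3], 3), ([1, 2, 3, 5], [5, 3, 2, 1, 3, 2, 1], [], 0), ([1, 2, 4, 5], [4, 5, 4,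
  2, 1], [], 0), ([1, 3, 4, 5], [1, 3, 4, 5, 1, 3, 4, 1, 3, 1], [], 0), ([2, 3, 4, 5], [2, 3, 4,
  5, 2, 3, 4, 2, 3, 2], [], 0), ([0, 1, 2, 3, 4], [1, 3, 4, 2, 3, 0, 2, 1, 3, 4, 2, 3, 0, 2, 1,
  3, 0, 2, 1, 0], [], 0), ([0, 1, 2, 3, 5], [5, 2, 3, 0, 2, 1, 3, 0, 2, 1, 0], [], 0), ([0, 1, 2,
  4, 5], [4, 5, 4, 0, 2, 1, 0], [], 0), ([0, 1, 3, 4, 5], [1, 3, 4, 5, 1, 3, 4, 1, 3, 1, 0], [],
  0), ([0, 2, 3, 4, 5], [0, 2, 3, 4, 5, 0, 2, 3, 4, 0, 2, 3, 0, 2, 0], [], 0), ([1, 2, 3, 4, 5],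
  [5, 4, 3, 2, 1, 3, 4, 5, 4, 3, 2, 1, 3, 4, 3, 2, 1, 3, 2, 1], [], 0), ([0, 1, 2, 3, 4, 5], [0,
  2, 3, 4, 5, 1, 3, 4, 2, 3, 0, 2, 1, 3, 4, 5, 1, 3, 4, 2, 3, 0, 2, 1, 3, 4, 2, 3, 0, 2, 1, 3, 0,
  2, 1, 0], [], 0)]

theorem invRepsE6_eq_1' : type_of% @invRepsE6.eq_1 := @invRepsE6.eq_1
theorem invRanksE6_eq_1' : type_of% @invRanksE6.eq_1 := @invRanksE6.eq_1
theorem invClsE6_eq_1' : type_of% @invClsE6.eq_1 := @invClsE6.eq_1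
theorem invCertE6_eq_1' : type_of% @invCertE6.eq_1 := @invCertE6.eq_1

theorem invRepsE6_ok : ∀ b ∈ invRepsE6, repChk certE6.T id b = true := by decide +kernel

theorem invRanksE6_ok : ∀ p ∈ invRepsE6.zip invRanksE6,
    rankChk certE6.T p.1 (p.2 + 1) = true := by decide +kernel

theorem invClsE6_ok : ∀ e ∈ invClsE6,
    classChk certE6.T certE6.wt id invRepsE6 e.1 e.2.1 e.2.2 = true := by decide +kernel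

theorem invCertE6_ok :
    wChk cartanE6 id (fun i => [i]) (invClsE6.map fun e => wWord e.1) invCertE6 = true := by
  decide +kernel

variable {F : Type*} [Field F] [CharP F 2]

theorem invRepsE6_spec : ∀ b ∈ invRepsE6.map (w1 F chevE6), b ∈ chevE6.group F ∧ orderOf b = 2 :=
  certE6.reps_spec rootE6 rfl invRepsE6_ok invRanksE6_ok

theorem exists_conj_invRepsE6 [Finite F] : ∀ g ∈ chevE6.group F, orderOf g = 2 →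
    ∃ z ∈ chevE6.group F, ∃ b ∈ invRepsE6.map (w1 F chevE6), z * g * z⁻¹ = b := fun _ hg ho => by
  obtain ⟨z, hz, b, hb, e⟩ := certE6.exists_conj_rep_triv rootE6 (hasC_E6 rootE6) invRepsE6_ok
    invClsE6_ok invCertE6_ok hg ho
  exact ⟨z, hz, _, List.mem_map_of_mem hb, e⟩

end Cfsg.Lib.Chev.Core
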