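import Cfsg.Agent.Chev.InvCls
import Cfsg.Agent.Chev.CoreCertE7
import Cfsg.Agent.Chev.RootCertE7
import Cfsg.Agent.Chev.WeylTypes

/-!
# The classes of involutions of type `E7` in characteristic two
-/

set_option autoImplicit false

open Cfsg.Lie

namespace Cfsg.Lib.Chev.Core

/-- The representatives. -/
def invRepsE7 : List (List ℕ) := [[125], [125, 92], [125, 92, 87], [125, 92, 63], [125, 92, 87, 78]]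

/-- The ranks of `g - 1` minus one. -/
def invRanksE7 : List ℕ := [33, 51, 61, 52, 62]

/-- The classes of involutions of the Weyl group. -/
def invClsE7 : List (List (List (Fin 7) × Fin 7) × List (List ℕ) × ℕ) :=
  [([([0, 2, 3, 1, 4, 3, 2, 0, 5, 4, 3, 1, 2, 3, 4, 5], 6)], [[0]], 0), ([([0, 2, 3, 1, 4, 3, 2,
  0, 5, 4, 3, 1, 2, 3, 4, 5], 6), ([5, 4, 3, 1, 2, 3, 4, 5], 6)], [[0, 33]], 1), ([([0, 2, 3, 1,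
  4, 3, 2, 0, 5, 4, 3, 1, 2, 3, 4, 5], 6), ([5, 4, 3, 1, 2, 3, 4, 5], 6), ([3, 1, 2, 3], 4)],
  [[0, 33, 38]], 2), ([([0, 2, 3, 1, 4, 3, 2, 0, 5, 4, 3, 1, 2, 3, 4, 5], 6), ([5, 4, 3, 1, 2, 3,
  4, 5], 6), ([], 6)], [[0, 33, 62]], 3), ([([0, 2, 3, 1, 4, 3, 2, 0, 5, 4, 3, 1, 2, 3, 4, 5],
  6), ([5, 4, 3, 1, 2, 3, 4, 5], 6), ([3, 1, 2, 3], 4), ([], 2)], [[94, 92], [17, 22, 0, 33, 38,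
  52]], 2), ([([5, 4, 3, 1, 2, 3, 4, 5], 6), ([3, 1, 2, 3], 4), ([], 1), ([0, 2, 3, 1, 4, 3, 2,
  0, 5, 4, 3, 1, 2, 3, 4, 5], 6)], [[33, 38, 47, 0]], 4), ([([5, 4, 3, 1, 2, 3, 4, 5], 6), ([3,
  1, 2, 3], 4), ([0, 2, 3, 1, 4, 3, 2, 0, 5, 4, 3, 1, 2, 3, 4, 5], 6), ([], 1), ([], 6)], [[24],
  [125], [10], [98], [33, 38, 0, 47, 62]], 4), ([([5, 4, 3, 1, 2, 3, 4, 5], 6), ([3, 1, 2, 3],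
  4), ([0, 2, 3, 1, 4, 3, 2, 0, 5, 4, 3, 1, 2, 3, 4, 5], 6), ([], 1), ([], 6), ([], 4)], [[24],
  [125], [10], [98, 67, 87], [37, 60, 33, 38, 0, 47, 62, 59]], 4), ([([5, 4, 3, 1, 2, 3, 4, 5],
  6), ([3, 1, 2, 3], 4), ([0, 2, 3, 1, 4, 3, 2, 0, 5, 4, 3, 1, 2, 3, 4, 5], 6), ([], 1), ([], 6),
  ([], 4), ([], 2)], [[24], [125], [10], [98, 67, 87], [37, 60, 22], [87, 94], [17, 33, 38, 0,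
  47, 62, 59, 52]], 4)]

/-- The reduction of the longest elements. -/
def invCertE7 : List (List (Fin 7) × List (Fin 7) × List (Fin 7) × ℕ) :=
  [([0], [0], [0, 2, 3, 1, 4, 3, 2, 5, 4, 3, 1, 6, 5, 4, 3, 2], 0), ([1], [1], [0, 2, 3, 1, 4, 3,
  2, 0, 5, 4, 3, 2, 6, 5, 4, 3], 0), ([2], [2], [0, 2, 3, 1, 4, 3, 2, 0, 5, 4, 3, 1, 6, 5, 4, 3],
  0), ([3], [3], [0, 2, 3, 1, 4, 3, 2, 0, 5, 4, 3, 1, 2, 6, 5, 4], 0), ([4], [4], [0, 2, 3, 1, 4,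
  3, 2, 0, 5, 4, 3, 1, 2, 3, 6, 5], 0), ([5], [5], [0, 2, 3, 1, 4, 3, 2, 0, 5, 4, 3, 1, 2, 3, 4,
  6], 0), ([6], [6], [0, 2, 3, 1, 4, 3, 2, 0, 5, 4, 3, 1, 2, 3, 4, 5], 0), ([0, 1], [1, 0], [0,
  2, 3, 1, 5, 4, 3, 1, 2, 0, 3, 2, 4, 3, 1, 5, 4, 3, 2, 6, 5, 4, 3, 2], 1), ([0, 2], [0, 2, 0],
  [], 0), ([0, 3], [3, 0], [0, 2, 3, 1, 5, 4, 3, 1, 2, 0, 3, 2, 4, 3, 1, 5, 4, 3, 6, 5, 4, 3, 1,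
  2], 1), ([0, 4], [4, 0], [0, 2, 3, 1, 5, 4, 3, 1, 2, 0, 3, 2, 4, 3, 1, 5, 4, 6, 5, 4, 3, 1, 2,
  3], 1), ([0, 5], [5, 0], [0, 2, 3, 1, 5, 4, 3, 1, 2, 0, 3, 2, 4, 3, 1, 5, 6, 5, 4, 3, 1, 2, 3,
  4], 1), ([0, 6], [6, 0], [0, 2, 3, 1, 5, 4, 3, 1, 2, 0, 3, 2, 4, 3, 1, 6, 5, 4, 3, 1, 2, 3, 4,
  5], 1), ([1, 2], [2, 1], [0, 2, 3, 1, 5, 4, 3, 1, 2, 0, 3, 2, 4, 3, 1, 5, 4, 3, 2, 0, 6, 5, 4,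
  3], 1), ([1, 3], [1, 3, 1], [], 0), ([1, 4], [4, 1], [0, 2, 3, 1, 5, 4, 3, 1, 2, 3, 4, 5, 6, 5,
  4, 3, 1, 2, 0, 3, 2, 4, 3, 5], 1), ([1, 5], [5, 1], [0, 2, 3, 1, 5, 4, 3, 1, 2, 0, 3, 4, 5, 6,
  5, 4, 3, 1, 2, 0, 3, 2, 4, 3], 1), ([1, 6], [6, 1], [0, 2, 3, 1, 5, 4, 3, 1, 2, 0, 3, 4, 6, 5,
  4, 3, 1, 2, 0, 3, 2, 4, 3, 5], 1), ([2, 3], [2, 3, 2], [], 0), ([2, 4], [4, 2], [0, 2, 3, 1, 5,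
  4, 3, 1, 2, 0, 3, 2, 4, 3, 5, 4, 6, 5, 4, 3, 1, 2, 0, 3], 1), ([2, 5], [5, 2], [0, 2, 3, 1, 5,
  4, 3, 1, 2, 0, 3, 2, 4, 3, 5, 6, 5, 4, 3, 1, 2, 0, 3, 4], 1), ([2, 6], [6, 2], [0, 2, 3, 1, 5,
  4, 3, 1, 2, 0, 3, 2, 4, 3, 6, 5, 4, 3, 1, 2, 0, 3, 4, 5], 1), ([3, 4], [3, 4, 3], [], 0), ([3,
  5], [5, 3], [0, 2, 3, 1, 5, 4, 3, 1, 2, 0, 3, 2, 4, 5, 6, 5, 4, 3, 1, 2, 0, 3, 2, 4], 1), ([3,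
  6], [6, 3], [0, 2, 3, 1, 5, 4, 3, 1, 2, 0, 3, 2, 4, 6, 5, 4, 3, 1, 2, 0, 3, 2, 4, 5], 1), ([4,
  5], [4, 5, 4], [], 0), ([4, 6], [6, 4], [0, 2, 3, 1, 5, 4, 3, 1, 2, 0, 3, 2, 6, 5, 4, 3, 1, 2,
  0, 3, 2, 4, 3, 5], 1), ([5, 6], [5, 6, 5], [], 0), ([0, 1, 2], [0, 2, 1, 0], [], 0), ([0, 1,
  3], [1, 3, 1, 0], [], 0), ([0, 1, 4], [4, 1, 0], [0, 3, 1, 2, 0, 4, 3, 1, 5, 4, 3, 1, 2, 3, 4,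
  5, 6, 5, 4, 3, 1, 2, 0, 3, 2, 4, 3, 5], 2), ([0, 1, 5], [5, 1, 0], [0, 3, 1, 2, 0, 4, 3, 1, 5,
  4, 3, 1, 2, 0, 3, 4, 5, 6, 5, 4, 3, 1, 2, 0, 3, 2, 4, 3], 2), ([0, 1, 6], [6, 1, 0], [0, 3, 1,
  2, 0, 4, 3, 1, 5, 4, 3, 1, 2, 0, 3, 4, 6, 5, 4, 3, 1, 2, 0, 3, 2, 4, 3, 5], 2), ([0, 2, 3], [0,
  2, 3, 0, 2, 0], [], 0), ([0, 2, 4], [4, 0, 2, 0], [], 0), ([0, 2, 5], [5, 0, 2, 0], [], 0),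
  ([0, 2, 6], [6, 0, 2, 0], [], 0), ([0, 3, 4], [3, 4, 3, 0], [], 0), ([0, 3, 5], [5, 3, 0], [0,
  3, 1, 2, 0, 4, 3, 1, 5, 4, 3, 1, 2, 0, 3, 2, 4, 5, 6, 5, 4, 3, 1, 2, 0, 3, 2, 4], 2), ([0, 3,
  6], [6, 3, 0], [0, 3, 1, 2, 0, 4, 3, 1, 5, 4, 3, 1, 2, 0, 3, 2, 4, 6, 5, 4, 3, 1, 2, 0, 3, 2,
  4, 5], 2), ([0, 4, 5], [4, 5, 4, 0], [], 0), ([0, 4, 6], [6, 4, 0], [0, 3, 1, 2, 0, 4, 3, 1, 5,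
  4, 3, 1, 2, 0, 3, 2, 6, 5, 4, 3, 1, 2, 0, 3, 2, 4, 3, 5], 2), ([0, 5, 6], [5, 6, 5, 0], [], 0),
  ([1, 2, 3], [3, 2, 1, 3, 2, 1], [], 0), ([1, 2, 4], [4, 2, 1], [0, 3, 2, 0, 4, 3, 1, 2, 5, 4,
  3, 1, 2, 3, 4, 5, 6, 5, 4, 3, 1, 2, 0, 3, 2, 4, 3, 5], 2), ([1, 2, 5], [5, 2, 1], [0, 3, 2, 0,
  4, 3, 1, 2, 5, 4, 3, 1, 2, 0, 3, 4, 5, 6, 5, 4, 3, 1, 2, 0, 3, 2, 4, 3], 2), ([1, 2, 6], [6, 2,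
  1], [0, 3, 2, 0, 4, 3, 1, 2, 5, 4, 3, 1, 2, 0, 3, 4, 6, 5, 4, 3, 1, 2, 0, 3, 2, 4, 3, 5], 2),
  ([1, 3, 4], [1, 3, 4, 1, 3, 1], [], 0), ([1, 3, 5], [5, 1, 3, 1], [], 0), ([1, 3, 6], [6, 1, 3,
  1], [], 0), ([1, 4, 5], [4, 5, 4, 1], [], 0), ([1, 4, 6], [6, 4, 1], [0, 2, 3, 1, 5, 4, 3, 1,
  2, 0, 3, 2, 6, 5, 4, 3, 1, 2, 0, 3, 2, 4, 3, 5], 3), ([1, 5, 6], [5, 6, 5, 1], [], 0), ([2, 3,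
  4], [2, 3, 4, 2, 3, 2], [], 0), ([2, 3, 5], [5, 2, 3, 2], [], 0), ([2, 3, 6], [6, 2, 3, 2], [],
  0), ([2, 4, 5], [4, 5, 4, 2], [], 0), ([2, 4, 6], [6, 4, 2], [0, 3, 1, 2, 4, 3, 1, 2, 5, 4, 3,
  1, 2, 0, 3, 2, 6, 5, 4, 3, 1, 2, 0, 3, 2, 4, 3, 5], 2), ([2, 5, 6], [5, 6, 5, 2], [], 0), ([3,
  4, 5], [3, 4, 5, 3, 4, 3], [], 0), ([3, 4, 6], [6, 3, 4, 3], [], 0), ([3, 5, 6], [5, 6, 5, 3],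
  [], 0), ([4, 5, 6], [4, 5, 6, 4, 5, 4], [], 0), ([0, 1, 2, 3], [2, 3, 0, 2, 1, 3, 0, 2, 1, 0],
  [], 0), ([0, 1, 2, 4], [4, 0, 2, 1, 0], [], 0), ([0, 1, 2, 5], [5, 0, 2, 1, 0], [], 0), ([0, 1,
  2, 6], [6, 0, 2, 1, 0], [], 0), ([0, 1, 3, 4], [1, 3, 4, 1, 3, 1, 0], [], 0), ([0, 1, 3, 5],
  [5, 1, 3, 1, 0], [], 0), ([0, 1, 3, 6], [6, 1, 3, 1, 0], [], 0), ([0, 1, 4, 5], [4, 5, 4, 1,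
  0], [], 0), ([0, 1, 4, 6], [6, 4, 1, 0], [0, 3, 1, 2, 3, 4, 3, 2, 5, 4, 3, 1, 2, 0, 3, 2, 4, 3,
  1, 6, 5, 4, 3, 1, 2, 3, 4, 5], 5), ([0, 1, 5, 6], [5, 6, 5, 1, 0], [], 0), ([0, 2, 3, 4], [0,
  2, 3, 4, 0, 2, 3, 0, 2, 0], [], 0), ([0, 2, 3, 5], [5, 0, 2, 3, 0, 2, 0], [], 0), ([0, 2, 3,
  6], [6, 0, 2, 3, 0, 2, 0], [], 0), ([0, 2, 4, 5], [4, 5, 4, 0, 2, 0], [], 0), ([0, 2, 4, 6],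
  [6, 4, 0, 2, 0], [], 0), ([0, 2, 5, 6], [5, 6, 5, 0, 2, 0], [], 0), ([0, 3, 4, 5], [3, 4, 5, 3,
  4, 3, 0], [], 0), ([0, 3, 4, 6], [6, 3, 4, 3, 0], [], 0), ([0, 3, 5, 6], [5, 6, 5, 3, 0], [],
  0), ([0, 4, 5, 6], [4, 5, 6, 4, 5, 4, 0], [], 0), ([1, 2, 3, 4], [4, 3, 2, 1, 3, 4, 3, 2, 1, 3,
  2, 1], [0, 3, 2, 0, 4, 3, 1, 2, 5, 4, 3, 1, 2, 0, 3, 2, 4, 3, 5, 4, 6, 5, 4, 3, 1, 2, 0, 3],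
  4), ([1, 2, 3, 5], [5, 3, 2, 1, 3, 2, 1], [], 0), ([1, 2, 3, 6], [6, 3, 2, 1, 3, 2, 1], [], 0),
  ([1, 2, 4, 5], [4, 5, 4, 2, 1], [], 0), ([1, 2, 4, 6], [6, 4, 2, 1], [0, 3, 1, 2, 3, 4, 3, 2,
  5, 4, 3, 1, 2, 0, 3, 2, 4, 3, 6, 5, 4, 3, 1, 2, 0, 3, 4, 5], 5), ([1, 2, 5, 6], [5, 6, 5, 2,
  1], [], 0), ([1, 3, 4, 5], [1, 3, 4, 5, 1, 3, 4, 1, 3, 1], [], 0), ([1, 3, 4, 6], [6, 1, 3, 4,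
  1, 3, 1], [], 0), ([1, 3, 5, 6], [5, 6, 5, 1, 3, 1], [], 0), ([1, 4, 5, 6], [4, 5, 6, 4, 5, 4,
  1], [], 0), ([2, 3, 4, 5], [2, 3, 4, 5, 2, 3, 4, 2, 3, 2], [], 0), ([2, 3, 4, 6], [6, 2, 3, 4,
  2, 3, 2], [], 0), ([2, 3, 5, 6], [5, 6, 5, 2, 3, 2], [], 0), ([2, 4, 5, 6], [4, 5, 6, 4, 5, 4,
  2], [], 0), ([3, 4, 5, 6], [3, 4, 5, 6, 3, 4, 5, 3, 4, 3], [], 0), ([0, 1, 2, 3, 4], [1, 3, 4,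
  2, 3, 0, 2, 1, 3, 4, 2, 3, 0, 2, 1, 3, 0, 2, 1, 0], [], 0), ([0, 1, 2, 3, 5], [5, 2, 3, 0, 2,
  1, 3, 0, 2, 1, 0], [], 0), ([0, 1, 2, 3, 6], [6, 2, 3, 0, 2, 1, 3, 0, 2, 1, 0], [], 0), ([0, 1,
  2, 4, 5], [4, 5, 4, 0, 2, 1, 0], [], 0), ([0, 1, 2, 4, 6], [6, 4, 0, 2, 1, 0], [], 0), ([0, 1,
  2, 5, 6], [5, 6, 5, 0, 2, 1, 0], [], 0), ([0, 1, 3, 4, 5], [1, 3, 4, 5, 1, 3, 4, 1, 3, 1, 0],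
  [], 0), ([0, 1, 3, 4, 6], [6, 1, 3, 4, 1, 3, 1, 0], [], 0), ([0, 1, 3, 5, 6], [5, 6, 5, 1, 3,
  1, 0], [], 0), ([0, 1, 4, 5, 6], [4, 5, 6, 4, 5, 4, 1, 0], [], 0), ([0, 2, 3, 4, 5], [0, 2, 3,
  4, 5, 0, 2, 3, 4, 0, 2, 3, 0, 2, 0], [], 0), ([0, 2, 3, 4, 6], [6, 0, 2, 3, 4, 0, 2, 3, 0, 2,
  0], [], 0), ([0, 2, 3, 5, 6], [5, 6, 5, 0, 2, 3, 0, 2, 0], [], 0), ([0, 2, 4, 5, 6], [4, 5, 6,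
  4, 5, 4, 0, 2, 0], [], 0), ([0, 3, 4, 5, 6], [3, 4, 5, 6, 3, 4, 5, 3, 4, 3, 0], [], 0), ([1, 2,
  3, 4, 5], [5, 4, 3, 2, 1, 3, 4, 5, 4, 3, 2, 1, 3, 4, 3, 2, 1, 3, 2, 1], [], 0), ([1, 2, 3, 4,
  6], [6, 4, 3, 2, 1, 3, 4, 3, 2, 1, 3, 2, 1], [0, 3, 1, 2, 3, 4, 3, 2, 5, 4, 3, 1, 2, 0, 3, 2,
  4, 3, 6, 5, 4, 3, 1, 2, 0, 3, 4, 5], 6), ([1, 2, 3, 5, 6], [5, 6, 5, 3, 2, 1, 3, 2, 1], [], 0),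
  ([1, 2, 4, 5, 6], [4, 5, 6, 4, 5, 4, 2, 1], [], 0), ([1, 3, 4, 5, 6], [1, 3, 4, 5, 6, 1, 3, 4,
  5, 1, 3, 4, 1, 3, 1], [], 0), ([2, 3, 4, 5, 6], [2, 3, 4, 5, 6, 2, 3, 4, 5, 2, 3, 4, 2, 3, 2],
  [], 0), ([0, 1, 2, 3, 4, 5], [0, 2, 3, 4, 5, 1, 3, 4, 2, 3, 0, 2, 1, 3, 4, 5, 1, 3, 4, 2, 3, 0,
  2, 1, 3, 4, 2, 3, 0, 2, 1, 3, 0, 2, 1, 0], [], 0), ([0, 1, 2, 3, 4, 6], [6, 1, 3, 4, 2, 3, 0,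
  2, 1, 3, 4, 2, 3, 0, 2, 1, 3, 0, 2, 1, 0], [], 0), ([0, 1, 2, 3, 5, 6], [5, 6, 5, 2, 3, 0, 2,
  1, 3, 0, 2, 1, 0], [], 0), ([0, 1, 2, 4, 5, 6], [4, 5, 6, 4, 5, 4, 0, 2, 1, 0], [], 0), ([0, 1,
  3, 4, 5, 6], [1, 3, 4, 5, 6, 1, 3, 4, 5, 1, 3, 4, 1, 3, 1, 0], [], 0), ([0, 2, 3, 4, 5, 6], [0,
  2, 3, 4, 5, 6, 0, 2, 3, 4, 5, 0, 2, 3, 4, 0, 2, 3, 0, 2, 0], [], 0), ([1, 2, 3, 4, 5, 6], [6,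
  5, 4, 3, 2, 1, 3, 4, 5, 6, 5, 4, 3, 2, 1, 3, 4, 5, 4, 3, 2, 1, 3, 4, 3, 2, 1, 3, 2, 1], [0, 3,
  1, 2, 3, 4, 3, 2, 5, 4, 3, 1, 2, 0, 3, 2, 4, 3, 6, 5, 4, 3, 1, 2, 0, 3, 4, 5], 7), ([0, 1, 2,
  3, 4, 5, 6], [6, 5, 4, 3, 2, 1, 3, 4, 5, 6, 0, 2, 3, 4, 5, 1, 3, 4, 2, 3, 0, 2, 1, 3, 4, 5, 6,
  0, 2, 3, 4, 5, 1, 3, 4, 2, 3, 0, 2, 1, 3, 4, 5, 1, 3, 4, 2, 3, 0, 2, 1, 3, 4, 2, 3, 0, 2, 1, 3,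
  0, 2, 1, 0], [0, 3, 1, 2, 3, 4, 3, 2, 5, 4, 3, 1, 2, 0, 3, 2, 4, 3, 6, 5, 4, 3, 1, 2, 0, 3, 4,
  5], 8)]

theorem invRepsE7_eq_1' : type_of% @invRepsE7.eq_1 := @invRepsE7.eq_1
theorem invRanksE7_eq_1' : type_of% @invRanksE7.eq_1 := @invRanksE7.eq_1
theorem invClsE7_eq_1' : type_of% @invClsE7.eq_1 := @invClsE7.eq_1
theorem invCertE7_eq_1' : type_of% @invCertE7.eq_1 := @invCertE7.eq_1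

theorem invRepsE7_ok : ∀ b ∈ invRepsE7, repChk certE7.T id b = true := by decide +kernel

theorem invRanksE7_ok : ∀ p ∈ invRepsE7.zip invRanksE7,
    rankChk certE7.T p.1 (p.2 + 1) = true := by decide +kernel

theorem invClsE7_ok : ∀ e ∈ invClsE7,
    classChk certE7.T certE7.wt id invRepsE7 e.1 e.2.1 e.2.2 = true := by decide +kernel

theorem invCertE7_ok :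
    wChk cartanE7 id (fun i => [i]) (invClsE7.map fun e => wWord e.1) invCertE7 = true := by
  decide +kernel

variable {F : Type*} [Field F] [CharP F 2]

theorem invRepsE7_spec : ∀ b ∈ invRepsE7.map (w1 F chevE7), b ∈ chevE7.group F ∧ orderOf b = 2 :=
  certE7.reps_spec rootE7 rfl invRepsE7_ok invRanksE7_ok

theorem exists_conj_invRepsE7 [Finite F] : ∀ g ∈ chevE7.group F, orderOf g = 2 →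
    ∃ z ∈ chevE7.group F, ∃ b ∈ invRepsE7.map (w1 F chevE7), z * g * z⁻¹ = b := fun _ hg ho => by
  obtain ⟨z, hz, b, hb, e⟩ := certE7.exists_conj_rep_triv rootE7 (hasC_E7 rootE7) invRepsE7_ok
    invClsE7_ok invCertE7_ok hg ho
  exact ⟨z, hz, _, List.mem_map_of_mem hb, e⟩

end Cfsg.Lib.Chev.Core
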