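import Cfsg.Agent.Chev.InvCls
import Cfsg.Agent.Chev.CoreCertE8
import Cfsg.Agent.Chev.RootCertE8
import Cfsg.Agent.Chev.WeylTypes

/-!
# The classes of involutions of type `E8` in characteristic two
-/

set_option autoImplicit false

open Cfsg.Lie

namespace Cfsg.Lib.Chev.Core

/-- The representatives. -/
def invRepsE8 : List (List ℕ) := [[239], [232, 233], [228, 222, 218], [226, 220, 213, 216]]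

/-- The ranks of `g - 1` minus one. -/
def invRanksE8 : List ℕ := [57, 91, 109, 119]

/-- The classes of involutions of the Weyl group. -/
def invClsE8 : List (List (List (Fin 8) × Fin 8) × List (List ℕ) × ℕ) :=
  [([([7, 6, 5, 4, 3, 1, 2, 0, 3, 2, 4, 3, 1, 5, 4, 3, 2, 0, 6, 5, 4, 3, 1, 2, 3, 4, 5, 6], 7)],
  [[0]], 0), ([([2, 0, 3, 2, 4, 3, 1, 5, 4, 3, 2, 0, 6, 5, 4, 3, 1, 2, 3, 4, 5, 6], 7), ([0, 1,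
  3, 2, 4, 3, 1, 5, 4, 3, 2, 0, 6, 5, 4, 3, 1, 2, 3, 4, 5, 6], 7)], [[7, 6]], 1), ([([0, 2, 3, 1,
  4, 3, 2, 0, 6, 5, 4, 3, 1, 2, 3, 4, 5, 6], 7), ([2, 3, 1, 5, 4, 3, 2, 0, 6, 5, 4, 3, 1, 2, 3,
  4, 5, 6], 7), ([4, 3, 1, 5, 4, 3, 2, 0, 6, 5, 4, 3, 1, 2, 3, 4, 5, 6], 7)], [[11, 17, 21]], 2),
  ([([0, 2, 3, 1, 4, 3, 2, 0, 6, 5, 4, 3, 1, 2, 3, 4, 5, 6], 7), ([2, 3, 1, 5, 4, 3, 2, 0, 6, 5,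
  4, 3, 1, 2, 3, 4, 5, 6], 7), ([4, 3, 1, 5, 4, 3, 2, 0, 6, 5, 4, 3, 1, 2, 3, 4, 5, 6], 7), ([],
  7)], [[80], [222], [53, 60, 11, 17, 21, 119]], 2), ([([0, 2, 3, 1, 4, 3, 2, 0, 5, 4, 3, 1, 2,
  3, 4, 5], 6), ([2, 3, 1, 4, 3, 2, 0, 5, 4, 3, 1, 2, 3, 4, 5, 6], 7), ([1, 5, 4, 3, 2, 0, 6, 5,
  4, 3, 1, 2, 3, 4, 5, 6], 7), ([3, 1, 4, 3, 2, 0, 6, 5, 4, 3, 1, 2, 3, 4, 5, 6], 7)], [[13, 19,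
  26, 23]], 3), ([([0, 2, 3, 1, 4, 3, 2, 0, 5, 4, 3, 1, 2, 3, 4, 5], 6), ([2, 3, 1, 4, 3, 2, 0,
  5, 4, 3, 1, 2, 3, 4, 5, 6], 7), ([1, 5, 4, 3, 2, 0, 6, 5, 4, 3, 1, 2, 3, 4, 5, 6], 7), ([3, 1,
  4, 3, 2, 0, 6, 5, 4, 3, 1, 2, 3, 4, 5, 6], 7), ([0, 2, 3, 4, 5, 6], 7)], [[94], [213], [90, 87,
  13, 19, 26, 23, 71]], 3), ([([0, 2, 3, 1, 4, 3, 2, 0, 5, 4, 3, 1, 2, 3, 4, 5], 6), ([2, 3, 1,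
  4, 3, 2, 0, 5, 4, 3, 1, 2, 3, 4, 5, 6], 7), ([1, 5, 4, 3, 2, 0, 6, 5, 4, 3, 1, 2, 3, 4, 5, 6],
  7), ([3, 1, 4, 3, 2, 0, 6, 5, 4, 3, 1, 2, 3, 4, 5, 6], 7), ([0, 2, 3, 4, 5, 6], 7), ([2, 3, 4,
  5], 6)], [[94], [213], [90, 87, 119], [220], [35, 77, 13, 19, 26, 23, 71, 100]], 3), ([([0, 2,
  3, 1, 4, 3, 2, 0, 5, 4, 3, 1, 2, 3, 4, 5], 6), ([2, 3, 1, 4, 3, 2, 0, 5, 4, 3, 1, 2, 3, 4, 5,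
  6], 7), ([1, 5, 4, 3, 2, 0, 6, 5, 4, 3, 1, 2, 3, 4, 5, 6], 7), ([3, 1, 4, 3, 2, 0, 6, 5, 4, 3,
  1, 2, 3, 4, 5, 6], 7), ([0, 2, 3, 4, 5, 6], 7), ([2, 3, 4, 5], 6), ([3, 4], 5)], [[94], [213],
  [90, 87, 119], [220], [35, 77, 88], [220], [55, 67, 13, 19, 26, 23, 71, 100, 107]], 3), ([([0,
  2, 3, 1, 4, 3, 2, 0, 5, 4, 3, 1, 2, 3, 4, 5], 6), ([2, 3, 1, 4, 3, 2, 0, 5, 4, 3, 1, 2, 3, 4,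
  5, 6], 7), ([1, 5, 4, 3, 2, 0, 6, 5, 4, 3, 1, 2, 3, 4, 5, 6], 7), ([3, 1, 4, 3, 2, 0, 6, 5, 4,
  3, 1, 2, 3, 4, 5, 6], 7), ([0, 2, 3, 4, 5, 6], 7), ([2, 3, 4, 5], 6), ([3, 4], 5), ([], 4)],
  [[94], [213], [90, 87, 119], [220], [35, 77, 84], [220], [54, 63, 88], [220], [55, 67, 13, 19,
  26, 23, 71, 100, 107, 113]], 3)]

/-- The reduction of the longest elements. -/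
def invCertE8 : List (List (Fin 8) × List (Fin 8) × List (Fin 8) × ℕ) :=
  [([0], [0], [7, 6, 5, 4, 3, 1, 2, 0, 3, 2, 4, 3, 1, 5, 4, 3, 2, 6, 5, 4, 3, 1, 7, 6, 5, 4, 3,
  2], 0), ([1], [1], [7, 6, 5, 4, 3, 1, 2, 0, 3, 2, 4, 3, 1, 5, 4, 3, 2, 0, 6, 5, 4, 3, 2, 7, 6,
  5, 4, 3], 0), ([2], [2], [7, 6, 5, 4, 3, 1, 2, 0, 3, 2, 4, 3, 1, 5, 4, 3, 2, 0, 6, 5, 4, 3, 1,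
  7, 6, 5, 4, 3], 0), ([3], [3], [7, 6, 5, 4, 3, 1, 2, 0, 3, 2, 4, 3, 1, 5, 4, 3, 2, 0, 6, 5, 4,
  3, 1, 2, 7, 6, 5, 4], 0), ([4], [4], [7, 6, 5, 4, 3, 1, 2, 0, 3, 2, 4, 3, 1, 5, 4, 3, 2, 0, 6,
  5, 4, 3, 1, 2, 3, 7, 6, 5], 0), ([5], [5], [7, 6, 5, 4, 3, 1, 2, 0, 3, 2, 4, 3, 1, 5, 4, 3, 2,
  0, 6, 5, 4, 3, 1, 2, 3, 4, 7, 6], 0), ([6], [6], [7, 6, 5, 4, 3, 1, 2, 0, 3, 2, 4, 3, 1, 5, 4,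
  3, 2, 0, 6, 5, 4, 3, 1, 2, 3, 4, 5, 7], 0), ([7], [7], [7, 6, 5, 4, 3, 1, 2, 0, 3, 2, 4, 3, 1,
  5, 4, 3, 2, 0, 6, 5, 4, 3, 1, 2, 3, 4, 5, 6], 0), ([0, 1], [1, 0], [0, 1, 2, 0, 3, 1, 4, 3, 2,
  0, 5, 4, 3, 1, 2, 3, 4, 5, 6, 5, 4, 3, 1, 2, 0, 3, 2, 4, 3, 1, 5, 4, 3, 2, 7, 6, 5, 4, 3, 2],
  1), ([0, 2], [0, 2, 0], [], 0), ([0, 3], [3, 0], [0, 1, 2, 0, 3, 1, 4, 3, 2, 0, 5, 4, 3, 1, 2,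
  3, 4, 5, 6, 5, 4, 3, 1, 2, 0, 3, 2, 4, 3, 1, 5, 4, 3, 7, 6, 5, 4, 3, 1, 2], 1), ([0, 4], [4,
  0], [0, 1, 2, 0, 3, 1, 4, 3, 2, 0, 5, 4, 3, 1, 2, 3, 4, 5, 6, 5, 4, 3, 1, 2, 0, 3, 2, 4, 3, 1,
  5, 4, 7, 6, 5, 4, 3, 1, 2, 3], 1), ([0, 5], [5, 0], [0, 1, 2, 0, 3, 1, 4, 3, 2, 0, 5, 4, 3, 1,
  2, 3, 4, 5, 6, 5, 4, 3, 1, 2, 0, 3, 2, 4, 3, 1, 5, 7, 6, 5, 4, 3, 1, 2, 3, 4], 1), ([0, 6], [6,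
  0], [0, 1, 2, 0, 3, 1, 4, 3, 2, 0, 5, 4, 3, 1, 2, 3, 4, 5, 6, 5, 4, 3, 1, 2, 0, 3, 2, 4, 3, 1,
  7, 6, 5, 4, 3, 1, 2, 3, 4, 5], 1), ([0, 7], [7, 0], [0, 1, 2, 0, 3, 1, 4, 3, 2, 0, 5, 4, 3, 1,
  2, 3, 4, 6, 5, 4, 3, 1, 2, 0, 3, 2, 4, 3, 1, 7, 6, 5, 4, 3, 1, 2, 3, 4, 5, 6], 1), ([1, 2], [2,
  1], [0, 1, 2, 0, 3, 1, 4, 3, 2, 0, 5, 4, 3, 1, 2, 3, 4, 5, 6, 5, 4, 3, 1, 2, 0, 3, 2, 4, 3, 1,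
  5, 4, 3, 2, 0, 7, 6, 5, 4, 3], 1), ([1, 3], [1, 3, 1], [], 0), ([1, 4], [4, 1], [0, 1, 2, 0, 3,
  1, 4, 3, 2, 0, 5, 4, 3, 1, 2, 3, 4, 5, 6, 5, 4, 3, 1, 2, 3, 4, 5, 7, 6, 5, 4, 3, 1, 2, 0, 3, 2,
  4, 3, 5], 1), ([1, 5], [5, 1], [0, 1, 2, 0, 3, 1, 4, 3, 2, 0, 5, 4, 3, 1, 2, 3, 4, 5, 6, 5, 4,
  3, 1, 2, 0, 3, 4, 5, 7, 6, 5, 4, 3, 1, 2, 0, 3, 2, 4, 3], 1), ([1, 6], [6, 1], [0, 1, 2, 0, 3,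
  1, 4, 3, 2, 0, 5, 4, 3, 1, 2, 3, 4, 5, 6, 5, 4, 3, 1, 2, 0, 3, 4, 7, 6, 5, 4, 3, 1, 2, 0, 3, 2,
  4, 3, 5], 1), ([1, 7], [7, 1], [0, 1, 2, 0, 3, 1, 4, 3, 2, 0, 5, 4, 3, 1, 2, 3, 4, 6, 5, 4, 3,
  1, 2, 0, 3, 4, 7, 6, 5, 4, 3, 1, 2, 0, 3, 2, 4, 3, 5, 6], 1), ([2, 3], [2, 3, 2], [], 0), ([2,
  4], [4, 2], [0, 1, 2, 0, 3, 1, 4, 3, 2, 0, 5, 4, 3, 1, 2, 3, 4, 5, 6, 5, 4, 3, 1, 2, 0, 3, 2,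
  4, 3, 5, 4, 7, 6, 5, 4, 3, 1, 2, 0, 3], 1), ([2, 5], [5, 2], [0, 1, 2, 0, 3, 1, 4, 3, 2, 0, 5,
  4, 3, 1, 2, 3, 4, 5, 6, 5, 4, 3, 1, 2, 0, 3, 2, 4, 3, 5, 7, 6, 5, 4, 3, 1, 2, 0, 3, 4], 1),
  ([2, 6], [6, 2], [0, 1, 2, 0, 3, 1, 4, 3, 2, 0, 5, 4, 3, 1, 2, 3, 4, 5, 6, 5, 4, 3, 1, 2, 0, 3,
  2, 4, 3, 7, 6, 5, 4, 3, 1, 2, 0, 3, 4, 5], 1), ([2, 7], [7, 2], [0, 1, 2, 0, 3, 1, 4, 3, 2, 0,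
  5, 4, 3, 1, 2, 3, 4, 6, 5, 4, 3, 1, 2, 0, 3, 2, 4, 3, 7, 6, 5, 4, 3, 1, 2, 0, 3, 4, 5, 6], 1),
  ([3, 4], [3, 4, 3], [], 0), ([3, 5], [5, 3], [0, 1, 2, 0, 3, 1, 4, 3, 2, 0, 5, 4, 3, 1, 2, 3,
  4, 5, 6, 5, 4, 3, 1, 2, 0, 3, 2, 4, 5, 7, 6, 5, 4, 3, 1, 2, 0, 3, 2, 4], 1), ([3, 6], [6, 3],
  [0, 1, 2, 0, 3, 1, 4, 3, 2, 0, 5, 4, 3, 1, 2, 3, 4, 5, 6, 5, 4, 3, 1, 2, 0, 3, 2, 4, 7, 6, 5,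
  4, 3, 1, 2, 0, 3, 2, 4, 5], 1), ([3, 7], [7, 3], [0, 1, 2, 0, 3, 1, 4, 3, 2, 0, 5, 4, 3, 1, 2,
  3, 4, 6, 5, 4, 3, 1, 2, 0, 3, 2, 4, 7, 6, 5, 4, 3, 1, 2, 0, 3, 2, 4, 5, 6], 1), ([4, 5], [4, 5,
  4], [], 0), ([4, 6], [6, 4], [0, 1, 2, 0, 3, 1, 4, 3, 2, 0, 5, 4, 3, 1, 2, 3, 4, 5, 6, 5, 4, 3,
  1, 2, 0, 3, 2, 7, 6, 5, 4, 3, 1, 2, 0, 3, 2, 4, 3, 5], 1), ([4, 7], [7, 4], [0, 1, 2, 0, 3, 1,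
  4, 3, 2, 0, 5, 4, 3, 1, 2, 3, 4, 6, 5, 4, 3, 1, 2, 0, 3, 2, 7, 6, 5, 4, 3, 1, 2, 0, 3, 2, 4, 3,
  5, 6], 1), ([5, 6], [5, 6, 5], [], 0), ([5, 7], [7, 5], [0, 1, 2, 0, 3, 1, 4, 3, 2, 0, 5, 4, 3,
  1, 2, 3, 6, 5, 4, 3, 1, 2, 0, 3, 2, 7, 6, 5, 4, 3, 1, 2, 0, 3, 2, 4, 3, 5, 4, 6], 1), ([6, 7],
  [6, 7, 6], [], 0), ([0, 1, 2], [0, 2, 1, 0], [], 0), ([0, 1, 3], [1, 3, 1, 0], [], 0), ([0, 1,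
  4], [4, 1, 0], [6, 5, 4, 3, 1, 2, 0, 3, 2, 4, 3, 1, 5, 4, 6, 5, 7, 6, 5, 4, 3, 1, 2, 0, 3, 2,
  4, 3, 1, 5, 4, 3, 2, 6, 5, 4, 3, 7, 6, 5], 2), ([0, 1, 5], [5, 1, 0], [6, 5, 4, 3, 1, 2, 0, 3,
  2, 4, 3, 1, 5, 4, 3, 6, 5, 7, 6, 5, 4, 3, 1, 2, 0, 3, 2, 4, 3, 1, 5, 4, 3, 2, 6, 5, 4, 3, 7,
  6], 2), ([0, 1, 6], [6, 1, 0], [6, 5, 4, 3, 1, 2, 0, 3, 2, 4, 3, 1, 5, 4, 3, 2, 6, 5, 7, 6, 5,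
  4, 3, 1, 2, 0, 3, 2, 4, 3, 1, 5, 4, 3, 2, 6, 5, 4, 3, 7], 2), ([0, 1, 7], [7, 1, 0], [6, 5, 4,
  3, 1, 2, 0, 3, 2, 4, 3, 1, 5, 4, 3, 2, 0, 6, 5, 7, 6, 5, 4, 3, 1, 2, 0, 3, 2, 4, 3, 1, 5, 4, 3,
  2, 6, 5, 4, 3], 2), ([0, 2, 3], [0, 2, 3, 0, 2, 0], [], 0), ([0, 2, 4], [4, 0, 2, 0], [], 0),
  ([0, 2, 5], [5, 0, 2, 0], [], 0), ([0, 2, 6], [6, 0, 2, 0], [], 0), ([0, 2, 7], [7, 0, 2, 0],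
  [], 0), ([0, 3, 4], [3, 4, 3, 0], [], 0), ([0, 3, 5], [5, 3, 0], [6, 5, 4, 3, 1, 2, 0, 3, 2, 4,
  3, 1, 5, 4, 3, 6, 5, 4, 7, 6, 5, 4, 3, 1, 2, 0, 3, 2, 4, 3, 1, 5, 4, 3, 2, 6, 5, 4, 7, 6], 2),
  ([0, 3, 6], [6, 3, 0], [6, 5, 4, 3, 1, 2, 0, 3, 2, 4, 3, 1, 5, 4, 3, 2, 6, 5, 4, 7, 6, 5, 4, 3,
  1, 2, 0, 3, 2, 4, 3, 1, 5, 4, 3, 2, 6, 5, 4, 7], 2), ([0, 3, 7], [7, 3, 0], [6, 5, 4, 3, 1, 2,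
  0, 3, 2, 4, 3, 1, 5, 4, 3, 2, 0, 6, 5, 4, 7, 6, 5, 4, 3, 1, 2, 0, 3, 2, 4, 3, 1, 5, 4, 3, 2, 6,
  5, 4], 2), ([0, 4, 5], [4, 5, 4, 0], [], 0), ([0, 4, 6], [6, 4, 0], [6, 5, 4, 3, 1, 2, 0, 3, 2,
  4, 3, 1, 5, 4, 3, 2, 6, 5, 4, 3, 7, 6, 5, 4, 3, 1, 2, 0, 3, 2, 4, 3, 1, 5, 4, 3, 2, 6, 5, 7],
  2), ([0, 4, 7], [7, 4, 0], [6, 5, 4, 3, 1, 2, 0, 3, 2, 4, 3, 1, 5, 4, 3, 2, 0, 6, 5, 4, 3, 7,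
  6, 5, 4, 3, 1, 2, 0, 3, 2, 4, 3, 1, 5, 4, 3, 2, 6, 5], 2), ([0, 5, 6], [5, 6, 5, 0], [], 0),
  ([0, 5, 7], [7, 5, 0], [6, 5, 4, 3, 1, 2, 0, 3, 2, 4, 3, 1, 5, 4, 3, 2, 0, 6, 5, 4, 3, 2, 7, 6,
  5, 4, 3, 1, 2, 0, 3, 2, 4, 3, 1, 5, 4, 3, 2, 6], 2), ([0, 6, 7], [6, 7, 6, 0], [], 0), ([1, 2,
  3], [3, 2, 1, 3, 2, 1], [], 0), ([1, 2, 4], [4, 2, 1], [6, 5, 4, 3, 1, 2, 0, 3, 2, 4, 3, 1, 5,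
  4, 6, 7, 6, 5, 4, 3, 1, 2, 0, 3, 2, 4, 3, 1, 5, 4, 3, 2, 0, 6, 5, 4, 3, 7, 6, 5], 2), ([1, 2,
  5], [5, 2, 1], [6, 5, 4, 3, 1, 2, 0, 3, 2, 4, 3, 1, 5, 4, 3, 6, 7, 6, 5, 4, 3, 1, 2, 0, 3, 2,
  4, 3, 1, 5, 4, 3, 2, 0, 6, 5, 4, 3, 7, 6], 2), ([1, 2, 6], [6, 2, 1], [6, 5, 4, 3, 1, 2, 0, 3,
  2, 4, 3, 1, 5, 4, 3, 2, 6, 7, 6, 5, 4, 3, 1, 2, 0, 3, 2, 4, 3, 1, 5, 4, 3, 2, 0, 6, 5, 4, 3,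
  7], 2), ([1, 2, 7], [7, 2, 1], [6, 5, 4, 3, 1, 2, 0, 3, 2, 4, 3, 1, 5, 4, 3, 2, 0, 6, 7, 6, 5,
  4, 3, 1, 2, 0, 3, 2, 4, 3, 1, 5, 4, 3, 2, 0, 6, 5, 4, 3], 2), ([1, 3, 4], [1, 3, 4, 1, 3, 1],
  [], 0), ([1, 3, 5], [5, 1, 3, 1], [], 0), ([1, 3, 6], [6, 1, 3, 1], [], 0), ([1, 3, 7], [7, 1,
  3, 1], [], 0), ([1, 4, 5], [4, 5, 4, 1], [], 0), ([1, 4, 6], [6, 4, 1], [6, 5, 4, 3, 1, 2, 0,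
  3, 2, 4, 3, 1, 5, 4, 3, 2, 0, 6, 5, 4, 3, 1, 2, 3, 4, 5, 6, 7, 6, 5, 4, 3, 1, 2, 0, 3, 2, 4, 3,
  5], 2), ([1, 4, 7], [7, 4, 1], [6, 5, 4, 3, 1, 2, 0, 3, 2, 4, 3, 1, 5, 4, 3, 2, 0, 6, 5, 4, 3,
  1, 2, 3, 4, 5, 7, 6, 5, 4, 3, 1, 2, 0, 3, 2, 4, 3, 5, 6], 2), ([1, 5, 6], [5, 6, 5, 1], [], 0),
  ([1, 5, 7], [7, 5, 1], [6, 5, 4, 3, 1, 2, 0, 3, 2, 4, 3, 1, 5, 4, 3, 2, 0, 6, 5, 4, 3, 1, 2, 3,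
  4, 7, 6, 5, 4, 3, 1, 2, 0, 3, 2, 4, 3, 5, 4, 6], 2), ([1, 6, 7], [6, 7, 6, 1], [], 0), ([2, 3,
  4], [2, 3, 4, 2, 3, 2], [], 0), ([2, 3, 5], [5, 2, 3, 2], [], 0), ([2, 3, 6], [6, 2, 3, 2], [],
  0), ([2, 3, 7], [7, 2, 3, 2], [], 0), ([2, 4, 5], [4, 5, 4, 2], [], 0), ([2, 4, 6], [6, 4, 2],
  [6, 5, 4, 3, 1, 2, 0, 3, 2, 4, 3, 1, 5, 4, 3, 2, 6, 5, 4, 3, 1, 7, 6, 5, 4, 3, 1, 2, 0, 3, 2,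
  4, 3, 1, 5, 4, 3, 6, 5, 7], 2), ([2, 4, 7], [7, 4, 2], [6, 5, 4, 3, 1, 2, 0, 3, 2, 4, 3, 1, 5,
  4, 3, 2, 0, 6, 5, 4, 3, 1, 7, 6, 5, 4, 3, 1, 2, 0, 3, 2, 4, 3, 1, 5, 4, 3, 6, 5], 2), ([2, 5,
  6], [5, 6, 5, 2], [], 0), ([2, 5, 7], [7, 5, 2], [6, 5, 4, 3, 1, 2, 0, 3, 2, 4, 3, 1, 5, 4, 3,
  2, 0, 6, 5, 4, 3, 1, 2, 7, 6, 5, 4, 3, 1, 2, 0, 3, 2, 4, 3, 1, 5, 4, 3, 6], 2), ([2, 6, 7], [6,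
  7, 6, 2], [], 0), ([3, 4, 5], [3, 4, 5, 3, 4, 3], [], 0), ([3, 4, 6], [6, 3, 4, 3], [], 0),
  ([3, 4, 7], [7, 3, 4, 3], [], 0), ([3, 5, 6], [5, 6, 5, 3], [], 0), ([3, 5, 7], [7, 5, 3], [6,
  5, 4, 3, 1, 2, 0, 3, 2, 4, 3, 1, 5, 4, 3, 2, 0, 6, 5, 4, 3, 1, 2, 3, 7, 6, 5, 4, 3, 1, 2, 0, 3,
  2, 4, 3, 1, 5, 4, 6], 2), ([3, 6, 7], [6, 7, 6, 3], [], 0), ([4, 5, 6], [4, 5, 6, 4, 5, 4], [],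
  0), ([4, 5, 7], [7, 4, 5, 4], [], 0), ([4, 6, 7], [6, 7, 6, 4], [], 0), ([5, 6, 7], [5, 6, 7,
  5, 6, 5], [], 0), ([0, 1, 2, 3], [2, 3, 0, 2, 1, 3, 0, 2, 1, 0], [], 0), ([0, 1, 2, 4], [4, 0,
  2, 1, 0], [], 0), ([0, 1, 2, 5], [5, 0, 2, 1, 0], [], 0), ([0, 1, 2, 6], [6, 0, 2, 1, 0], [],
  0), ([0, 1, 2, 7], [7, 0, 2, 1, 0], [], 0), ([0, 1, 3, 4], [1, 3, 4, 1, 3, 1, 0], [], 0), ([0,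
  1, 3, 5], [5, 1, 3, 1, 0], [], 0), ([0, 1, 3, 6], [6, 1, 3, 1, 0], [], 0), ([0, 1, 3, 7], [7,
  1, 3, 1, 0], [], 0), ([0, 1, 4, 5], [4, 5, 4, 1, 0], [], 0), ([0, 1, 4, 6], [6, 4, 1, 0], [0,
  1, 2, 0, 3, 1, 2, 0, 3, 4, 3, 1, 2, 3, 4, 5, 4, 3, 2, 6, 5, 4, 3, 1, 2, 0, 3, 4, 5, 6, 7, 6, 5,
  4, 3, 1, 2, 0, 3, 2, 4, 3, 1, 5, 4, 3, 2, 6, 5, 4, 3, 7, 6, 5], 4), ([0, 1, 4, 7], [7, 4, 1,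
  0], [0, 1, 2, 0, 3, 1, 2, 0, 3, 4, 3, 1, 2, 3, 4, 5, 4, 3, 1, 2, 6, 5, 4, 3, 1, 2, 3, 4, 5, 6,
  7, 6, 5, 4, 3, 1, 2, 0, 3, 2, 4, 3, 1, 5, 4, 3, 2, 6, 5, 4, 3, 7, 6, 5], 4), ([0, 1, 5, 6], [5,
  6, 5, 1, 0], [], 0), ([0, 1, 5, 7], [7, 5, 1, 0], [0, 1, 2, 0, 3, 1, 2, 0, 3, 4, 3, 1, 2, 3, 4,
  5, 4, 3, 1, 2, 3, 6, 5, 4, 3, 1, 2, 3, 4, 5, 6, 7, 6, 5, 4, 3, 1, 2, 0, 3, 2, 4, 3, 1, 5, 4, 3,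
  2, 6, 5, 4, 3, 7, 6], 4), ([0, 1, 6, 7], [6, 7, 6, 1, 0], [], 0), ([0, 2, 3, 4], [0, 2, 3, 4,
  0, 2, 3, 0, 2, 0], [], 0), ([0, 2, 3, 5], [5, 0, 2, 3, 0, 2, 0], [], 0), ([0, 2, 3, 6], [6, 0,
  2, 3, 0, 2, 0], [], 0), ([0, 2, 3, 7], [7, 0, 2, 3, 0, 2, 0], [], 0), ([0, 2, 4, 5], [4, 5, 4,
  0, 2, 0], [], 0), ([0, 2, 4, 6], [6, 4, 0, 2, 0], [], 0), ([0, 2, 4, 7], [7, 4, 0, 2, 0], [],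
  0), ([0, 2, 5, 6], [5, 6, 5, 0, 2, 0], [], 0), ([0, 2, 5, 7], [7, 5, 0, 2, 0], [], 0), ([0, 2,
  6, 7], [6, 7, 6, 0, 2, 0], [], 0), ([0, 3, 4, 5], [3, 4, 5, 3, 4, 3, 0], [], 0), ([0, 3, 4, 6],
  [6, 3, 4, 3, 0], [], 0), ([0, 3, 4, 7], [7, 3, 4, 3, 0], [], 0), ([0, 3, 5, 6], [5, 6, 5, 3,
  0], [], 0), ([0, 3, 5, 7], [7, 5, 3, 0], [0, 1, 2, 0, 3, 1, 2, 0, 3, 4, 3, 1, 2, 3, 4, 5, 4, 3,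
  1, 2, 3, 4, 6, 5, 4, 3, 1, 2, 3, 4, 5, 6, 7, 6, 5, 4, 3, 1, 2, 0, 3, 2, 4, 3, 1, 5, 4, 3, 2, 6,
  5, 4, 7, 6], 4), ([0, 3, 6, 7], [6, 7, 6, 3, 0], [], 0), ([0, 4, 5, 6], [4, 5, 6, 4, 5, 4, 0],
  [], 0), ([0, 4, 5, 7], [7, 4, 5, 4, 0], [], 0), ([0, 4, 6, 7], [6, 7, 6, 4, 0], [], 0), ([0, 5,
  6, 7], [5, 6, 7, 5, 6, 5, 0], [], 0), ([1, 2, 3, 4], [4, 3, 2, 1, 3, 4, 3, 2, 1, 3, 2, 1], [2,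
  4, 6, 5, 4, 3, 1, 2, 0, 3, 2, 4, 3, 1, 5, 4, 6, 7, 6, 5, 4, 3, 1, 2, 0, 3, 2, 4, 3, 1, 5, 4, 3,
  2, 0, 6, 5, 4, 3, 7, 6, 5], 3), ([1, 2, 3, 5], [5, 3, 2, 1, 3, 2, 1], [], 0), ([1, 2, 3, 6],
  [6, 3, 2, 1, 3, 2, 1], [], 0), ([1, 2, 3, 7], [7, 3, 2, 1, 3, 2, 1], [], 0), ([1, 2, 4, 5], [4,
  5, 4, 2, 1], [], 0), ([1, 2, 4, 6], [6, 4, 2, 1], [0, 1, 2, 0, 3, 1, 2, 0, 3, 4, 3, 1, 2, 3, 5,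
  4, 3, 2, 6, 5, 4, 3, 1, 2, 0, 3, 4, 5, 6, 7, 6, 5, 4, 3, 1, 2, 0, 3, 2, 4, 3, 1, 5, 4, 3, 2, 0,
  6, 5, 4, 3, 7, 6, 5], 4), ([1, 2, 4, 7], [7, 4, 2, 1], [0, 1, 2, 0, 3, 1, 2, 0, 3, 4, 3, 1, 2,
  3, 5, 4, 3, 1, 2, 6, 5, 4, 3, 1, 2, 3, 4, 5, 6, 7, 6, 5, 4, 3, 1, 2, 0, 3, 2, 4, 3, 1, 5, 4, 3,
  2, 0, 6, 5, 4, 3, 7, 6, 5], 4), ([1, 2, 5, 6], [5, 6, 5, 2, 1], [], 0), ([1, 2, 5, 7], [7, 5,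
  2, 1], [0, 1, 2, 0, 3, 1, 2, 0, 3, 4, 3, 1, 2, 3, 5, 4, 3, 1, 2, 3, 6, 5, 4, 3, 1, 2, 3, 4, 5,
  6, 7, 6, 5, 4, 3, 1, 2, 0, 3, 2, 4, 3, 1, 5, 4, 3, 2, 0, 6, 5, 4, 3, 7, 6], 4), ([1, 2, 6, 7],
  [6, 7, 6, 2, 1], [], 0), ([1, 3, 4, 5], [1, 3, 4, 5, 1, 3, 4, 1, 3, 1], [], 0), ([1, 3, 4, 6],
  [6, 1, 3, 4, 1, 3, 1], [], 0), ([1, 3, 4, 7], [7, 1, 3, 4, 1, 3, 1], [], 0), ([1, 3, 5, 6], [5,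
  6, 5, 1, 3, 1], [], 0), ([1, 3, 5, 7], [7, 5, 1, 3, 1], [], 0), ([1, 3, 6, 7], [6, 7, 6, 1, 3,
  1], [], 0), ([1, 4, 5, 6], [4, 5, 6, 4, 5, 4, 1], [], 0), ([1, 4, 5, 7], [7, 4, 5, 4, 1], [],
  0), ([1, 4, 6, 7], [6, 7, 6, 4, 1], [], 0), ([1, 5, 6, 7], [5, 6, 7, 5, 6, 5, 1], [], 0), ([2,
  3, 4, 5], [2, 3, 4, 5, 2, 3, 4, 2, 3, 2], [], 0), ([2, 3, 4, 6], [6, 2, 3, 4, 2, 3, 2], [], 0),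
  ([2, 3, 4, 7], [7, 2, 3, 4, 2, 3, 2], [], 0), ([2, 3, 5, 6], [5, 6, 5, 2, 3, 2], [], 0), ([2,
  3, 5, 7], [7, 5, 2, 3, 2], [], 0), ([2, 3, 6, 7], [6, 7, 6, 2, 3, 2], [], 0), ([2, 4, 5, 6],
  [4, 5, 6, 4, 5, 4, 2], [], 0), ([2, 4, 5, 7], [7, 4, 5, 4, 2], [], 0), ([2, 4, 6, 7], [6, 7, 6,
  4, 2], [], 0), ([2, 5, 6, 7], [5, 6, 7, 5, 6, 5, 2], [], 0), ([3, 4, 5, 6], [3, 4, 5, 6, 3, 4,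
  5, 3, 4, 3], [], 0), ([3, 4, 5, 7], [7, 3, 4, 5, 3, 4, 3], [], 0), ([3, 4, 6, 7], [6, 7, 6, 3,
  4, 3], [], 0), ([3, 5, 6, 7], [5, 6, 7, 5, 6, 5, 3], [], 0), ([4, 5, 6, 7], [4, 5, 6, 7, 4, 5,
  6, 4, 5, 4], [], 0), ([0, 1, 2, 3, 4], [1, 3, 4, 2, 3, 0, 2, 1, 3, 4, 2, 3, 0, 2, 1, 3, 0, 2,
  1, 0], [], 0), ([0, 1, 2, 3, 5], [5, 2, 3, 0, 2, 1, 3, 0, 2, 1, 0], [], 0), ([0, 1, 2, 3, 6],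
  [6, 2, 3, 0, 2, 1, 3, 0, 2, 1, 0], [], 0), ([0, 1, 2, 3, 7], [7, 2, 3, 0, 2, 1, 3, 0, 2, 1, 0],
  [], 0), ([0, 1, 2, 4, 5], [4, 5, 4, 0, 2, 1, 0], [], 0), ([0, 1, 2, 4, 6], [6, 4, 0, 2, 1, 0],
  [], 0), ([0, 1, 2, 4, 7], [7, 4, 0, 2, 1, 0], [], 0), ([0, 1, 2, 5, 6], [5, 6, 5, 0, 2, 1, 0],
  [], 0), ([0, 1, 2, 5, 7], [7, 5, 0, 2, 1, 0], [], 0), ([0, 1, 2, 6, 7], [6, 7, 6, 0, 2, 1, 0],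
  [], 0), ([0, 1, 3, 4, 5], [1, 3, 4, 5, 1, 3, 4, 1, 3, 1, 0], [], 0), ([0, 1, 3, 4, 6], [6, 1,
  3, 4, 1, 3, 1, 0], [], 0), ([0, 1, 3, 4, 7], [7, 1, 3, 4, 1, 3, 1, 0], [], 0), ([0, 1, 3, 5,
  6], [5, 6, 5, 1, 3, 1, 0], [], 0), ([0, 1, 3, 5, 7], [7, 5, 1, 3, 1, 0], [], 0), ([0, 1, 3, 6,
  7], [6, 7, 6, 1, 3, 1, 0], [], 0), ([0, 1, 4, 5, 6], [4, 5, 6, 4, 5, 4, 1, 0], [], 0), ([0, 1,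
  4, 5, 7], [7, 4, 5, 4, 1, 0], [], 0), ([0, 1, 4, 6, 7], [6, 7, 6, 4, 1, 0], [], 0), ([0, 1, 5,
  6, 7], [5, 6, 7, 5, 6, 5, 1, 0], [], 0), ([0, 2, 3, 4, 5], [0, 2, 3, 4, 5, 0, 2, 3, 4, 0, 2, 3,
  0, 2, 0], [], 0), ([0, 2, 3, 4, 6], [6, 0, 2, 3, 4, 0, 2, 3, 0, 2, 0], [], 0), ([0, 2, 3, 4,
  7], [7, 0, 2, 3, 4, 0, 2, 3, 0, 2, 0], [], 0), ([0, 2, 3, 5, 6], [5, 6, 5, 0, 2, 3, 0, 2, 0],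
  [], 0), ([0, 2, 3, 5, 7], [7, 5, 0, 2, 3, 0, 2, 0], [], 0), ([0, 2, 3, 6, 7], [6, 7, 6, 0, 2,
  3, 0, 2, 0], [], 0), ([0, 2, 4, 5, 6], [4, 5, 6, 4, 5, 4, 0, 2, 0], [], 0), ([0, 2, 4, 5, 7],
  [7, 4, 5, 4, 0, 2, 0], [], 0), ([0, 2, 4, 6, 7], [6, 7, 6, 4, 0, 2, 0], [], 0), ([0, 2, 5, 6,
  7], [5, 6, 7, 5, 6, 5, 0, 2, 0], [], 0), ([0, 3, 4, 5, 6], [3, 4, 5, 6, 3, 4, 5, 3, 4, 3, 0],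
  [], 0), ([0, 3, 4, 5, 7], [7, 3, 4, 5, 3, 4, 3, 0], [], 0), ([0, 3, 4, 6, 7], [6, 7, 6, 3, 4,
  3, 0], [], 0), ([0, 3, 5, 6, 7], [5, 6, 7, 5, 6, 5, 3, 0], [], 0), ([0, 4, 5, 6, 7], [4, 5, 6,
  7, 4, 5, 6, 4, 5, 4, 0], [], 0), ([1, 2, 3, 4, 5], [5, 4, 3, 2, 1, 3, 4, 5, 4, 3, 2, 1, 3, 4,
  3, 2, 1, 3, 2, 1], [], 0), ([1, 2, 3, 4, 6], [6, 4, 3, 2, 1, 3, 4, 3, 2, 1, 3, 2, 1], [0, 1, 2,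
  0, 3, 1, 2, 0, 3, 2, 4, 3, 1, 5, 4, 3, 1, 2, 3, 4, 6, 5, 4, 3, 1, 2, 0, 3, 4, 5, 6, 7, 6, 5, 4,
  3, 1, 2, 0, 3, 2, 4, 3, 1, 5, 4, 3, 2, 0, 6, 5, 4, 3, 7, 6, 5], 5), ([1, 2, 3, 4, 7], [7, 4, 3,
  2, 1, 3, 4, 3, 2, 1, 3, 2, 1], [0, 1, 2, 0, 3, 1, 2, 0, 3, 2, 4, 3, 1, 2, 5, 4, 3, 1, 2, 3, 4,
  6, 5, 4, 3, 1, 2, 3, 4, 5, 6, 7, 6, 5, 4, 3, 1, 2, 0, 3, 2, 4, 3, 1, 5, 4, 3, 2, 0, 6, 5, 4, 3,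
  7, 6, 5], 5), ([1, 2, 3, 5, 6], [5, 6, 5, 3, 2, 1, 3, 2, 1], [], 0), ([1, 2, 3, 5, 7], [7, 5,
  3, 2, 1, 3, 2, 1], [], 0), ([1, 2, 3, 6, 7], [6, 7, 6, 3, 2, 1, 3, 2, 1], [], 0), ([1, 2, 4, 5,
  6], [4, 5, 6, 4, 5, 4, 2, 1], [], 0), ([1, 2, 4, 5, 7], [7, 4, 5, 4, 2, 1], [], 0), ([1, 2, 4,
  6, 7], [6, 7, 6, 4, 2, 1], [], 0), ([1, 2, 5, 6, 7], [5, 6, 7, 5, 6, 5, 2, 1], [], 0), ([1, 3,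
  4, 5, 6], [1, 3, 4, 5, 6, 1, 3, 4, 5, 1, 3, 4, 1, 3, 1], [], 0), ([1, 3, 4, 5, 7], [7, 1, 3, 4,
  5, 1, 3, 4, 1, 3, 1], [], 0), ([1, 3, 4, 6, 7], [6, 7, 6, 1, 3, 4, 1, 3, 1], [], 0), ([1, 3, 5,
  6, 7], [5, 6, 7, 5, 6, 5, 1, 3, 1], [], 0), ([1, 4, 5, 6, 7], [4, 5, 6, 7, 4, 5, 6, 4, 5, 4,
  1], [], 0), ([2, 3, 4, 5, 6], [2, 3, 4, 5, 6, 2, 3, 4, 5, 2, 3, 4, 2, 3, 2], [], 0), ([2, 3, 4,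
  5, 7], [7, 2, 3, 4, 5, 2, 3, 4, 2, 3, 2], [], 0), ([2, 3, 4, 6, 7], [6, 7, 6, 2, 3, 4, 2, 3,
  2], [], 0), ([2, 3, 5, 6, 7], [5, 6, 7, 5, 6, 5, 2, 3, 2], [], 0), ([2, 4, 5, 6, 7], [4, 5, 6,
  7, 4, 5, 6, 4, 5, 4, 2], [], 0), ([3, 4, 5, 6, 7], [3, 4, 5, 6, 7, 3, 4, 5, 6, 3, 4, 5, 3, 4,
  3], [], 0), ([0, 1, 2, 3, 4, 5], [0, 2, 3, 4, 5, 1, 3, 4, 2, 3, 0, 2, 1, 3, 4, 5, 1, 3, 4, 2,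
  3, 0, 2, 1, 3, 4, 2, 3, 0, 2, 1, 3, 0, 2, 1, 0], [], 0), ([0, 1, 2, 3, 4, 6], [6, 1, 3, 4, 2,
  3, 0, 2, 1, 3, 4, 2, 3, 0, 2, 1, 3, 0, 2, 1, 0], [], 0), ([0, 1, 2, 3, 4, 7], [7, 1, 3, 4, 2,
  3, 0, 2, 1, 3, 4, 2, 3, 0, 2, 1, 3, 0, 2, 1, 0], [], 0), ([0, 1, 2, 3, 5, 6], [5, 6, 5, 2, 3,
  0, 2, 1, 3, 0, 2, 1, 0], [], 0), ([0, 1, 2, 3, 5, 7], [7, 5, 2, 3, 0, 2, 1, 3, 0, 2, 1, 0], [],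
  0), ([0, 1, 2, 3, 6, 7], [6, 7, 6, 2, 3, 0, 2, 1, 3, 0, 2, 1, 0], [], 0), ([0, 1, 2, 4, 5, 6],
  [4, 5, 6, 4, 5, 4, 0, 2, 1, 0], [], 0), ([0, 1, 2, 4, 5, 7], [7, 4, 5, 4, 0, 2, 1, 0], [], 0),
  ([0, 1, 2, 4, 6, 7], [6, 7, 6, 4, 0, 2, 1, 0], [], 0), ([0, 1, 2, 5, 6, 7], [5, 6, 7, 5, 6, 5,
  0, 2, 1, 0], [], 0), ([0, 1, 3, 4, 5, 6], [1, 3, 4, 5, 6, 1, 3, 4, 5, 1, 3, 4, 1, 3, 1, 0], [],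
  0), ([0, 1, 3, 4, 5, 7], [7, 1, 3, 4, 5, 1, 3, 4, 1, 3, 1, 0], [], 0), ([0, 1, 3, 4, 6, 7], [6,
  7, 6, 1, 3, 4, 1, 3, 1, 0], [], 0), ([0, 1, 3, 5, 6, 7], [5, 6, 7, 5, 6, 5, 1, 3, 1, 0], [],
  0), ([0, 1, 4, 5, 6, 7], [4, 5, 6, 7, 4, 5, 6, 4, 5, 4, 1, 0], [], 0), ([0, 2, 3, 4, 5, 6], [0,
  2, 3, 4, 5, 6, 0, 2, 3, 4, 5, 0, 2, 3, 4, 0, 2, 3, 0, 2, 0], [], 0), ([0, 2, 3, 4, 5, 7], [7,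
  0, 2, 3, 4, 5, 0, 2, 3, 4, 0, 2, 3, 0, 2, 0], [], 0), ([0, 2, 3, 4, 6, 7], [6, 7, 6, 0, 2, 3,
  4, 0, 2, 3, 0, 2, 0], [], 0), ([0, 2, 3, 5, 6, 7], [5, 6, 7, 5, 6, 5, 0, 2, 3, 0, 2, 0], [],
  0), ([0, 2, 4, 5, 6, 7], [4, 5, 6, 7, 4, 5, 6, 4, 5, 4, 0, 2, 0], [], 0), ([0, 3, 4, 5, 6, 7],
  [3, 4, 5, 6, 7, 3, 4, 5, 6, 3, 4, 5, 3, 4, 3, 0], [], 0), ([1, 2, 3, 4, 5, 6], [6, 5, 4, 3, 2,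
  1, 3, 4, 5, 6, 5, 4, 3, 2, 1, 3, 4, 5, 4, 3, 2, 1, 3, 4, 3, 2, 1, 3, 2, 1], [0, 1, 2, 0, 3, 1,
  2, 0, 3, 2, 4, 3, 1, 5, 4, 3, 1, 2, 3, 4, 6, 5, 4, 3, 1, 2, 0, 3, 4, 5, 6, 7, 6, 5, 4, 3, 1, 2,
  0, 3, 2, 4, 3, 1, 5, 4, 3, 2, 0, 6, 5, 4, 3, 7, 6, 5], 6), ([1, 2, 3, 4, 5, 7], [7, 5, 4, 3, 2,
  1, 3, 4, 5, 4, 3, 2, 1, 3, 4, 3, 2, 1, 3, 2, 1], [], 0), ([1, 2, 3, 4, 6, 7], [6, 7, 6, 4, 3,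
  2, 1, 3, 4, 3, 2, 1, 3, 2, 1], [], 0), ([1, 2, 3, 5, 6, 7], [5, 6, 7, 5, 6, 5, 3, 2, 1, 3, 2,
  1], [], 0), ([1, 2, 4, 5, 6, 7], [4, 5, 6, 7, 4, 5, 6, 4, 5, 4, 2, 1], [], 0), ([1, 3, 4, 5, 6,
  7], [1, 3, 4, 5, 6, 7, 1, 3, 4, 5, 6, 1, 3, 4, 5, 1, 3, 4, 1, 3, 1], [], 0), ([2, 3, 4, 5, 6,
  7], [2, 3, 4, 5, 6, 7, 2, 3, 4, 5, 6, 2, 3, 4, 5, 2, 3, 4, 2, 3, 2], [], 0), ([0, 1, 2, 3, 4,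
  5, 6], [6, 5, 4, 3, 2, 1, 3, 4, 5, 6, 0, 2, 3, 4, 5, 1, 3, 4, 2, 3, 0, 2, 1, 3, 4, 5, 6, 0, 2,
  3, 4, 5, 1, 3, 4, 2, 3, 0, 2, 1, 3, 4, 5, 1, 3, 4, 2, 3, 0, 2, 1, 3, 4, 2, 3, 0, 2, 1, 3, 0, 2,
  1, 0], [0, 1, 2, 0, 3, 1, 2, 0, 3, 2, 4, 3, 1, 5, 4, 3, 1, 2, 3, 4, 6, 5, 4, 3, 1, 2, 0, 3, 4,
  5, 6, 7, 6, 5, 4, 3, 1, 2, 0, 3, 2, 4, 3, 1, 5, 4, 3, 2, 0, 6, 5, 4, 3, 7, 6, 5], 7), ([0, 1,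
  2, 3, 4, 5, 7], [7, 0, 2, 3, 4, 5, 1, 3, 4, 2, 3, 0, 2, 1, 3, 4, 5, 1, 3, 4, 2, 3, 0, 2, 1, 3,
  4, 2, 3, 0, 2, 1, 3, 0, 2, 1, 0], [], 0), ([0, 1, 2, 3, 4, 6, 7], [6, 7, 6, 1, 3, 4, 2, 3, 0,
  2, 1, 3, 4, 2, 3, 0, 2, 1, 3, 0, 2, 1, 0], [], 0), ([0, 1, 2, 3, 5, 6, 7], [5, 6, 7, 5, 6, 5,
  2, 3, 0, 2, 1, 3, 0, 2, 1, 0], [], 0), ([0, 1, 2, 4, 5, 6, 7], [4, 5, 6, 7, 4, 5, 6, 4, 5, 4,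
  0, 2, 1, 0], [], 0), ([0, 1, 3, 4, 5, 6, 7], [1, 3, 4, 5, 6, 7, 1, 3, 4, 5, 6, 1, 3, 4, 5, 1,
  3, 4, 1, 3, 1, 0], [], 0), ([0, 2, 3, 4, 5, 6, 7], [0, 2, 3, 4, 5, 6, 7, 0, 2, 3, 4, 5, 6, 0,
  2, 3, 4, 5, 0, 2, 3, 4, 0, 2, 3, 0, 2, 0], [], 0), ([1, 2, 3, 4, 5, 6, 7], [7, 6, 5, 4, 3, 2,
  1, 3, 4, 5, 6, 7, 6, 5, 4, 3, 2, 1, 3, 4, 5, 6, 5, 4, 3, 2, 1, 3, 4, 5, 4, 3, 2, 1, 3, 4, 3, 2,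
  1, 3, 2, 1], [], 0), ([0, 1, 2, 3, 4, 5, 6, 7], [7, 6, 5, 4, 3, 2, 1, 3, 4, 5, 6, 0, 2, 3, 4,
  5, 1, 3, 4, 2, 3, 0, 2, 1, 3, 4, 5, 6, 7, 6, 5, 4, 3, 2, 1, 3, 4, 5, 6, 0, 2, 3, 4, 5, 1, 3, 4,
  2, 3, 0, 2, 1, 3, 4, 5, 6, 7, 6, 5, 4, 3, 2, 1, 3, 4, 5, 6, 0, 2, 3, 4, 5, 1, 3, 4, 2, 3, 0, 2,
  1, 3, 4, 5, 6, 0, 2, 3, 4, 5, 1, 3, 4, 2, 3, 0, 2, 1, 3, 4, 5, 1, 3, 4, 2, 3, 0, 2, 1, 3, 4, 2,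
  3, 0, 2, 1, 3, 0, 2, 1, 0], [0, 1, 2, 0, 3, 1, 2, 0, 3, 4, 3, 1, 2, 3, 5, 4, 3, 1, 2, 3, 4, 6,
  5, 4, 3, 1, 2, 3, 4, 5, 6, 7, 6, 5, 4, 3, 1, 2, 0, 3, 2, 4, 3, 1, 5, 4, 3, 2, 0, 6, 5, 4, 7,
  6], 8)]

theorem invRepsE8_eq_1' : type_of% @invRepsE8.eq_1 := @invRepsE8.eq_1
theorem invRanksE8_eq_1' : type_of% @invRanksE8.eq_1 := @invRanksE8.eq_1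
theorem invClsE8_eq_1' : type_of% @invClsE8.eq_1 := @invClsE8.eq_1
theorem invCertE8_eq_1' : type_of% @invCertE8.eq_1 := @invCertE8.eq_1

theorem invRepsE8_ok : ∀ b ∈ invRepsE8, repChk certE8.T id b = true := by decide +kernel

theorem invRanksE8_ok : ∀ p ∈ invRepsE8.zip invRanksE8,
    rankChk certE8.T p.1 (p.2 + 1) = true := by decide +kernel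

theorem invClsE8_ok : ∀ e ∈ invClsE8,
    classChk certE8.T certE8.wt id invRepsE8 e.1 e.2.1 e.2.2 = true := by decide +kernel

theorem invCertE8_ok :
    wChk cartanE8 id (fun i => [i]) (invClsE8.map fun e => wWord e.1) invCertE8 = true := by
  decide +kernel

variable {F : Type*} [Field F] [CharP F 2]

theorem invRepsE8_spec : ∀ b ∈ invRepsE8.map (w1 F chevE8), b ∈ chevE8.group F ∧ orderOf b = 2 :=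
  certE8.reps_spec rootE8 rfl invRepsE8_ok invRanksE8_ok

theorem exists_conj_invRepsE8 [Finite F] : ∀ g ∈ chevE8.group F, orderOf g = 2 →
    ∃ z ∈ chevE8.group F, ∃ b ∈ invRepsE8.map (w1 F chevE8), z * g * z⁻¹ = b := fun _ hg ho => by
  obtain ⟨z, hz, b, hb, e⟩ := certE8.exists_conj_rep_triv rootE8 (hasC_E8 rootE8) invRepsE8_ok
    invClsE8_ok invCertE8_ok hg ho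
  exact ⟨z, hz, _, List.mem_map_of_mem hb, e⟩

end Cfsg.Lib.Chev.Core
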