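import Cfsg.Agent.Chev.InvTw
import Cfsg.Agent.Chev.TwistD4

/-!
# The classes of involutions of ³D₄ in characteristic two
-/

set_option autoImplicit false

open Cfsg.Lie Cfsg.Lib.Chev.Core

namespace Cfsg.Lib.Chev

/-- The representatives. -/
def twRepsD4 : List (List ℕ) := [[23], [17, 20, 21]]

/-- The classes of involutions of the twisted Weyl group. -/
def twClsD4 : List (List (List (Fin 4) × Fin 4) × List (List ℕ) × ℕ) :=
  [([([0, 2, 3, 1], 0), ([0, 2, 3, 1], 2), ([0, 2, 3, 1], 3)], [[6, 3, 2]], 1), ([([1, 0, 2, 3],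
  1)], [[0]], 0), ([([], 1), ([0, 2, 1, 3, 1, 0, 2], 0), ([0, 2, 1, 3, 1, 0, 2], 2), ([0, 2, 1,
  3, 1, 0, 2], 3)], [[6, 3, 2], [17, 20, 21], [19, 16, 15], [0], [9], [17, 20, 21]], 1)]

/-- The reduction of the longest elements. -/
def twCertD4 : List (List (Fin 4) × List (Fin 4) × List (Fin 4) × ℕ) :=
  [([0, 2, 3], [3, 2, 0], [0, 2, 3, 1], 0), ([1], [1], [1, 0, 2, 3], 1), ([0, 1, 2, 3], [3, 1, 2,
  0, 1, 3, 0, 1, 2, 0, 1, 0], [0, 1, 2, 1, 0, 3, 1, 0, 2, 1, 3], 2)]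

theorem twRepsD4_eq_1' : type_of% @twRepsD4.eq_1 := @twRepsD4.eq_1
theorem twClsD4_eq_1' : type_of% @twClsD4.eq_1 := @twClsD4.eq_1
theorem twCertD4_eq_1' : type_of% @twCertD4.eq_1 := @twCertD4.eq_1

theorem twRepsD4_ok : ∀ b ∈ twRepsD4, repChk Core.certD4.T gD4a.σ b = true := by decide +kernel

theorem twRanksD4_ok : ∀ p ∈ twRepsD4.zip [9, 11],
    rankChk Core.certD4.T p.1 (p.2 + 1) = true := by decide +kernel

theorem twClsD4_ok : ∀ e ∈ twClsD4,
    classChk Core.certD4.T Core.certD4.wt gD4a.σ twRepsD4 e.1 e.2.1 e.2.2 = true := by decide +kernel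

theorem twCertD4_ok :
    wChk cartanD4 piD4 orbD4 (twClsD4.map fun e => wWord e.1) twCertD4 = true := by
  decide +kernel

theorem symHypD4 : SymHyp rootD4 gD4a.σ orbD4 :=
  @of_decide_eq_true _ (instDecidableSymHyp _ _ _) (by decide +kernel)

variable {K : Type*} [Field K] [CharP K 2] (f : K →+* K) (hf : ∀ t, f (f (f t)) = t)

theorem ncard_invol_twD4 [Finite K] :
    (ConjClasses.mk '' {g : (twD4 f hf).G1 | orderOf g = 2}).ncard = 2 := by
  have hρ : ∀ r < chevD4.nroots, (subD4 f).S.ρ r = gD4a.σ r := fun _ => gD4a.sym_ρ rootD4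
  exact ncard_invol_classes _ (twRepsD4.map (w1 K _))
    (Core.certD4.reps_spec_twist _ _ hρ rfl twRepsD4_ok twRanksD4_ok)
    (Core.certD4.exists_conj_twist _ _ (Core.certD4.invHyp_twist _ _ hρ (subD4_orb f) symHypD4
      fun r hr _ h1 h2 => absurd ((by decide +kernel : ∀ r < chevD4.nroots,
        gD4a.σ (gD4a.σ r) = r → gD4a.σ r = r) r hr h1) h2) hρ (hasC_D4 rootD4) (subD4_π f)
      (subD4_orb f) twRepsD4_ok twClsD4_ok twCertD4_ok)
    (Core.certD4.pairwise_of_rank rootD4 rfl twRanksD4_ok (by decide) _)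

end Cfsg.Lib.Chev
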