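import Cfsg.Agent.Chev.InvTw
import Cfsg.Agent.Chev.TwistE6

/-!
# The classes of involutions of ²E₆ in characteristic two
-/

set_option autoImplicit false

open Cfsg.Lie Cfsg.Lib.Chev.Core

namespace Cfsg.Lib.Chev

/-- The representatives. -/
def twRepsE6 : List (List ℕ) := [[71], [68, 66], [71, 68, 66], [64, 54, 69]]

/-- The classes of involutions of the twisted Weyl group. -/
def twClsE6 : List (List (List (Fin 6) × Fin 6) × List (List ℕ) × ℕ) :=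
  [([([1, 3, 2, 0, 4, 3, 2, 5, 4, 3], 1)], [[0]], 0), ([([0, 2, 3, 4, 5, 4, 3, 1, 2, 0, 3], 2),
  ([0, 2, 3, 4, 5, 4, 3, 1, 2, 0, 3], 4)], [[3, 5]], 1), ([([0, 2, 5, 4, 3], 3), ([1, 3, 2, 0, 4,
  3, 2, 5, 4, 3, 1], 1)], [[3, 5], [68, 66], [21, 23], [60], [71]], 2), ([([2, 0, 4, 3, 2, 5, 4,
  3], 1), ([3, 1, 2, 0, 4, 3, 5], 2), ([3, 1, 2, 0, 4, 3, 5], 4)], [[2], [7, 17]], 3), ([([2, 0,
  4, 3, 2, 5, 4, 3, 1], 1), ([0, 3, 2, 5, 4, 3, 1], 1), ([3, 2, 4, 3, 1], 1)], [[3, 5], [68, 66],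
  [64, 54], [18], [53], [42, 37], [14, 33], [69], [65], [53]], 3), ([([3, 1], 1), ([1, 2, 0, 4,
  3, 2, 5, 4], 2), ([1, 2, 0, 4, 3, 2, 5, 4], 4), ([3, 2, 0, 4, 3, 2, 5, 4, 3, 1], 1)], [[0],
  [71], [32], [12, 26], [2], [47], [62, 52], [70]], 3), ([([2, 0, 4, 3, 2, 5, 4, 3, 1], 1), ([0,
  3, 2, 5, 4, 3, 1], 1), ([3, 2, 4, 3, 1], 1), ([], 1)], [[3, 5], [68, 66], [64, 54], [18], [53],
  [42, 37], [14, 33], [47], [6], [63], [51], [69], [65], [53], [25]], 3)]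

/-- The reduction of the longest elements. -/
def twCertE6 : List (List (Fin 6) × List (Fin 6) × List (Fin 6) × ℕ) :=
  [([0, 5], [5, 0], [0, 2, 3, 1, 5, 4, 3, 1, 2, 3, 4], 1), ([2, 4], [4, 2], [0, 2, 3, 4, 5, 4, 3,
  1, 2, 0, 3], 1), ([3], [3], [1, 3, 2, 0, 4, 3, 1, 2, 5, 4], 0), ([1], [1], [1, 3, 2, 0, 4, 3,
  2, 5, 4, 3], 0), ([0, 2, 4, 5], [4, 5, 4, 0, 2, 0], [], 0), ([0, 3, 5], [5, 3, 0], [2, 3, 2, 0,
  4, 3, 1, 2, 0, 3, 5, 4, 3, 1, 2], 3), ([0, 1, 5], [5, 1, 0], [2, 3, 2, 0, 4, 3, 1, 2, 0, 3, 2,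
  5, 4, 3, 2], 3), ([2, 3, 4], [2, 3, 4, 2, 3, 2], [0, 1, 2, 3, 2, 0, 4, 3, 5, 4, 3, 1, 2, 0, 3,
  2, 4, 3], 2), ([1, 2, 4], [4, 2, 1], [2, 3, 1, 2, 4, 3, 1, 2, 0, 3, 2, 4, 5, 4, 3], 3), ([1,
  3], [1, 3, 1], [], 0), ([0, 2, 3, 4, 5], [0, 2, 3, 4, 5, 0, 2, 3, 4, 0, 2, 3, 0, 2, 0], [3, 2,
  0, 4, 3, 1, 2, 3, 4, 5, 4, 3, 1, 2, 0, 3, 2, 4, 3], 4), ([0, 1, 2, 4, 5], [4, 5, 4, 0, 2, 1,
  0], [], 0), ([0, 1, 3, 5], [5, 1, 3, 1, 0], [], 0), ([1, 2, 3, 4], [4, 3, 2, 1, 3, 4, 3, 2, 1,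
  3, 2, 1], [2, 3, 1, 2, 3, 4, 3, 1, 2, 0, 3, 2, 4, 3, 1, 5, 4, 3, 1, 2, 3, 4], 5), ([0, 1, 2, 3,
  4, 5], [0, 2, 3, 4, 5, 1, 3, 4, 2, 3, 0, 2, 1, 3, 4, 5, 1, 3, 4, 2, 3, 0, 2, 1, 3, 4, 2, 3, 0,
  2, 1, 3, 0, 2, 1, 0], [3, 1, 2, 0, 4, 3, 1, 2, 3, 4, 5, 4, 3, 1, 2, 0, 3, 2, 4, 3, 1], 6)]

theorem twRepsE6_eq_1' : type_of% @twRepsE6.eq_1 := @twRepsE6.eq_1
theorem twClsE6_eq_1' : type_of% @twClsE6.eq_1 := @twClsE6.eq_1
theorem twCertE6_eq_1' : type_of% @twCertE6.eq_1 := @twCertE6.eq_1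

theorem twRepsE6_ok : ∀ b ∈ twRepsE6, repChk Core.certE6.T gE6.σ b = true := by decide +kernel

theorem twRanksE6_ok : ∀ p ∈ twRepsE6.zip [21, 31, 31, 37],
    rankChk Core.certE6.T p.1 (p.2 + 1) = true := by decide +kernel

theorem twClsE6_ok : ∀ e ∈ twClsE6,
    classChk Core.certE6.T Core.certE6.wt gE6.σ twRepsE6 e.1 e.2.1 e.2.2 = true := by decide +kernel

theorem twCertE6_ok :
    wChk cartanE6 piE6 orbE6 (twClsE6.map fun e => wWord e.1) twCertE6 = true := by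
  decide +kernel

theorem symHypE6 : SymHyp rootE6 gE6.σ orbE6 :=
  @of_decide_eq_true _ (instDecidableSymHyp _ _ _) (by decide +kernel)

variable {K : Type*} [Field K] [CharP K 2] (f : K →+* K) (hf : ∀ t, f (f t) = t)

theorem ncard_invol_twE6 [Finite K] (h : ∃ a, f a ≠ a) :
    (ConjClasses.mk '' {g : (twE6 f hf).G1 | orderOf g = 2}).ncard = 3 := by
  obtain ⟨a, ha⟩ := h
  have hρ : ∀ r < chevE6.nroots, (subE6 f).S.ρ r = gE6.σ r := fun _ => gE6.sym_ρ rootE6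
  have h1 := Core.certE6.reps_spec_twist (endE6 f hf) (clE6 f hf _) hρ rfl twRepsE6_ok twRanksE6_ok
  have h2 := Core.certE6.exists_conj_twist (endE6 f hf) (clE6 f hf _) (Core.certE6.invHyp_twist _ _ hρ
    (subE6_orb f) symHypE6 fun r hr _ _ h2 => ⟨(by decide +kernel : ∀ r < chevE6.nroots,
      gE6.σ r ≠ r → commMod chevE6 2 r (gE6.σ r) = true) r hr h2, hf, a, ha, rfl⟩) hρ
    (hasC_E6 rootE6) (subE6_π f) (subE6_orb f) twRepsE6_ok twClsE6_ok twCertE6_ok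
  have hS := (Core.certE6.stRelN K rootE6).toStRel
  obtain ⟨t, ht⟩ : ∃ t, t + f t = 1 := by
    have h7 : a + f a ≠ 0 := fun e => ha (CharTwo.add_eq_zero.1 e).symm
    exact ⟨a / (a + f a), by rw [map_div₀, map_add, hf, add_comm (f a), ← add_div, div_self h7]⟩
  have hc : ∀ r s, (r < chevE6.nroots ∧ s < chevE6.nroots) ∧ commMod chevE6 2 r s = true →
      ∀ t u, Commute (xGL chevE6 K r t) (xGL chevE6 K s u) := fun r s h =>
    hS.commute_of_commMod rootE6 h.1.1 h.1.2 h.2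
  have hσ : ∀ r s, r < chevE6.nroots ∧ gE6.σ r = s → ∀ t,
      (twE6 f hf).σ (xGL chevE6 K r t) = xGL chevE6 K s (f t) := fun r s h t => by
    rw [Core.certE6.twist_σ_x _ _ h.1, hρ r h.1, h.2, subE6_g]
  have hx : ∀ r, r ∈ posL chevE6 → ∀ t, xGL chevE6 K r t ∈ (Core.certE6.Y K rootE6).U :=
    fun r hr t => RGD.X_le_U _ (rootE6.mem_posL.1 hr) (x_mem_xSub _ _ _)
  have hz : xGL chevE6 K 48 t * xGL chevE6 K 50 (f t) ∈ (twE6 f hf).G1 := by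
    have h1 := hx 48 (by decide +kernel) t
    have h2 := hx 50 (by decide +kernel) (f t)
    refine (twE6 f hf).U_inf_le_G1 (Core.certE6.faithful K rootE6)
      ⟨mul_mem h1 h2, RGD.U_le_G0 _ (mul_mem h1 h2), ?_⟩
    rw [(twE6 f hf).map_mul _ (RGD.U_le_G0 _ h1) _ (RGD.U_le_G0 _ h2), hσ 48 50 (by decide +kernel),
      hσ 50 48 (by decide +kernel), hf, (hc 48 50 (by decide +kernel) _ _).eq]
  have e : xGL chevE6 K 48 t * xGL chevE6 K 50 (f t) * w1 K chevE6 [71, 68, 66] *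
      (xGL chevE6 K 48 t * xGL chevE6 K 50 (f t))⁻¹ = w1 K chevE6 [68, 66] := by
    have e1 := fun r (h : r < chevE6.nroots ∧ commMod chevE6 2 r 71 = true ∧
        cocChk chevE6 r 71 [71, 68, 66] = true) => hS.conj_of_cocChk rootE6 h.1 (by decide +kernel)
      h.2.1 (by decide +kernel) h.2.2
    have e2 : Commute (xGL chevE6 K 71 1) (xOne (xGL chevE6 K) [68, 66]) :=
      commute_xOne fun b hb => hc _ _ (by revert b; decide +kernel) _ _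
    rw [mul_inv_eq_iff_eq_mul, Cert.w1_eq_xOne, Cert.w1_eq_xOne, mul_assoc, e1 50 (by decide +kernel),
      ← mul_assoc, ← mul_assoc, e1 48 (by decide +kernel), mul_assoc _ (xGL chevE6 K 48 t),
      (hc 48 71 (by decide +kernel) _ _).eq, ← mul_assoc, mul_assoc _ (xGL chevE6 K 71 t),
      hS.add 71 (by decide +kernel), ht, xOne_cons, e2.eq, mul_assoc (xOne _ _),
      hS.add 71 (by decide +kernel), CharTwo.add_self_eq_zero, hS.zero (by decide +kernel),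
      mul_one, mul_assoc]
  refine ncard_invol_classes _ ([[71], [68, 66], [64, 54, 69]].map (w1 K _))
    (fun b hb => h1 b ((List.Sublist.map _ (by decide)).subset hb)) (fun g hg ho => ?_)
    (Core.certE6.pairwise_of_rank rootE6 (ks := [21, 31, 37]) rfl
      (fun p hp => twRanksE6_ok p (by revert p; decide)) (by decide) _)
  obtain ⟨z, hz', b, hb, e'⟩ := h2 g hg ho
  simp only [twRepsE6, List.map_cons, List.map_nil, List.mem_cons, List.not_mem_nil, or_false] at hb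
  rcases hb with rfl | rfl | rfl | rfl
  · exact ⟨z, hz', _, by simp, e'⟩
  · exact ⟨z, hz', _, by simp, e'⟩
  · exact ⟨_, mul_mem hz hz', w1 K chevE6 [68, 66], by simp, by rw [← e, ← e']; group⟩
  · exact ⟨z, hz', _, by simp, e'⟩

end Cfsg.Lib.Chev
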