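import Cfsg.Agent.Chev.InvEval

/-!
# Packed matrices in characteristic two

A vector is a bit mask with respect to a family `bas` of `S` vectors, an endomorphism is given by the
masks of the images of these vectors, either as a list (`RepL`) or packed in one number (`RepP`).
-/

set_option autoImplicit false

namespace Cfsg.Lib.Chev.Core

open Cfsg.Lie Cfsg.Lie.ChevalleyDatum
open scoped Matrix

noncomputable section

/-- The number with the bits `S * k`, `k < m`. -/
def onesN (S m : Nat) : Nat := Nat.rec 0 (fun _ ih => Nat.succ (Nat.shiftLeft ih S)) m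

/-- Append sixty-four well distributed low bits. -/
def saltN (P : Nat) : Nat := Nat.add (Nat.shiftLeft P 64) (Nat.mod P 18446744073709551557)

/-- Loop of `lmN`. -/
def lmAux (O P : Nat) (A : List Nat) : Nat → Nat :=
  List.rec (fun _ => 0) (fun c _ ih j => force j fun j =>
    Nat.xor (Nat.mul (Nat.land (Nat.shiftRight P j) O) c) (ih (Nat.succ j))) A

/-- Apply the columns `A` to all fields of a packed matrix. -/
def lmN (O : Nat) (A : List Nat) (P : Nat) : Nat := force (saltN P) fun P => lmAux O P A 64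

/-- Loop of `unpackN`. -/
def unpackAux (S B P m : Nat) : Nat → List Nat :=
  Nat.rec (fun _ => []) (fun _ ih j => force j fun j =>
    Nat.mod (Nat.shiftRight P j) B :: ih (Nat.add j S)) m

/-- The fields of a packed matrix. -/
def unpackN (S B m P : Nat) : List Nat := force (saltN P) fun P => unpackAux S B P m 64

/-- Evaluate a list of lists before passing it on. -/
def forceLL {α : Type} (L : List (List Nat)) : (List (List Nat) → α) → α :=
  List.rec (fun f => f []) (fun a _ ih f => forceL a fun a => ih fun l => f (a :: l)) L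

/-- Entry of a list of lists. -/
def nthL (L : List (List Nat)) : Nat → List Nat :=
  List.rec (fun _ => []) (fun a _ ih i => Nat.rec a (fun j _ => ih j) i) L

/-- Apply a word in the matrices `As` to a packed matrix. -/
def evN (O : Nat) (As : List (List Nat)) (w : List Nat) (P : Nat) : Nat :=
  List.rec P (fun i _ ih => lmN O (nthL As i) ih) w

/-- Apply a power of a word. -/
def evPowN (O : Nat) (As : List (List Nat)) (w : List Nat) (m P : Nat) : Nat :=
  Nat.rec P (fun _ ih => evN O As w ih) m

/-- Apply a sum of words. -/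
def evSumN (O : Nat) (As : List (List Nat)) (ws : List (List Nat)) (P : Nat) : Nat :=
  List.rec 0 (fun w _ ih => Nat.xor (evN O As w P) ih) ws

/-- Horner evaluation of a polynomial with coefficients `0, 1` (constant term first). -/
def hornerN (O : Nat) (A : List Nat) (I : Nat) (q : List Bool) : Nat :=
  List.rec 0 (fun b _ ih => Nat.xor (b.rec 0 I) (lmN O A ih)) q

/-- The fields of `P, A P, A² P, …`. -/
def spinN (O B S m : Nat) (A : List Nat) (n : Nat) : Nat → List Nat :=
  Nat.rec (fun _ => []) (fun _ ih P => force P fun P => unpackN S B m P ++ ih (lmN O A P)) n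

/-- Certificate that the centraliser of the matrices `As` consists of scalars: a polynomial in a sum of
words has rank one, and its image generates the space under a second sum of words. -/
def scalChk (S : Nat) (As ws ws' : List (List Nat)) (q : List Bool) (k₀ k₁ n m Q : Nat) : Bool :=
  force (onesN S S) fun O => force (Nat.pow 2 S) fun B => force (onesN (Nat.succ S) S) fun I =>
  forceL (unpackN S B S (evSumN O As ws I)) fun A =>
  forceL (unpackN S B S (evSumN O As ws' I)) fun A' =>
  force (hornerN O A I q) fun R =>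
  force (Nat.mod (Nat.shiftRight R (Nat.mul S k₀)) B) fun a =>
  force (Nat.mod (Nat.shiftRight R (Nat.mul S k₁)) B) fun b =>
  band (allLt S fun k => force (Nat.mod (Nat.shiftRight R (Nat.mul S k)) B) fun c =>
      (Nat.beq c 0).rec ((Nat.beq c a).rec ((Nat.beq c b).rec (Nat.beq c (Nat.xor a b)) true) true) true)
    (Nat.beq (lmN (onesN S m) (spinN (onesN S 2) B S 2 A' n (Nat.add (Nat.mul B b) a)) Q)
      (onesN (Nat.succ S) m))

/-- The code of the sum of the odd entries of a column. -/
def colN (tb : Nat → Nat) (N e s : Nat) (l : List (Nat × Nat × Int)) : Nat :=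
  List.rec 0 (fun a _ ih => (band (oddI a.2.2) (Nat.blt a.1 N)).rec ih
    (Nat.xor (Nat.shiftLeft (tb (Nat.add (Nat.mul e a.2.1) s)) a.1) ih)) l

/-- The columns of `x_r(ω ^ e)`. -/
def xColsN (T : Tab) (tb : Nat → Nat) (N S r e : Nat) : List Nat :=
  (List.range S).map fun k =>
    Nat.mod (colN tb N e (Nat.div k N) (colF T r (nth T.rows r) (Nat.mod k N))) (Nat.pow 2 S)

theorem onesN_eq_1' : type_of% @onesN.eq_1 := @onesN.eq_1
theorem saltN_eq_1' : type_of% @saltN.eq_1 := @saltN.eq_1
theorem lmAux_eq_1' : type_of% @lmAux.eq_1 := @lmAux.eq_1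
theorem unpackAux_eq_1' : type_of% @unpackAux.eq_1 := @unpackAux.eq_1
theorem lmN_eq_1' : type_of% @lmN.eq_1 := @lmN.eq_1
theorem unpackN_eq_1' : type_of% @unpackN.eq_1 := @unpackN.eq_1
theorem forceLL_eq_1' : type_of% @forceLL.eq_1 := @forceLL.eq_1
theorem nthL_eq_1' : type_of% @nthL.eq_1 := @nthL.eq_1
theorem evN_eq_1' : type_of% @evN.eq_1 := @evN.eq_1
theorem evPowN_eq_1' : type_of% @evPowN.eq_1 := @evPowN.eq_1
theorem evSumN_eq_1' : type_of% @evSumN.eq_1 := @evSumN.eq_1
theorem hornerN_eq_1' : type_of% @hornerN.eq_1 := @hornerN.eq_1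
theorem spinN_eq_1' : type_of% @spinN.eq_1 := @spinN.eq_1
theorem scalChk_eq_1' : type_of% @scalChk.eq_1 := @scalChk.eq_1
theorem colN_eq_1' : type_of% @colN.eq_1 := @colN.eq_1
theorem xColsN_eq_1' : type_of% @xColsN.eq_1 := @xColsN.eq_1

theorem forceLL_eq {α : Type} (L : List (List Nat)) (f : List (List Nat) → α) : forceLL L f = f L := by
  induction L generalizing f with
  | nil => rfl
  | cons a L ih =>
    change forceL a (fun a => forceLL L fun l => f (a :: l)) = _
    rw [forceL_eq, ih]

theorem nthL_eq (L : List (List Nat)) (i : ℕ) : nthL L i = L.getD i [] := by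
  induction L generalizing i with
  | nil => rfl
  | cons a L ih => cases i with
    | zero => rfl
    | succ j => exact ih j

theorem saltN_shiftRight (P j : ℕ) : saltN P >>> (64 + j) = P >>> j := by
  have h : P % 18446744073709551557 < 2 ^ 64 := (Nat.mod_lt _ (by norm_num)).trans (by norm_num)
  have e : saltN P = 2 ^ 64 * P + P % 18446744073709551557 := by
    change P <<< 64 + _ = _
    rw [Nat.shiftLeft_eq, mul_comm]; rfl
  rw [Nat.shiftRight_add, e, Nat.shiftRight_eq_div_pow _ 64, Nat.mul_add_div (Nat.two_pow_pos 64),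
    Nat.div_eq_of_lt h, add_zero]

theorem onesN_succ {S : ℕ} (m : ℕ) : onesN S (m + 1) = 2 ^ S * onesN S m + 1 := by
  change (onesN S m) <<< S + 1 = _
  rw [Nat.shiftLeft_eq, mul_comm]

theorem testBit_onesN {S : ℕ} (hS : 0 < S) (m i : ℕ) :
    (onesN S m).testBit i = decide (S ∣ i ∧ i < S * m) := by
  induction m generalizing i with
  | zero => simp [onesN]
  | succ m ih =>
    rw [onesN_succ, Nat.testBit_two_pow_mul_add _ (Nat.one_lt_two_pow hS.ne')]
    split_ifs with h
    · rcases Nat.eq_zero_or_pos i with rfl | hi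
      · simp [hS]
      · have : ¬ S ∣ i := fun hd => absurd (Nat.le_of_dvd hi hd) (by omega)
        obtain ⟨j, rfl⟩ : ∃ j, i = j + 1 := ⟨i - 1, by omega⟩
        simp [this, Nat.testBit_succ]
    · obtain ⟨j, rfl⟩ : ∃ j, i = S + j := ⟨i - S, by omega⟩
      rw [ih, Nat.add_sub_cancel_left]
      simp [Nat.mul_succ, add_comm]

theorem testBit_mask_mul {S : ℕ} (hS : 0 < S) {c : ℕ} (hc : c < 2 ^ S) {i : ℕ} (hi : i < S) (m : ℕ) :
    ∀ (P k : ℕ), k < m →
      ((P &&& onesN S m) * c).testBit (S * k + i) = (P.testBit (S * k) && c.testBit i) := by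
  induction m with
  | zero => intro P k hk; omega
  | succ m ih =>
    intro P k hk
    have h1 : P % 2 < 2 ^ S := lt_of_lt_of_le (Nat.mod_lt _ two_pos) (Nat.le_self_pow hS.ne' 2)
    have e : P &&& onesN S (m + 1) = 2 ^ S * ((P >>> S) &&& onesN S m) + P % 2 := by
      apply Nat.eq_of_testBit_eq
      intro j
      rw [Nat.testBit_two_pow_mul_add _ h1, onesN_succ, Nat.testBit_and,
        Nat.testBit_two_pow_mul_add _ (Nat.one_lt_two_pow hS.ne')]
      split_ifs with h
      · rw [← Nat.testBit_and, Nat.and_one_is_mod]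
      · rw [Nat.testBit_and, Nat.testBit_shiftRight, show S + (j - S) = j by omega]
    have h2 : P % 2 * c < 2 ^ S := by
      rcases Nat.mod_two_eq_zero_or_one P with h | h <;> simp [h, hc]
    rw [e, add_mul, mul_assoc, Nat.testBit_two_pow_mul_add _ h2]
    cases k with
    | zero =>
      rw [mul_zero, zero_add, if_pos hi, Nat.testBit_zero]
      rcases Nat.mod_two_eq_zero_or_one P with h | h <;> simp [h]
    | succ k =>
      rw [if_neg (by rw [Nat.mul_succ]; omega), show S * (k + 1) + i - S = S * k + i by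
        rw [Nat.mul_succ]; omega, ih _ k (by omega), Nat.testBit_shiftRight, Nat.mul_succ, add_comm]

section generic

variable {F V : Type*} [Field F] [CharP F 2] [AddCommGroup V] [Module F V] (bas : ℕ → V) (S : ℕ)

/-- The vector of a bit mask. -/
def vecN (m : ℕ) : V := ∑ k ∈ Finset.range S, if m.testBit k then bas k else 0

/-- The list `A` gives the images of the vectors `bas k`. -/
def RepL (f : Module.End F V) (A : List ℕ) : Prop :=
  A.length = S ∧ (∀ c ∈ A, c < 2 ^ S) ∧ ∀ k < S, vecN bas S (A.getD k 0) = f (bas k)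

/-- The fields of `P` give the images of the vectors `bas k`. -/
def RepP (f : Module.End F V) (P : ℕ) : Prop := ∀ k < S, vecN bas S (P >>> (S * k)) = f (bas k)

/-- The first `m` fields of `P` are codes of vectors of `W`. -/
def InP (W : Submodule F V) (m P : ℕ) : Prop := ∀ k < m, vecN bas S (P >>> (S * k)) ∈ W

theorem vecN_eq_1' : type_of% @vecN.eq_1 := @vecN.eq_1
theorem RepL_eq_1' : type_of% @RepL.eq_1 := @RepL.eq_1
theorem RepP_eq_1' : type_of% @RepP.eq_1 := @RepP.eq_1
theorem InP_eq_1' : type_of% @InP.eq_1 := @InP.eq_1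

variable {bas S}

theorem vecN_congr {a b : ℕ} (h : ∀ i < S, a.testBit i = b.testBit i) : vecN bas S a = vecN bas S b :=
  Finset.sum_congr rfl fun i hi => by rw [h i (Finset.mem_range.1 hi)]

theorem vecN_zero : vecN bas S 0 = 0 := by simp [vecN]

theorem vecN_mod (a : ℕ) : vecN bas S (a % 2 ^ S) = vecN bas S a :=
  vecN_congr fun i hi => by simp [hi]

theorem vecN_two_pow {k : ℕ} (hk : k < S) : vecN bas S (2 ^ k) = bas k := by
  simp [vecN, Nat.testBit_two_pow, hk]

variable (F) in
include F in
theorem vecN_xor (a b : ℕ) : vecN bas S (a ^^^ b) = vecN bas S a + vecN bas S b := by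
  have h2 : ∀ v : V, v + v = 0 := fun v => by
    rw [← two_smul F, CharTwo.two_eq_zero, zero_smul]
  rw [vecN, vecN, vecN, ← Finset.sum_add_distrib]
  refine Finset.sum_congr rfl fun i _ => ?_
  rw [Nat.testBit_xor]
  cases a.testBit i <;> cases b.testBit i <;> simp [h2]

variable (F) in
include F in
theorem vecN_lmN (hS : 0 < S) {m k : ℕ} (hk : k < m) {A : List ℕ} (hA : ∀ c ∈ A, c < 2 ^ S) (P : ℕ) :
    vecN bas S (lmN (onesN S m) A P >>> (S * k)) = ∑ j ∈ Finset.range A.length,
      if P.testBit (S * k + j) then vecN bas S (A.getD j 0) else 0 := by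
  have key : ∀ i, vecN bas S (lmAux (onesN S m) (saltN P) A (64 + i) >>> (S * k)) =
      ∑ j ∈ Finset.range A.length,
        if P.testBit (S * k + (i + j)) then vecN bas S (A.getD j 0) else 0 := by
    induction A with
    | nil => intro i; simp [lmAux, vecN_zero]
    | cons c A ih =>
      intro i
      have e : lmAux (onesN S m) (saltN P) (c :: A) (64 + i) =
          (((saltN P >>> (64 + i)) &&& onesN S m) * c) ^^^ lmAux (onesN S m) (saltN P) A (64 + (i + 1)) :=
        force_eq (64 + i) fun j =>
          (((saltN P >>> j) &&& onesN S m) * c) ^^^ lmAux (onesN S m) (saltN P) A (j + 1)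
      rw [e, saltN_shiftRight, Nat.shiftRight_xor_distrib, vecN_xor F,
        ih (fun d hd => hA d (by simp [hd])), List.length_cons, Finset.sum_range_succ', add_comm]
      congr 1
      · refine Finset.sum_congr rfl fun j _ => ?_
        rw [List.getD_cons_succ, show i + 1 + j = i + (j + 1) by omega]
      · rw [add_zero, List.getD_cons_zero]
        have h := fun l hl => testBit_mask_mul hS (hA c (by simp)) (i := l) hl m (P >>> i) k hk
        rw [Nat.testBit_shiftRight, add_comm i] at h
        split_ifs with hb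
        · exact vecN_congr fun i hi => by rw [Nat.testBit_shiftRight, h i hi, hb, Bool.true_and]
        · rw [← vecN_zero (bas := bas) (S := S)]
          exact vecN_congr fun i hi => by
            rw [Nat.testBit_shiftRight, h i hi]; simp [hb]
  rw [lmN, force_eq]
  simpa only [zero_add, add_zero] using key 0

theorem RepL.vec_lmN {f : Module.End F V} {A : List ℕ} (h : RepL bas S f A) (hS : 0 < S) {m k : ℕ}
    (hk : k < m) (P : ℕ) :
    vecN bas S (lmN (onesN S m) A P >>> (S * k)) = f (vecN bas S (P >>> (S * k))) := by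
  rw [vecN_lmN F hS hk h.2.1, h.1, vecN, map_sum]
  refine Finset.sum_congr rfl fun j hj => ?_
  rw [Nat.testBit_shiftRight, h.2.2 j (Finset.mem_range.1 hj)]
  split_ifs <;> simp

theorem RepL.lm {f g : Module.End F V} {A : List ℕ} {P : ℕ} (h : RepL bas S f A)
    (hP : RepP bas S g P) : RepP bas S (f * g) (lmN (onesN S S) A P) := fun k hk => by
  rw [h.vec_lmN (by omega) hk, hP k hk]; rfl

theorem unpackN_eq (S B m P : ℕ) :
    unpackN S B m P = (List.range m).map fun k => (P >>> (S * k)) % B := by
  have key : ∀ i, unpackAux S B (saltN P) m (64 + S * i) =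
      (List.range m).map fun k => (P >>> (S * (i + k))) % B := by
    induction m with
    | zero => intro i; rfl
    | succ m ih =>
      intro i
      have e : unpackAux S B (saltN P) (m + 1) (64 + S * i) = (saltN P >>> (64 + S * i)) % B ::
          unpackAux S B (saltN P) m (64 + S * i + S) :=
        force_eq (64 + S * i) fun j => (saltN P >>> j) % B :: unpackAux S B (saltN P) m (j + S)
      rw [e, saltN_shiftRight, add_assoc, ← Nat.mul_succ, ih, List.range_succ_eq_map, List.map_cons,
        List.map_map]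
      refine congrArg₂ _ rfl (List.map_congr_left fun k _ => ?_)
      simp only [Function.comp, Nat.succ_eq_add_one, add_assoc, add_comm 1]
  rw [unpackN, force_eq]
  simpa only [zero_add, mul_zero, add_zero] using key 0

omit [CharP F 2] in
theorem RepP.unpack {f : Module.End F V} {P : ℕ} (h : RepP bas S f P) :
    RepL bas S f (unpackN S (2 ^ S) S P) :=
  ⟨by simp [unpackN_eq], by
    simp only [unpackN_eq, List.mem_map]
    rintro _ ⟨k, -, rfl⟩
    exact Nat.mod_lt _ (Nat.two_pow_pos S), fun k hk => by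
    rw [unpackN_eq, List.getD_eq_getElem _ _ (by simpa using hk), List.getElem_map, List.getElem_range,
      vecN_mod, h k hk]⟩

theorem vecN_id {m k : ℕ} (hk : k < m) (hkS : k < S) :
    vecN bas S (onesN (S + 1) m >>> (S * k)) = bas k := by
  rw [← vecN_two_pow (bas := bas) hkS]
  refine vecN_congr fun i hi => ?_
  rw [Nat.testBit_shiftRight, testBit_onesN (Nat.succ_pos S), Nat.testBit_two_pow]
  refine decide_eq_decide.2 ⟨fun ⟨⟨j, hj⟩, _⟩ => ?_, ?_⟩
  · rcases lt_trichotomy j k with h | h | h
    · have := Nat.mul_le_mul_left S (show j + 1 ≤ k from h)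
      nlinarith
    · subst h; nlinarith
    · have := Nat.mul_le_mul_left S (show k + 1 ≤ j from h)
      nlinarith
  · rintro rfl
    exact ⟨⟨k, (Nat.succ_mul S k).symm⟩, by nlinarith⟩

omit [CharP F 2] in
theorem repP_one : RepP bas S (1 : Module.End F V) (onesN (S + 1) S) := fun _ hk => vecN_id hk hk

omit [CharP F 2] in
theorem repP_zero : RepP bas S (0 : Module.End F V) 0 := fun _ _ => by simp [vecN_zero]

theorem RepP.xor {f g : Module.End F V} {P Q : ℕ} (h : RepP bas S f P) (h' : RepP bas S g Q) :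
    RepP bas S (f + g) (P ^^^ Q) := fun k hk => by
  rw [Nat.shiftRight_xor_distrib, vecN_xor F, h k hk, h' k hk]; rfl

omit [CharP F 2] in
theorem RepP.eq (hb : Submodule.span F (bas '' Set.Iio S) = ⊤) {f g : Module.End F V} {P : ℕ}
    (h : RepP bas S f P) (h' : RepP bas S g P) : f = g :=
  LinearMap.ext_on hb (by rintro _ ⟨k, hk, rfl⟩; rw [← h k hk, h' k hk])

variable {g : ℕ → Module.End F V} {As : List (List ℕ)} {n : ℕ}
  (hA : ∀ i < n, RepL bas S (g i) (As.getD i []))
include hA

theorem repP_evN {w : List ℕ} (hw : ∀ i ∈ w, i < n) {f : Module.End F V} {P : ℕ}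
    (h : RepP bas S f P) : RepP bas S ((w.map g).prod * f) (evN (onesN S S) As w P) := by
  induction w with
  | nil => exact (one_mul f).symm ▸ h
  | cons i w ih =>
    rw [List.map_cons, List.prod_cons, mul_assoc]
    exact (nthL_eq As i ▸ hA i (hw i (by simp))).lm (ih fun j hj => hw j (by simp [hj]))

theorem repP_evPowN {w : List ℕ} (hw : ∀ i ∈ w, i < n) (m : ℕ) :
    RepP bas S ((w.map g).prod ^ m) (evPowN (onesN S S) As w m (onesN (S + 1) S)) := by
  induction m with
  | zero => exact repP_one
  | succ m ih => rw [pow_succ']; exact repP_evN hA hw ih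

theorem repP_evSumN {ws : List (List ℕ)} (hw : ∀ w ∈ ws, ∀ i ∈ w, i < n) :
    RepP bas S (ws.map fun w => (w.map g).prod).sum
      (evSumN (onesN S S) As ws (onesN (S + 1) S)) := by
  induction ws with
  | nil => exact repP_zero
  | cons w ws ih =>
    rw [List.map_cons, List.sum_cons]
    exact (mul_one (w.map g).prod ▸ repP_evN hA (hw w (by simp)) repP_one).xor
      (ih fun v hv => hw v (by simp [hv]))

theorem repL_words {ws : List (List ℕ)} (hw : ∀ w ∈ ws, ∀ i ∈ w, i < n) : ∀ j < ws.length,
    RepL bas S ((ws.getD j []).map g).prod ((ws.map fun w => unpackN S (2 ^ S) S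
      (evN (onesN S S) As w (onesN (S + 1) S))).getD j []) := fun j hj => by
  rw [List.getD_eq_getElem _ _ hj, List.getD_eq_getElem _ _ (by simpa using hj), List.getElem_map]
  exact (mul_one (List.map g ws[j]).prod ▸ repP_evN hA (hw _ (List.getElem_mem hj)) repP_one).unpack

omit hA

theorem RepL.horner {a : Module.End F V} {A : List ℕ} (h : RepL bas S a A) (q : List Bool) :
    ∃ r : Module.End F V, (∀ c, Commute c a → Commute c r) ∧
      RepP bas S r (hornerN (onesN S S) A (onesN (S + 1) S) q) := by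
  induction q with
  | nil => exact ⟨0, fun c _ => Commute.zero_right c, repP_zero⟩
  | cons b q ih =>
    obtain ⟨r, h1, h2⟩ := ih
    cases b with
    | false => exact ⟨0 + a * r, fun c hc => (Commute.zero_right c).add_right (hc.mul_right (h1 c hc)),
        repP_zero.xor (h.lm h2)⟩
    | true => exact ⟨1 + a * r, fun c hc => (Commute.one_right c).add_right (hc.mul_right (h1 c hc)),
        repP_one.xor (h.lm h2)⟩

theorem RepL.spin {a : Module.End F V} {A : List ℕ} (h : RepL bas S a A) (hS : 0 < S)
    {W : Submodule F V} (hW : ∀ x ∈ W, a x ∈ W) (m n : ℕ) : ∀ P, InP bas S W m P →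
      ∀ c ∈ spinN (onesN S m) (2 ^ S) S m A n P, c < 2 ^ S ∧ vecN bas S c ∈ W := by
  induction n with
  | zero => intro P _ c hc; exact absurd hc List.not_mem_nil
  | succ n ih =>
    intro P hP c hc
    have e : spinN (onesN S m) (2 ^ S) S m A (n + 1) P = unpackN S (2 ^ S) m P ++
      spinN (onesN S m) (2 ^ S) S m A n (lmN (onesN S m) A P) := force_eq P fun P =>
        unpackN S (2 ^ S) m P ++ spinN (onesN S m) (2 ^ S) S m A n (lmN (onesN S m) A P)
    rw [e, List.mem_append] at hc
    rcases hc with hc | hc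
    · rw [unpackN_eq, List.mem_map] at hc
      obtain ⟨k, hk, rfl⟩ := hc
      rw [vecN_mod]
      exact ⟨Nat.mod_lt _ (Nat.two_pow_pos S), hP k (List.mem_range.1 hk)⟩
    · exact ih _ (fun k hk => h.vec_lmN hS hk P ▸ hW _ (hP k hk)) c hc

theorem bas_mem_of_lmN (hS : 0 < S) {W : Submodule F V} {L : List ℕ}
    (hL : ∀ c ∈ L, c < 2 ^ S ∧ vecN bas S c ∈ W) {m Q : ℕ}
    (h : lmN (onesN S m) L Q = onesN (S + 1) m) {k : ℕ} (hk : k < m) (hkS : k < S) :
    bas k ∈ W := by
  rw [← vecN_id (bas := bas) hk hkS, ← h, vecN_lmN F hS hk fun c hc => (hL c hc).1]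
  refine W.sum_mem fun j hj => ?_
  split_ifs
  · rw [List.getD_eq_getElem _ _ (Finset.mem_range.1 hj)]
    exact (hL _ (List.getElem_mem _)).2
  · exact W.zero_mem

theorem exists_eq_smul_of_scalChk {g : ℕ → Module.End F V} {As : List (List ℕ)} {n : ℕ}
    (hA : ∀ i < n, RepL bas S (g i) (As.getD i []))
    (hb : Submodule.span F (bas '' Set.Iio S) = ⊤) {ws ws' : List (List ℕ)} {q : List Bool}
    {k₀ k₁ l m Q : ℕ} (h₀ : k₀ < S) (h₁ : k₁ < S) {ω : F} (hω : bas k₁ = ω • bas k₀)
    (hm : ∀ W : Submodule F V, (∀ k < m, k < S → bas k ∈ W) → W = ⊤)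
    (h : scalChk S As ws ws' q k₀ k₁ l m Q = true) {c : Module.End F V}
    (hw : ∀ w ∈ ws ++ ws', ∀ i ∈ w, i < n ∧ Commute c (g i)) : ∃ a : F, ∀ v, c v = a • v := by
  have hS : 0 < S := by omega
  have hc : ∀ vs : List (List ℕ), (∀ w ∈ vs, ∀ i ∈ w, i < n ∧ Commute c (g i)) →
      Commute c (vs.map fun w => (w.map g).prod).sum := fun vs hv =>
    Commute.list_sum_right _ _ fun x hx => by
      obtain ⟨w, hw, rfl⟩ := List.mem_map.1 hx
      refine Commute.list_prod_right _ _ fun y hy => ?_
      obtain ⟨i, hi, rfl⟩ := List.mem_map.1 hy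
      exact (hv w hw i hi).2
  have hw1 := fun w h => hw w (List.mem_append_left _ h)
  have hw2 := fun w h => hw w (List.mem_append_right _ h)
  obtain ⟨r, hr1, hr2⟩ := (repP_evSumN hA fun w h i hi => (hw1 w h i hi).1).unpack.horner q
  have hA' := (repP_evSumN hA fun w h i hi => (hw2 w h i hi).1).unpack
  simp only [scalChk, force_eq, forceL_eq, band_iff, allLt_iff] at h
  obtain ⟨e1, e2⟩ := h
  generalize hR : hornerN (onesN S S) (unpackN S (2 ^ S) S
    (evSumN (onesN S S) As ws (onesN (S + 1) S))) (onesN (S + 1) S) q = R at hr2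
  have hcol : ∀ k < S, vecN bas S ((R >>> (S * k)) % 2 ^ S) = r (bas k) := fun k hk => by
    rw [vecN_mod, hr2 k hk]
  have hv1 : r (bas k₁) = ω • r (bas k₀) := by rw [hω, map_smul]
  have hrange : ∀ v, r v ∈ Submodule.span F {r (bas k₀)} := by
    have hs := Submodule.mem_span_singleton_self (R := F) (r (bas k₀))
    have : Submodule.span F (bas '' Set.Iio S) ≤ (Submodule.span F {r (bas k₀)}).comap r := by
      refine Submodule.span_le.2 ?_
      rintro _ ⟨k, hk, rfl⟩
      have e3 : (((R >>> (S * k)) % 2 ^ S).beq 0).rec ((((R >>> (S * k)) % 2 ^ S).beq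
          ((R >>> (S * k₀)) % 2 ^ S)).rec ((((R >>> (S * k)) % 2 ^ S).beq ((R >>> (S * k₁)) % 2 ^ S)).rec
          (((R >>> (S * k)) % 2 ^ S).beq (((R >>> (S * k₀)) % 2 ^ S) ^^^ ((R >>> (S * k₁)) % 2 ^ S)))
          true) true) true = true := hR ▸ e1 k hk
      change r (bas k) ∈ Submodule.span F {r (bas k₀)}
      rw [← hcol k hk]
      cases a0 : ((R >>> (S * k)) % 2 ^ S).beq 0 with
      | true => rw [Nat.eq_of_beq_eq_true a0, vecN_zero]; exact zero_mem _
      | false =>
        cases a1 : ((R >>> (S * k)) % 2 ^ S).beq ((R >>> (S * k₀)) % 2 ^ S) with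
        | true => rw [Nat.eq_of_beq_eq_true a1, hcol _ h₀]; exact hs
        | false =>
          cases a2 : ((R >>> (S * k)) % 2 ^ S).beq ((R >>> (S * k₁)) % 2 ^ S) with
          | true => rw [Nat.eq_of_beq_eq_true a2, hcol _ h₁, hv1]; exact Submodule.smul_mem _ _ hs
          | false =>
            rw [a0, a1, a2] at e3
            rw [Nat.eq_of_beq_eq_true e3, vecN_xor F, hcol _ h₀, hcol _ h₁, hv1]
            exact add_mem hs (Submodule.smul_mem _ _ hs)
    exact fun v => this (hb ▸ Submodule.mem_top)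
  obtain ⟨a, ha⟩ := Submodule.mem_span_singleton.1 (hrange (c (bas k₀)))
  have hW : ∀ v, v ∈ LinearMap.ker (c - a • 1) ↔ c v = a • v := fun v => by simp [sub_eq_zero]
  have hv0 : r (bas k₀) ∈ LinearMap.ker (c - a • 1) := by
    rw [hW, ha]
    exact congrArg (fun f : Module.End F V => f (bas k₀)) (hr1 c (hc ws hw1)).eq
  refine ⟨a, fun v => (hW v).1 ((hm _ fun k hk hkS => bas_mem_of_lmN hS (hA'.spin hS (fun x hx => ?_)
    2 l (2 ^ S * ((R >>> (S * k₁)) % 2 ^ S) + (R >>> (S * k₀)) % 2 ^ S) fun k hk => ?_)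
    (hR ▸ Nat.eq_of_beq_eq_true e2) hk hkS).ge Submodule.mem_top)⟩
  · rw [hW] at hx ⊢
    rw [← map_smul, ← hx]
    exact congrArg (fun f : Module.End F V => f x) (hc ws' hw2).eq
  · have hl := Nat.mod_lt (R >>> (S * k₀)) (Nat.two_pow_pos S)
    interval_cases k
    · rw [mul_zero, Nat.shiftRight_zero, ← vecN_mod, Nat.mul_add_mod, Nat.mod_mod, hcol _ h₀]
      exact hv0
    · rw [mul_one, Nat.shiftRight_eq_div_pow, Nat.mul_add_div (Nat.two_pow_pos S), Nat.div_eq_of_lt hl,
        add_zero, hcol _ h₁, hv1]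
      exact Submodule.smul_mem _ _ hv0

end generic

section chev

variable (D : ChevalleyDatum) {F : Type*} [Field F] [CharP F 2] (ω : F)

/-- The vectors `ω ^ i • e_b`. -/
def basN (k : ℕ) : D.Idx → F := ω ^ (k / (D.nroots + D.rank)) • eB D F (k % (D.nroots + D.rank))

theorem basN_eq_1' : type_of% @basN.eq_1 := @basN.eq_1

variable {D ω}

omit [CharP F 2] in
theorem basN_of_lt {k : ℕ} (hk : k < D.nroots + D.rank) : basN D ω k = eB D F k := by
  rw [basN, Nat.div_eq_of_lt hk, Nat.mod_eq_of_lt hk, pow_zero, one_smul]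

omit [CharP F 2] in
theorem span_basN {S m : ℕ} (hm : D.nroots + D.rank ≤ m) {W : Submodule F (D.Idx → F)}
    (h : ∀ k < m, k < S → basN D ω k ∈ W) (hS : D.nroots + D.rank ≤ S) : W = ⊤ := by
  refine eq_top_iff.2 fun v _ => ?_
  rw [← Finset.univ_sum_single v]
  refine W.sum_mem fun a _ => ?_
  have e : (Pi.single a (v a) : D.Idx → F) = v a • eB D F (idxCode D a) := by
    funext b
    rw [Pi.smul_apply, eB_apply, Pi.single_apply, smul_eq_mul, mul_ite, mul_one, mul_zero]
    congr 1
    cases a <;> cases b <;> simp [idxCode, Fin.ext_iff] <;> omega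
  have ha := idxCode_lt a
  rw [e, ← basN_of_lt (ω := ω) ha]
  exact W.smul_mem _ (h _ (by omega) (by omega))

omit [CharP F 2] in
theorem span_basN_top {S : ℕ} (hS : D.nroots + D.rank ≤ S) :
    Submodule.span F (basN D ω '' Set.Iio S) = ⊤ :=
  span_basN hS (fun k hk _ => Submodule.subset_span ⟨k, hk, rfl⟩) hS

theorem repL_x {T : Tab} (h : T.Link D) (he : D.nroots % 2 = 0) {tb : ℕ → ℕ} {N S : ℕ}
    (hN : N = D.nroots + D.rank)
    (htb : ∀ e, ∀ b < N, vecN (basN D ω) S (tb e <<< b) = ω ^ e • eB D F b) {r : ℕ} (hr : r < T.n)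
    (e : ℕ) : RepL (basN D ω) S (Matrix.toLin' (D.x F r (ω ^ e))) (xColsN T tb N S r e) := by
  refine ⟨by simp [xColsN], by
    simp only [xColsN, List.mem_map]
    rintro _ ⟨k, -, rfl⟩
    exact Nat.mod_lt _ (Nat.two_pow_pos S), fun k hk => ?_⟩
  have key : ∀ (s : ℕ) (l : List (Nat × Nat × Int)),
      vecN (basN D ω) S (colN tb N e s l) = ω ^ s • evalC D (ω ^ e) l := by
    intro s l
    induction l with
    | nil => simp [colN, vecN_zero]
    | cons a l ih =>
      have e1 : colN tb N e s (a :: l) = (band (oddI a.2.2) (Nat.blt a.1 N)).rec (colN tb N e s l)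
        ((tb (e * a.2.1 + s) <<< a.1) ^^^ colN tb N e s l) := rfl
      rw [e1, evalC_cons, cast_oddI, smul_add, ← ih]
      cases h1 : oddI a.2.2 with
      | false => simp [band]
      | true =>
        cases h2 : Nat.blt a.1 N with
        | false =>
          have : eB D F a.1 = 0 := by
            funext i
            have := idxCode_lt i
            have h3 : ¬ a.1 < N := fun h' => by simp [Nat.blt_eq.mpr h'] at h2
            rw [eB_apply, if_neg (by omega)]; rfl
          simp [band, this]
        | true =>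
          change vecN _ _ (_ ^^^ _) = _
          rw [vecN_xor F, htb _ _ (Nat.blt_eq.mp h2), if_pos rfl, one_mul, smul_smul, ← pow_mul,
            ← pow_add, add_comm s]
  rw [xColsN, List.getD_eq_getElem _ _ (by simpa using hk), List.getElem_map, List.getElem_range]
  refine (vecN_mod _).trans ?_
  rw [key, ← colF_sound h he hr, basN, map_smul, Matrix.toLin'_apply, ← hN]
  rfl

/-- The codes of the powers of a primitive third root of unity. -/
def tbFour (N e : Nat) : Nat :=
  (Nat.beq (Nat.mod e 3) 0).rec ((Nat.beq (Nat.mod e 3) 1).rec (Nat.succ (Nat.shiftLeft 1 N))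
    (Nat.shiftLeft 1 N)) 1

theorem tbFour_eq_1' : type_of% @tbFour.eq_1 := @tbFour.eq_1

theorem vecN_tbFour (hω : ω ^ 2 = ω + 1) {N : ℕ} (hN : N = D.nroots + D.rank) (e b : ℕ) (hb : b < N) :
    vecN (basN D ω) (2 * N) (tbFour N e <<< b) = ω ^ e • eB D F b := by
  have h3 : ω ^ 3 = 1 := by
    have : (2 : F) = 0 := CharTwo.two_eq_zero
    linear_combination (ω + 1) * hω + ω * this
  have h0 : vecN (basN D ω) (2 * N) (2 ^ b) = eB D F b := by
    rw [vecN_two_pow (by omega), basN_of_lt (hN ▸ hb)]
  have h1 : vecN (basN D ω) (2 * N) (2 ^ (N + b)) = ω • eB D F b := by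
    rw [vecN_two_pow (by omega), basN, ← hN, Nat.add_div_left _ (by omega), Nat.add_mod_left,
      Nat.div_eq_of_lt hb, Nat.mod_eq_of_lt hb, zero_add, pow_one]
  rw [← Nat.div_add_mod e 3, pow_add, pow_mul, h3, one_pow, one_mul, Nat.div_add_mod]
  have hl : e % 3 < 3 := Nat.mod_lt _ (by norm_num)
  have e0 : tbFour N e = (Nat.beq (e % 3) 0).rec ((Nat.beq (e % 3) 1).rec (1 <<< N + 1) (1 <<< N)) 1 := rfl
  rw [e0]
  generalize e % 3 = j at hl
  interval_cases j
  · exact (by rw [Nat.one_shiftLeft, h0, pow_zero, one_smul] :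
      vecN (basN D ω) (2 * N) (1 <<< b) = ω ^ 0 • eB D F b)
  · exact (by rw [← Nat.shiftLeft_add, Nat.one_shiftLeft, h1, pow_one] :
      vecN (basN D ω) (2 * N) ((1 <<< N) <<< b) = ω ^ 1 • eB D F b)
  · have e1 : (1 <<< N + 1) <<< b = 2 ^ (N + b) ^^^ 2 ^ b := by
      rw [Nat.one_shiftLeft, Nat.shiftLeft_eq, add_mul, one_mul, ← pow_add]
      apply Nat.eq_of_testBit_eq
      intro i
      have := Nat.testBit_two_pow_mul_add 1 (Nat.pow_lt_pow_right one_lt_two
        (show b < N + b by omega)) i
      rw [mul_one] at this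
      rw [this, Nat.testBit_xor, Nat.testBit_two_pow, Nat.testBit_two_pow]
      split_ifs with h
      · simp [h.ne']
      · rw [← pow_zero 2, Nat.testBit_two_pow]
        have : b ≠ i := by omega
        simp only [this, decide_false, Bool.xor_false]
        exact decide_eq_decide.2 (by omega)
    exact (by rw [e1, vecN_xor F, h1, h0, hω, add_smul, one_smul] :
      vecN (basN D ω) (2 * N) ((1 <<< N + 1) <<< b) = ω ^ 2 • eB D F b)

end chev

end

end Cfsg.Lib.Chev.Core
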