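/- The isometry group of the cubic form in 27 variables is generated by the root elements of type E6. -/
import Cfsg.Agent.Chev.RepFrame
import Cfsg.Agent.Chev.RepE6
import Cfsg.Prelude.Def_E6

namespace Cfsg.Lib.Chev.Core

open Cfsg.Lie
open scoped Matrix

/-- The numbering of the 27 coordinates. -/
def codE6 : repE6.P.Coding I27 where
  idx a := 9 * a.1 + 3 * a.2.1 + a.2.2
  inj := by decide
  lt := by decide
  surj := by decide

/-- The steps of the frame argument. -/
def frameE6 : List CStep := [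
  ⟨0, 1, 0, 0, 2, [(0, [], true), (1, [(45, [(0, 0, 1)]), (26, [(0, 0, -1)]), (45, [(0, 0, 1)])], false), (2, [(60, [(0, 0, 1)]), (11, [(0, 0, -1)]), (60, [(0, 0, 1)])], true), (3, [(39, [(0, 0, 1)]), (32, [(0, 0, -1)]), (39, [(0, 0, 1)])], true), (4, [(38, [(0, 0, 1)]), (33, [(0, 0, -1)]), (38, [(0, 0, 1)]), (42, [(0, 0, 1)]), (29, [(0, 0, -1)]), (42, [(0, 0, 1)])], false), (5, [(38, [(0, 0, 1)]), (33, [(0, 0, -1)]), (38, [(0, 0, 1)]), (57, [(0, 0, 1)]), (14, [(0, 0, -1)]), (57, [(0, 0, 1)])], true), (6, [(40, [(0, 0, 1)]), (31, [(0, 0, -1)]), (40, [(0, 0, 1)])], false), (7, [(36, [(0, 0, 1)]), (35, [(0, 0, -1)]), (36, [(0, 0, 1)]), (42, [(0, 0, 1)]), (29, [(0, 0, -1)]), (42, [(0, 0, 1)])], true), (8, [(36, [(0, 0, 1)]), (35, [(0, 0, -1)]), (36, [(0, 0, 1)]), (57, [(0, 0, 1)]), (14, [(0, 0, -1)]), (57, [(0, 0, 1)])], false), (9, [(36, [(0, 0, 1)]), (35, [(0, 0, -1)]), (36, [(0, 0, 1)]), (69, [(0, 0, 1)]), (2, [(0, 0, -1)]), (69, [(0, 0, 1)])], false), (10, [(36, [(0, 0, 1)]), (35,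 [(0, 0, -1)]), (36, [(0, 0, 1)]), (47, [(0, 0, 1)]), (24, [(0, 0, -1)]), (47, [(0, 0, 1)])], true), (11, [(42, [(0, 0, 1)]), (29, [(0, 0, -1)]), (42, [(0, 0, 1)]), (60, [(0, 0, 1)]), (11, [(0, 0, -1)]), (60, [(0, 0, 1)])], true), (12, [(63, [(0, 0, 1)]), (8, [(0, 0, -1)]), (63, [(0, 0, 1)])], true), (13, [(53, [(0, 0, 1)]), (18, [(0, 0, -1)]), (53, [(0, 0, 1)])], true), (14, [(57, [(0, 0, 1)]), (14, [(0, 0, -1)]), (57, [(0, 0, 1)])], false), (15, [(52, [(0, 0, 1)]), (19, [(0, 0, -1)]), (52, [(0, 0, 1)])], true), (16, [(64, [(0, 0, 1)]), (7, [(0, 0, -1)]), (64, [(0, 0, 1)])], false), (17, [(42, [(0, 0, 1)]), (29, [(0, 0, -1)]), (42, [(0, 0, 1)])], false), (18, [(39, [(0, 0, 1)]), (32, [(0, 0, -1)]), (39, [(0, 0, 1)]), (48, [(0, 0, 1)]), (23, [(0, 0, -1)]), (48, [(0, 0, 1)])], false), (19, [(48, [(0, 0, 1)]), (23, [(0, 0, -1)]), (48, [(0, 0, 1)])], true), (20, [(47, [(0, 0, 1)]), (24, [(0, 0, -1)]), (47, [(0, 0, 1)])], true), (21, [(39, [(0, 0, 1)]), (32, [(0, 0, -1)]), (39, [(0,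 0, 1)]), (68, [(0, 0, 1)]), (3, [(0, 0, -1)]), (68, [(0, 0, 1)])], true), (22, [(68, [(0, 0, 1)]), (3, [(0, 0, -1)]), (68, [(0, 0, 1)])], false), (23, [(69, [(0, 0, 1)]), (2, [(0, 0, -1)]), (69, [(0, 0, 1)])], true), (24, [(36, [(0, 0, 1)]), (35, [(0, 0, -1)]), (36, [(0, 0, 1)]), (39, [(0, 0, 1)]), (32, [(0, 0, -1)]), (39, [(0, 0, 1)])], false), (25, [(36, [(0, 0, 1)]), (35, [(0, 0, -1)]), (36, [(0, 0, 1)])], true), (26, [(38, [(0, 0, 1)]), (33, [(0, 0, -1)]), (38, [(0, 0, 1)])], true)], [(45, 1, true), (60, 2, false), (32, 3, true), (31, 6, false), (63, 12, false), (18, 13, true), (57, 14, true), (52, 15, false), (7, 16, false), (42, 17, true), (23, 19, true), (24, 20, true), (68, 22, true), (69, 23, false), (36, 25, false), (38, 26, false)], [], [(4, 8), (5, 7), (7, 5), (8, 4), (9, 18), (10, 21), (11, 24), (18, 9), (21, 10), (24, 11)]⟩,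
  ⟨4, 2, 0, 8, 6, [(4, [], true), (5, [(56, [(0, 0, 1)]), (15, [(0, 0, -1)]), (56, [(0, 0, 1)])], false), (7, [(37, [(0, 0, 1)]), (34, [(0, 0, -1)]), (37, [(0, 0, 1)])], true), (8, [(37, [(0, 0, 1)]), (34, [(0, 0, -1)]), (37, [(0, 0, 1)]), (56, [(0, 0, 1)]), (15, [(0, 0, -1)]), (56, [(0, 0, 1)])], false), (9, [(65, [(0, 0, 1)]), (6, [(0, 0, -1)]), (65, [(0, 0, 1)])], true), (10, [(51, [(0, 0, 1)]), (20, [(0, 0, -1)]), (51, [(0, 0, 1)])], false), (11, [(58, [(0, 0, 1)]), (13, [(0, 0, -1)]), (58, [(0, 0, 1)])], false), (18, [(55, [(0, 0, 1)]), (16, [(0, 0, -1)]), (55, [(0, 0, 1)])], true), (21, [(61, [(0, 0, 1)]), (10, [(0, 0, -1)]), (61, [(0, 0, 1)])], false), (24, [(44, [(0, 0, 1)]), (27, [(0, 0, -1)]), (44, [(0, 0, 1)])], false)], [(39, 1, true), (26, 3, true), (56, 5, true), (34, 7, true), (65, 9, false), (20, 10, false), (58, 11, true), (47, 15, true), (2, 16, false), (33, 17, false), (16, 18, true), (19, 20, false), (61, 21, true), (64, 23, false), (27, 24, false), (29, 26,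 true)], [], [(0, 8), (2, 6), (6, 2), (8, 0), (12, 19), (13, 22), (14, 25), (19, 12), (22, 13), (25, 14)]⟩,
  ⟨8, 0, 4, 0, 0, [], [(40, 2, false), (37, 5, true), (11, 6, false), (15, 7, true), (55, 9, true), (10, 10, true), (44, 11, false), (48, 12, true), (3, 13, true), (35, 14, false), (6, 18, false), (8, 19, false), (51, 21, false), (53, 22, true), (13, 24, true), (14, 25, true)], [], [(0, 4), (1, 3), (3, 1), (4, 0), (15, 20), (16, 23), (17, 26), (20, 15), (23, 16), (26, 17)]⟩,
  ⟨1, 1, 0, 0, 9, [(1, [], true), (3, [(41, [(0, 0, 1)]), (30, [(0, 0, -1)]), (41, [(0, 0, 1)]), (43, [(0, 0, 1)]), (28, [(0, 0, -1)]), (43, [(0, 0, 1)])], false), (15, [(46, [(0, 0, 1)]), (25, [(0, 0, -1)]), (46, [(0, 0, 1)])], true), (16, [(70, [(0, 0, 1)]), (1, [(0, 0, -1)]), (70, [(0, 0, 1)])], false), (17, [(41, [(0, 0, 1)]), (30, [(0, 0, -1)]), (41, [(0, 0, 1)])], true), (20, [(54, [(0, 0, 1)]), (17, [(0, 0, -1)]), (54, [(0, 0, 1)])], false), (23, [(62, [(0, 0, 1)]), (9, [(0, 0, -1)]), (62, [(0, 0,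 1)])], false), (26, [(43, [(0, 0, 1)]), (28, [(0, 0, -1)]), (43, [(0, 0, 1)])], true)], [(46, 15, false), (1, 16, false), (30, 17, true), (17, 20, false), (62, 23, true), (28, 26, true)], [(0, false, 4, 8), (2, false, 4, 6), (4, false, 0, 8), (5, false, 0, 7), (6, false, 4, 2), (7, false, 0, 5), (8, false, 4, 0), (9, false, 0, 18), (10, false, 0, 21), (11, false, 0, 24), (12, false, 4, 19), (13, false, 4, 22), (14, false, 4, 25), (18, false, 0, 9), (19, false, 4, 12), (21, false, 0, 10), (22, false, 4, 13), (24, false, 0, 11), (25, false, 4, 14)], [(3, 8)]⟩,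
  ⟨3, 0, 1, 8, 0, [], [(54, 15, true), (9, 16, false), (43, 17, false), (25, 20, true), (70, 23, true), (41, 26, false)], [(0, false, 4, 8), (2, false, 4, 6), (4, false, 0, 8), (5, false, 0, 7), (6, false, 4, 2), (7, false, 0, 5), (8, false, 4, 0), (9, false, 0, 18), (10, false, 0, 21), (11, false, 0, 24), (12, false, 4, 19), (13, false, 4, 22), (14, false, 4, 25), (18, false, 0, 9), (19, false, 4, 12), (21, false, 0, 10), (22, false, 4, 13), (24, false, 0, 11), (25, false, 4, 14)], [(1, 8)]⟩,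
  ⟨2, 1, 0, 0, 21, [(2, [], true), (19, [(66, [(0, 0, 1)]), (5, [(0, 0, -1)]), (66, [(0, 0, 1)])], true), (22, [(50, [(0, 0, 1)]), (21, [(0, 0, -1)]), (50, [(0, 0, 1)])], true), (25, [(59, [(0, 0, 1)]), (12, [(0, 0, -1)]), (59, [(0, 0, 1)])], false)], [(5, 19, true), (50, 22, false), (12, 25, false)], [(0, false, 8, 4), (1, false, 8, 3), (3, false, 1, 8), (4, false, 8, 0), (5, false, 1, 6), (6, false, 1, 5), (7, false, 0, 5), (8, false, 1, 3), (9, false, 0, 18), (10, false, 0, 21), (11, false, 0, 24), (12, false, 1, 18), (13, false, 1, 21), (14, false, 1, 24), (15, false, 8, 20), (16, false, 8, 23), (17, false, 8, 26), (18, false, 1, 12), (20, false, 8, 15), (21, false, 1, 13), (23, false, 8, 16), (24, false, 1, 14), (26, false, 8, 17)], []⟩,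
  ⟨6, 0, 2, 4, 0, [], [(66, 12, false), (21, 13, true), (59, 14, true)], [(0, false, 8, 4), (1, false, 3, 8), (2, false, 3, 7), (3, false, 8, 1), (4, false, 8, 0), (5, false, 0, 7), (7, false, 3, 2), (8, false, 3, 1), (9, false, 3, 19), (10, false, 3, 22), (11, false, 3, 25), (15, false, 8, 20), (16, false, 8, 23), (17, false, 8, 26), (18, false, 0, 9), (19, false, 3, 9), (20, false, 8, 15), (21, false, 0, 10), (22, false, 3, 10), (23, false, 8, 16), (24, false, 0, 11), (25, false, 3, 11), (26, false, 8, 17)], []⟩,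
  ⟨5, 0, 6, 1, 0, [], [], [(0, false, 8, 4), (1, false, 3, 8), (2, false, 3, 7), (3, false, 2, 7), (4, false, 2, 6), (6, false, 2, 4), (7, false, 2, 3), (8, false, 3, 1), (9, false, 3, 19), (10, false, 3, 22), (11, false, 3, 25), (12, false, 4, 19), (13, false, 4, 22), (14, false, 4, 25), (15, false, 2, 18), (16, false, 2, 21), (17, false, 2, 24), (18, false, 2, 15), (19, false, 3, 9), (20, false, 8, 15), (21, false, 2, 16), (22, false, 3, 10), (23, false, 8, 16), (24, false, 2, 17), (25, false, 3, 11), (26, false, 8, 17)], []⟩,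
  ⟨7, 0, 5, 0, 0, [], [], [(0, false, 8, 4), (1, false, 6, 5), (2, false, 6, 4), (3, false, 1, 8), (4, false, 6, 2), (5, false, 6, 1), (6, false, 1, 5), (8, false, 1, 3), (9, false, 6, 20), (10, false, 6, 23), (11, false, 6, 26), (12, false, 1, 18), (13, false, 1, 21), (14, false, 1, 24), (15, false, 8, 20), (16, false, 8, 23), (17, false, 8, 26), (18, false, 1, 12), (19, false, 4, 12), (20, false, 6, 9), (21, false, 1, 13), (22, false, 4, 13), (23, false, 6, 10), (24, false, 1, 14), (25, false, 4, 14), (26, false, 6, 11)], []⟩,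
  ⟨9, 1, 0, 0, 49, [(9, [], true), (10, [(71, [(0, 0, 1)]), (0, [(0, 0, -1)]), (71, [(0, 0, 1)])], true), (11, [(49, [(0, 0, 1)]), (22, [(0, 0, -1)]), (49, [(0, 0, 1)])], true)], [(0, 10, true), (22, 11, true)], [(0, false, 7, 5), (1, false, 5, 6), (2, false, 7, 3), (3, false, 7, 2), (4, false, 2, 6), (5, false, 7, 0), (6, false, 5, 1), (7, false, 5, 0), (8, false, 1, 3), (12, false, 7, 20), (13, false, 7, 23), (14, false, 7, 26), (15, false, 5, 19), (16, false, 5, 22), (17, false, 5, 25), (18, false, 2, 15), (19, false, 5, 15), (20, false, 7, 12), (21, false, 2, 16), (22, false, 5, 16), (23, false, 7, 13), (24, false, 2, 17), (25, false, 5, 17), (26, false, 7, 14)], []⟩,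
  ⟨18, 0, 9, 0, 0, [], [(71, 21, false), (49, 24, false)], [(0, false, 7, 5), (1, false, 5, 6), (2, false, 7, 3), (3, false, 7, 2), (4, false, 6, 2), (5, false, 7, 0), (6, false, 5, 1), (7, false, 5, 0), (8, false, 3, 1), (9, false, 6, 20), (10, false, 6, 23), (11, false, 6, 26), (12, false, 7, 20), (13, false, 7, 23), (14, false, 7, 26), (15, false, 5, 19), (16, false, 5, 22), (17, false, 5, 25), (19, false, 5, 15), (20, false, 7, 12), (22, false, 5, 16), (23, false, 7, 13), (25, false, 5, 17), (26, false, 7, 14)], []⟩,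
  ⟨12, 0, 18, 1, 0, [], [], [(0, false, 9, 18), (1, false, 5, 6), (2, false, 6, 4), (3, false, 9, 19), (4, false, 6, 2), (5, false, 6, 1), (6, false, 9, 20), (7, false, 5, 0), (8, false, 3, 1), (9, false, 6, 20), (10, false, 6, 23), (11, false, 6, 26), (13, false, 9, 17), (14, false, 9, 16), (15, false, 5, 19), (16, false, 9, 14), (17, false, 9, 13), (18, false, 9, 0), (19, false, 9, 3), (20, false, 9, 6), (21, false, 2, 16), (22, false, 5, 16), (23, false, 6, 10), (24, false, 2, 17), (25, false, 5, 17), (26, false, 6, 11)], []⟩,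
  ⟨15, 0, 18, 2, 0, [], [], [(0, false, 9, 18), (1, false, 12, 18), (2, false, 7, 3), (3, false, 9, 19), (4, false, 12, 19), (5, false, 7, 0), (6, false, 9, 20), (7, false, 12, 20), (8, false, 3, 1), (9, false, 6, 20), (10, false, 12, 17), (11, false, 12, 16), (12, false, 7, 20), (13, false, 9, 17), (14, false, 9, 16), (16, false, 12, 11), (17, false, 12, 10), (18, false, 12, 1), (19, false, 12, 4), (20, false, 12, 7), (21, false, 1, 13), (22, false, 3, 10), (23, false, 7, 13), (24, false, 1, 14), (25, false, 3, 11), (26, false, 7, 14)], []⟩,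
  ⟨19, 0, 15, 5, 0, [], [], [(0, false, 18, 9), (1, false, 18, 12), (2, false, 18, 15), (3, false, 7, 2), (4, false, 6, 2), (5, false, 7, 0), (6, false, 2, 4), (7, false, 2, 3), (8, false, 1, 3), (9, false, 18, 0), (10, false, 6, 23), (11, false, 6, 26), (12, false, 18, 1), (13, false, 7, 23), (14, false, 7, 26), (15, false, 18, 2), (16, false, 2, 21), (17, false, 2, 24), (18, false, 2, 15), (20, false, 7, 12), (21, false, 2, 16), (22, false, 18, 26), (23, false, 18, 25), (24, false, 2, 17), (25, false, 18, 23), (26, false, 18, 22)], []⟩,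
  ⟨20, 0, 15, 8, 0, [], [], [(0, false, 18, 9), (1, false, 18, 12), (2, false, 18, 15), (3, false, 19, 9), (4, false, 19, 12), (5, false, 19, 15), (6, false, 5, 1), (7, false, 5, 0), (8, false, 3, 1), (9, false, 19, 3), (10, false, 3, 22), (11, false, 3, 25), (12, false, 19, 4), (13, false, 1, 21), (14, false, 1, 24), (15, false, 19, 5), (16, false, 5, 22), (17, false, 5, 25), (18, false, 2, 15), (19, false, 5, 15), (21, false, 19, 26), (22, false, 18, 26), (23, false, 19, 24), (24, false, 19, 23), (25, false, 18, 23), (26, false, 19, 21)], []⟩,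
  ⟨10, 1, 0, 0, 4, [(10, [], true), (11, [(67, [(0, 0, 1)]), (4, [(0, 0, -1)]), (67, [(0, 0, 1)])], true)], [(67, 11, false)], [(0, false, 18, 9), (1, false, 18, 12), (2, false, 18, 15), (3, false, 19, 9), (4, false, 19, 12), (5, false, 19, 15), (6, false, 20, 9), (7, false, 20, 12), (8, false, 20, 15), (9, false, 20, 6), (12, false, 20, 7), (13, false, 9, 17), (14, false, 9, 16), (15, false, 20, 8), (16, false, 9, 14), (17, false, 9, 13), (18, false, 9, 0), (19, false, 9, 3), (20, false, 9, 6), (21, false, 20, 25), (22, false, 20, 24), (23, false, 19, 24), (24, false, 20, 22), (25, false, 20, 21), (26, false, 19, 21)], []⟩,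
  ⟨14, 0, 10, 15, 0, [], [(4, 13, false)], [(0, false, 18, 9), (1, false, 12, 18), (2, false, 18, 15), (3, false, 19, 9), (4, false, 19, 12), (5, false, 19, 15), (6, false, 20, 9), (7, false, 20, 12), (8, false, 20, 15), (9, false, 20, 6), (10, false, 12, 17), (11, false, 12, 16), (12, false, 20, 7), (15, false, 20, 8), (16, false, 12, 11), (17, false, 12, 10), (18, false, 12, 1), (19, false, 12, 4), (20, false, 12, 7), (21, false, 20, 25), (22, false, 20, 24), (23, false, 19, 24), (24, false, 20, 22), (25, false, 20, 21), (26, false, 19, 21)], []⟩,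
  ⟨16, 0, 14, 9, 0, [], [], [(0, false, 10, 21), (1, false, 18, 12), (2, false, 15, 18), (3, false, 10, 22), (4, false, 19, 12), (5, false, 19, 15), (6, false, 10, 23), (7, false, 20, 12), (8, false, 20, 15), (9, false, 20, 6), (10, false, 15, 14), (11, false, 15, 13), (12, false, 10, 17), (13, false, 15, 11), (14, false, 10, 15), (15, false, 10, 14), (17, false, 10, 12), (18, false, 15, 2), (19, false, 15, 5), (20, false, 15, 8), (21, false, 10, 0), (22, false, 10, 3), (23, false, 10, 6), (24, false, 20, 22), (25, false, 20, 21), (26, false, 19, 21)], []⟩,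
  ⟨11, 0, 16, 12, 0, [], [], [(0, false, 10, 21), (1, false, 14, 24), (2, false, 18, 15), (3, false, 10, 22), (4, false, 14, 25), (5, false, 19, 15), (6, false, 10, 23), (7, false, 14, 26), (8, false, 20, 15), (9, false, 14, 16), (10, false, 14, 15), (12, false, 10, 17), (13, false, 9, 17), (14, false, 10, 15), (15, false, 14, 10), (16, false, 14, 9), (17, false, 10, 12), (18, false, 9, 0), (19, false, 9, 3), (20, false, 9, 6), (21, false, 10, 0), (22, false, 10, 3), (23, false, 10, 6), (24, false, 14, 1), (25, false, 14, 4), (26, false, 14, 7)], []⟩,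
  ⟨13, 0, 11, 15, 0, [], [], [(0, false, 10, 21), (1, false, 14, 24), (2, false, 16, 21), (3, false, 10, 22), (4, false, 14, 25), (5, false, 16, 22), (6, false, 10, 23), (7, false, 14, 26), (8, false, 16, 23), (9, false, 16, 14), (10, false, 14, 15), (11, false, 16, 12), (12, false, 16, 11), (14, false, 16, 9), (15, false, 14, 10), (16, false, 14, 9), (17, false, 10, 12), (18, false, 12, 1), (19, false, 12, 4), (20, false, 12, 7), (21, false, 16, 2), (22, false, 16, 5), (23, false, 16, 8), (24, false, 14, 1), (25, false, 14, 4), (26, false, 14, 7)], []⟩,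
  ⟨17, 0, 13, 9, 0, [], [], [(0, false, 11, 24), (1, false, 14, 24), (2, false, 16, 21), (3, false, 11, 25), (4, false, 14, 25), (5, false, 16, 22), (6, false, 11, 26), (7, false, 14, 26), (8, false, 16, 23), (9, false, 16, 14), (10, false, 14, 15), (11, false, 16, 12), (12, false, 11, 16), (13, false, 11, 15), (14, false, 16, 9), (15, false, 11, 13), (16, false, 11, 12), (18, false, 15, 2), (19, false, 15, 5), (20, false, 15, 8), (21, false, 16, 2), (22, false, 16, 5), (23, false, 16, 8), (24, false, 11, 0), (25, false, 11, 3), (26, false, 11, 6)], []⟩,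
  ⟨21, 0, 13, 1, 0, [], [], [(0, false, 11, 24), (1, false, 14, 24), (2, false, 17, 24), (3, false, 11, 25), (4, false, 14, 25), (5, false, 17, 25), (6, false, 11, 26), (7, false, 14, 26), (8, false, 17, 26), (9, false, 17, 13), (10, false, 17, 12), (11, false, 15, 13), (12, false, 17, 10), (13, false, 17, 9), (14, false, 15, 10), (15, false, 11, 13), (16, false, 11, 12), (17, false, 12, 10), (18, false, 15, 2), (19, false, 15, 5), (20, false, 15, 8), (22, false, 18, 26), (23, false, 18, 25), (24, false, 17, 2), (25, false, 17, 5), (26, false, 17, 8)], []⟩,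
  ⟨22, 0, 13, 4, 0, [], [], [(0, false, 21, 10), (1, false, 21, 13), (2, false, 21, 16), (3, false, 11, 25), (4, false, 14, 25), (5, false, 17, 25), (6, false, 11, 26), (7, false, 14, 26), (8, false, 17, 26), (9, false, 17, 13), (10, false, 21, 0), (11, false, 15, 13), (12, false, 17, 10), (13, false, 21, 1), (14, false, 15, 10), (15, false, 11, 13), (16, false, 21, 2), (17, false, 12, 10), (18, false, 15, 2), (19, false, 21, 26), (20, false, 21, 25), (21, false, 19, 26), (23, false, 19, 24), (24, false, 17, 2), (25, false, 21, 20), (26, false, 21, 19)], []⟩,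
  ⟨23, 0, 13, 7, 0, [], [], [(0, false, 21, 10), (1, false, 21, 13), (2, false, 21, 16), (3, false, 22, 10), (4, false, 22, 13), (5, false, 22, 16), (6, false, 11, 26), (7, false, 14, 26), (8, false, 17, 26), (9, false, 17, 13), (10, false, 22, 3), (11, false, 15, 13), (12, false, 17, 10), (13, false, 22, 4), (14, false, 15, 10), (15, false, 11, 13), (16, false, 22, 5), (17, false, 12, 10), (18, false, 22, 26), (19, false, 21, 26), (20, false, 22, 24), (21, false, 20, 25), (22, false, 20, 24), (24, false, 22, 20), (25, false, 21, 20), (26, false, 22, 18)], []⟩,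
  ⟨24, 0, 23, 19, 0, [], [], [(0, false, 21, 10), (1, false, 21, 13), (2, false, 21, 16), (3, false, 10, 22), (4, false, 13, 22), (5, false, 16, 22), (6, false, 10, 23), (7, false, 13, 23), (8, false, 16, 23), (9, false, 13, 17), (10, false, 21, 0), (11, false, 13, 15), (12, false, 16, 11), (13, false, 21, 1), (14, false, 16, 9), (15, false, 13, 11), (16, false, 21, 2), (17, false, 13, 9), (18, false, 15, 2), (19, false, 21, 26), (20, false, 21, 25), (21, false, 13, 1), (22, false, 13, 4), (23, false, 13, 7), (25, false, 21, 20), (26, false, 21, 19)], []⟩,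
  ⟨25, 0, 23, 18, 0, [], [], [(0, false, 24, 11), (1, false, 24, 14), (2, false, 24, 17), (3, false, 22, 10), (4, false, 22, 13), (5, false, 22, 16), (6, false, 10, 23), (7, false, 13, 23), (8, false, 16, 23), (9, false, 13, 17), (10, false, 22, 3), (11, false, 24, 0), (12, false, 16, 11), (13, false, 22, 4), (14, false, 24, 1), (15, false, 13, 11), (16, false, 22, 5), (17, false, 24, 2), (18, false, 22, 26), (19, false, 24, 23), (20, false, 24, 22), (21, false, 13, 1), (22, false, 24, 20), (23, false, 24, 19), (24, false, 22, 20), (26, false, 22, 18)], []⟩,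
  ⟨26, 0, 22, 18, 0, [], [], [(0, false, 24, 11), (1, false, 24, 14), (2, false, 24, 17), (3, false, 25, 11), (4, false, 25, 14), (5, false, 25, 17), (6, false, 23, 10), (7, false, 23, 13), (8, false, 23, 16), (9, false, 13, 17), (10, false, 23, 6), (11, false, 25, 3), (12, false, 16, 11), (13, false, 23, 7), (14, false, 25, 4), (15, false, 13, 11), (16, false, 23, 8), (17, false, 25, 5), (18, false, 25, 23), (19, false, 24, 23), (20, false, 25, 21), (21, false, 25, 20), (22, false, 24, 20), (23, false, 25, 18), (24, false, 23, 19), (25, false, 23, 18)], []⟩]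

theorem frameE6_chk : repE6.frameChk cubE6 frameE6 [] = true := by decide +kernel

theorem cubicT_eq {F : Type*} [Field F] (v : I27 → F) : cubicT v = fval (codE6.ev 0 v) cubE6 := by
  have e : ∀ k i j : Fin 3, v (k, i, j) = codE6.ev 0 v (9 * k + 3 * i + j) := fun k i j =>
    (codE6.ev_idx 0 v (k, i, j)).symm
  simp only [cubicT, mat3, Matrix.det_fin_three, Matrix.trace_fin_three, Matrix.mul_apply, Fin.sum_univ_three,
    Matrix.of_apply, e]
  simp [fval, cubE6]
  ring

theorem E6univ_eq_formGroup (F : Type*) [Field F] : E6univ F = codE6.formGroup F 0 cubE6 := by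
  ext g
  exact forall_congr' fun v => by rw [cubicT_eq, cubicT_eq]; rfl

/-- The isometry group of the cubic form is generated by the root elements. -/
theorem E6univ_eq_G0 {F : Type*} [Field F] (hF : ∃ a : F, a ≠ 0 ∧ a ≠ 1) : E6univ F = repE6.G0 codE6 F := by
  rw [E6univ_eq_formGroup]
  have h := repE6.G0_le_formGroup codE6 (F := F) rformE6 0
  refine le_antisymm (fun g hg => ?_) h
  exact repE6.frameChk_sound codE6 (by decide) hF (by decide) h frameE6_chk ⟨hg, fun _ hb => nomatch hb⟩

end Cfsg.Lib.Chev.Core
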