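/- The 56-dimensional representation of type E7: conjugation by the first reflections. -/
import Cfsg.Agent.Chev.RepE7Tab

namespace Cfsg.Lib.Chev.Core

open Cfsg.Lie

theorem rconjE7_0 : rtabE7.nconjChk tabE7 0 (nth wtE7 0) (nth etE7 0) = true := by decide +kernel
theorem rconjE7_1 : rtabE7.nconjChk tabE7 1 (nth wtE7 1) (nth etE7 1) = true := by decide +kernel
theorem rconjE7_2 : rtabE7.nconjChk tabE7 2 (nth wtE7 2) (nth etE7 2) = true := by decide +kernel
theorem rconjE7_3 : rtabE7.nconjChk tabE7 3 (nth wtE7 3) (nth etE7 3) = true := by decide +kernel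

end Cfsg.Lib.Chev.Core
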