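/- The 56-dimensional representation of type E7. -/
import Cfsg.Agent.Chev.RepE7Conj

namespace Cfsg.Lib.Chev.Core

open Cfsg.Lie

theorem rconjE7_4 : rtabE7.nconjChk tabE7 4 (nth wtE7 4) (nth etE7 4) = true := by decide +kernel
theorem rconjE7_5 : rtabE7.nconjChk tabE7 5 (nth wtE7 5) (nth etE7 5) = true := by decide +kernel
theorem rconjE7_6 : rtabE7.nconjChk tabE7 6 (nth wtE7 6) (nth etE7 6) = true := by decide +kernel

/-- The 56-dimensional representation of type E7. -/
def repE7 : Rep certE7 where
  P := rtabE7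
  wts := rwtE7
  brute := false
  b₀ := 0
  r₀ := 0
  b₁ := 37
  len := rfl
  add := raddE7
  nconj := Or.inr ⟨by decide, fun i hi => by
    have hi' : i < 7 := hi
    interval_cases i
    · exact rconjE7_0
    · exact rconjE7_1
    · exact rconjE7_2
    · exact rconjE7_3
    · exact rconjE7_4
    · exact rconjE7_5
    · exact rconjE7_6⟩
  comm := rcommE7
  hel := rhelE7
  stab := rstabE7

theorem rspanE7 : repE7.spanChk [[(0, 1), (1, 1), (2, 1), (3, -1), (4, -1), (6, 1), (13, -2)], [(3, 1), (4, 1), (13, 1)], [(0, 1), (1, 1), (2, 1), (13, -1)], [(0, 1), (1, 1), (2, 1), (3, 1)], [(0, 1), (1, 1), (2, 1)], [(0, 1), (1, 1)], [(0, 1)]] = true := by decide +kernel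

/-- The torus of the presented group is as large as possible. -/
theorem hHom_stGen_injective_E7 (F : Type*) [Field F] :
    Function.Injective ((certE7.model_stGen F rootE7).toStRelN.hHom rootE7) :=
  repE7.hHom_stGen_injective repE7.P.finCoding rootE7 (repE7.span_of_chk _ rspanE7)

end Cfsg.Lib.Chev.Core
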