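import Mathlib.LinearAlgebra.SymplecticGroup
import Mathlib.LinearAlgebra.Matrix.Action
import Mathlib.LinearAlgebra.Matrix.BilinearForm
import Mathlib.Tactic.LinearCombination
import Mathlib.Tactic.Module
import Mathlib.Tactic.FieldSimp

/-!
# The symplectic group acting on vectors: stabilisers of basis vectors
-/

set_option autoImplicit false

namespace Cfsg.Lib.Chev.SpAm

open Matrix Sum

variable {F : Type*} [Field F] {n : ℕ}

/-- The index set of the hyperbolic basis. -/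
abbrev Ix (n : ℕ) : Type := Fin n ⊕ Fin n

/-- The symplectic group. -/
abbrev Sp (n : ℕ) (F : Type*) [Field F] := ↥(Matrix.symplecticGroup (Fin n) F)

/-- The standard alternating form. -/
noncomputable def Bf : LinearMap.BilinForm F (Ix n → F) := Matrix.toBilin' (J (Fin n) F)

theorem Bf_eq_1' : type_of% @Bf.eq_1 := @Bf.eq_1

/-- The standard basis. -/
def bv (i : Ix n) : Ix n → F := Pi.single i 1

theorem bv_eq_1' : type_of% @bv.eq_1 := @bv.eq_1

theorem Bf_apply (x y : Ix n → F) : Bf x y = x ⬝ᵥ J (Fin n) F *ᵥ y := Matrix.toBilin'_apply' _ _ _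

theorem J_mulVec_inl (y : Ix n → F) (k : Fin n) : (J (Fin n) F *ᵥ y) (inl k) = - y (inr k) := by
  simp [J, fromBlocks_mulVec, Matrix.neg_mulVec]

theorem J_mulVec_inr (y : Ix n → F) (k : Fin n) : (J (Fin n) F *ᵥ y) (inr k) = y (inl k) := by
  simp [J, fromBlocks_mulVec]

theorem Bf_swap (x y : Ix n → F) : Bf x y = - Bf y x := by
  simp only [Bf_apply, dotProduct, Fintype.sum_sum_type, J_mulVec_inl, J_mulVec_inr, neg_add,
    ← Finset.sum_neg_distrib]
  rw [add_comm]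
  congr 1 <;> exact Finset.sum_congr rfl fun _ _ => by ring

@[simp] theorem Bf_self (x : Ix n → F) : Bf x x = 0 := by
  simp only [Bf_apply, dotProduct, Fintype.sum_sum_type, J_mulVec_inl, J_mulVec_inr, ← Finset.sum_add_distrib]
  exact Finset.sum_eq_zero fun _ _ => by ring

theorem Bf_inl (k : Fin n) (y : Ix n → F) : Bf (bv (inl k)) y = - y (inr k) := by
  rw [Bf_apply, bv, single_one_dotProduct, J_mulVec_inl]

theorem Bf_inr (k : Fin n) (y : Ix n → F) : Bf (bv (inr k)) y = y (inl k) := by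
  rw [Bf_apply, bv, single_one_dotProduct, J_mulVec_inr]

theorem Bf_bv_eq_zero {i : Ix n} {y : Ix n → F} : Bf (bv i) y = 0 ↔ y i.swap = 0 := by
  rcases i with k | k
  · simp [Bf_inl]
  · simp [Bf_inr]

theorem Bf_ne_comm {x y : Ix n → F} (h : Bf x y ≠ 0) : Bf y x ≠ 0 := by
  rw [Bf_swap]; exact neg_ne_zero.2 h

theorem bv_apply (i k : Ix n) : (bv i : Ix n → F) k = if k = i then 1 else 0 := by
  simp [bv, Pi.single_apply]

theorem bv_ne_zero (i : Ix n) : (bv i : Ix n → F) ≠ 0 := fun h => by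
  simpa [bv_apply] using congrFun h i

theorem sp_smul (A : Sp n F) (x : Ix n → F) : A • x = (A : Matrix (Ix n) (Ix n) F) *ᵥ x := rfl

theorem sp_smul_smul (A : Sp n F) (c : F) (x : Ix n → F) : A • c • x = c • A • x := mulVec_smul _ _ _

theorem Bf_smul (A : Sp n F) (x y : Ix n → F) : Bf (A • x) (A • y) = Bf x y := by
  have h := SymplecticGroup.mem_iff'.1 A.2
  rw [Bf_apply, Bf_apply, sp_smul, sp_smul, mulVec_mulVec, ← vecMul_transpose, ← dotProduct_mulVec,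
    mulVec_mulVec, ← Matrix.mul_assoc, h]

theorem mem_of_Bf {A : Matrix (Ix n) (Ix n) F} (h : ∀ x y, Bf (A *ᵥ x) (A *ᵥ y) = Bf x y) :
    A ∈ Matrix.symplecticGroup (Fin n) F := by
  rw [SymplecticGroup.mem_iff']
  apply Matrix.toBilin'.injective
  refine LinearMap.ext₂ fun x y => ?_
  rw [← Matrix.toBilin'_comp]
  exact h x y

theorem sp_ext {A B : Sp n F} (h : ∀ x : Ix n → F, A • x = B • x) : A = B :=
  Subtype.ext (Matrix.ext_of_mulVec_single fun _ => h _)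

theorem sum_bv (x : Ix n → F) : ∑ i, x i • bv i = x := by
  ext k; simp [bv_apply]

/-- The matrix of `x ↦ x + B(x,e) u + B(x,u) e + c B(x,e) e`. -/
def qm (e u : Ix n → F) (c : F) : Matrix (Ix n) (Ix n) F :=
  1 + vecMulVec u (J (Fin n) F *ᵥ e) + vecMulVec e (J (Fin n) F *ᵥ u) + c • vecMulVec e (J (Fin n) F *ᵥ e)

theorem qm_eq_1' : type_of% @qm.eq_1 := @qm.eq_1

theorem qm_mulVec (e u : Ix n → F) (c : F) (x : Ix n → F) :
    qm e u c *ᵥ x = x + Bf x e • u + Bf x u • e + (c * Bf x e) • e := by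
  simp only [qm, add_mulVec, one_mulVec, smul_mulVec, vecMulVec_mulVec, Bf_apply, dotProduct_comm _ x,
    mul_smul, op_smul_eq_smul]

theorem qm_mem {e u : Ix n → F} (h : Bf u e = 0) (c : F) : qm e u c ∈ Matrix.symplecticGroup (Fin n) F :=
  mem_of_Bf fun x y => by
    have h' : Bf e u = 0 := by rw [Bf_swap, h, neg_zero]
    simp only [qm_mulVec, map_add, map_smul, LinearMap.add_apply, LinearMap.smul_apply, smul_eq_mul, h, h',
      Bf_self, Bf_swap e y, Bf_swap u y]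
    ring

open Classical in
/-- The elements of the unipotent radical of the stabiliser of `e`. -/
noncomputable def q (e u : Ix n → F) (c : F) : Sp n F := if h : Bf u e = 0 then ⟨qm e u c, qm_mem h c⟩ else 1

theorem q_eq_1' : type_of% @q.eq_1 := @q.eq_1

theorem q_smul {e u : Ix n → F} (h : Bf u e = 0) (c : F) (x : Ix n → F) :
    q e u c • x = x + Bf x e • u + Bf x u • e + (c * Bf x e) • e := by
  rw [q, dif_pos h]; exact qm_mulVec e u c x

theorem q_mul {e u v : Ix n → F} (hu : Bf u e = 0) (hv : Bf v e = 0) (c d : F) :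
    q e u c * q e v d = q e (u + v) (c + d + Bf v u) := sp_ext fun x => by
  have h' : Bf e u = 0 := by rw [Bf_swap, hu, neg_zero]
  rw [mul_smul, q_smul hu, q_smul hv, q_smul (by simp [hu, hv])]
  simp only [map_add, map_smul, LinearMap.add_apply, LinearMap.smul_apply, smul_eq_mul, hv, h', Bf_self]
  module

theorem q_zero (e : Ix n → F) : q e 0 0 = 1 := sp_ext fun x => by
  rw [q_smul (by simp)]; simp

theorem q_inv {e u : Ix n → F} (hu : Bf u e = 0) (c : F) : (q e u c)⁻¹ = q e (-u) (-c) := by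
  rw [inv_eq_iff_mul_eq_one, q_mul hu (by simp [hu])]
  simp [q_zero]

theorem conj_q (g : Sp n F) {e u : Ix n → F} (hu : Bf u e = 0) (c : F) :
    g * q e u c * g⁻¹ = q (g • e) (g • u) c := sp_ext fun x => by
  obtain ⟨x, rfl⟩ : ∃ y, x = g • y := ⟨g⁻¹ • x, by simp⟩
  rw [mul_smul, mul_smul, inv_smul_smul, q_smul hu, q_smul (by rw [Bf_smul, hu]), Bf_smul, Bf_smul]
  simp only [smul_add, sp_smul_smul]

theorem q_smul_self {e u : Ix n → F} (h : Bf u e = 0) (c : F) : q e u c • e = e := by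
  rw [q_smul h, Bf_swap e u, h]; simp

/-- A transvection moving `x` to `y`. -/
theorem exists_q_smul {x y : Ix n → F} (h : Bf x y ≠ 0) : ∃ c, q (y - x) 0 c • x = y := by
  refine ⟨(Bf x y)⁻¹, ?_⟩
  rw [q_smul (by simp)]
  simp [inv_mul_cancel₀ h]

/-- The vectors supported in `T`. -/
def Supp (T : Set (Ix n)) : Submodule F (Ix n → F) where
  carrier := {x | ∀ i, i ∉ T → x i = 0}
  zero_mem' _ _ := rfl
  add_mem' ha hb i hi := by simp [ha i hi, hb i hi]
  smul_mem' c _ ha i hi := by simp [ha i hi]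

theorem Supp_eq_1' : type_of% @Supp.eq_1 := @Supp.eq_1

theorem mem_Supp {T : Set (Ix n)} {x : Ix n → F} : x ∈ Supp T ↔ ∀ i, i ∉ T → x i = 0 := Iff.rfl

theorem bv_mem_Supp {T : Set (Ix n)} {i : Ix n} (h : i ∈ T) : (bv i : Ix n → F) ∈ Supp T := fun k hk => by
  rw [bv_apply, if_neg]; rintro rfl; exact hk h

theorem Supp_mono {T T' : Set (Ix n)} (h : T ⊆ T') : (Supp T : Submodule F _) ≤ Supp T' :=
  fun _ hx i hi => hx i fun h' => hi (h h')

/-- The pointwise stabiliser of the basis vectors with index in `T`. -/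
def FixI (T : Set (Ix n)) : Subgroup (Sp n F) where
  carrier := {A | ∀ i ∈ T, A • (bv i : Ix n → F) = bv i}
  one_mem' _ _ := one_smul _ _
  mul_mem' ha hb i hi := by rw [mul_smul, hb i hi, ha i hi]
  inv_mem' ha i hi := by rw [inv_smul_eq_iff, ha i hi]

theorem FixI_eq_1' : type_of% @FixI.eq_1 := @FixI.eq_1

theorem mem_FixI {T : Set (Ix n)} {A : Sp n F} : A ∈ FixI T ↔ ∀ i ∈ T, A • (bv i : Ix n → F) = bv i := Iff.rfl

theorem FixI_anti {T T' : Set (Ix n)} (h : T ⊆ T') : (FixI T' : Subgroup (Sp n F)) ≤ FixI T :=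
  fun _ hA i hi => hA i (h hi)

theorem FixI.apply {T : Set (Ix n)} {A : Sp n F} (hA : A ∈ FixI T) (x : Ix n → F) {i : Ix n} (hi : i.swap ∈ T) :
    (A • x) i = x i := by
  have h := Bf_smul A (bv i.swap) x
  rw [hA _ hi, ← sub_eq_zero, ← map_sub, Bf_bv_eq_zero, swap_swap] at h
  exact sub_eq_zero.1 h

theorem FixI.smul_eq {T : Set (Ix n)} {A : Sp n F} (hA : A ∈ FixI T) {x : Ix n → F} (hx : x ∈ Supp T) :
    A • x = x := by
  conv_lhs => rw [← sum_bv x]
  rw [Finset.smul_sum]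
  conv_rhs => rw [← sum_bv x]
  refine Finset.sum_congr rfl fun i _ => ?_
  by_cases hi : i ∈ T
  · rw [sp_smul_smul, hA i hi]
  · rw [hx i hi, zero_smul, smul_zero]

theorem FixI.smul_mem {T U : Set (Ix n)} {A : Sp n F} (hA : A ∈ FixI T) (h : ∀ i, i ∉ U → i.swap ∈ T)
    {x : Ix n → F} (hx : x ∈ Supp U) : A • x ∈ Supp U := fun i hi => by
  rw [FixI.apply hA x (h i hi), hx i hi]

theorem FixI.comm {T T' : Set (Ix n)} {A B : Sp n F} (hA : A ∈ FixI T) (hB : B ∈ FixI T')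
    (h : ∀ i : Ix n, i.swap ∈ T ∨ i ∈ T') : A * B = B * A := sp_ext fun x => by
  have h1 : A • x - x ∈ Supp T' := fun i hi => by
    rw [Pi.sub_apply, FixI.apply hA x ((h i).resolve_right hi), sub_self]
  have h2 : B • x - x ∈ Supp T := fun i hi => by
    rw [Pi.sub_apply, FixI.apply hB x ((h i.swap).resolve_left (by simpa using hi)), sub_self]
  have h3 := FixI.smul_eq hA h2
  have h4 := FixI.smul_eq hB h1
  rw [smul_sub] at h3 h4
  rw [mul_smul, mul_smul]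
  linear_combination (exp := 1) h3 - h4

theorem FixI.eq_one {A : Sp n F} (hA : A ∈ FixI Set.univ) : A = 1 :=
  sp_ext fun x => by rw [FixI.smul_eq hA (fun i hi => (hi trivial).elim), one_smul]

theorem q_mem_FixI {T U : Set (Ix n)} {e u : Ix n → F} (hu : Bf u e = 0) (c : F) (he : e ∈ Supp U)
    (hu' : u ∈ Supp U) (h : ∀ i ∈ T, i.swap ∉ U) : q e u c ∈ FixI T := fun i hi => by
  rw [q_smul hu, Bf_bv_eq_zero.2 (he _ (h i hi)), Bf_bv_eq_zero.2 (hu' _ (h i hi))]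
  simp

theorem exists_Bf_ne {U : Set (Ix n)} (hU : ∀ i ∈ U, i.swap ∈ U) {a : Ix n → F} (ha : a ∈ Supp U) (h0 : a ≠ 0) :
    ∃ x ∈ Supp U, Bf x a ≠ 0 := by
  obtain ⟨i, hi⟩ := Function.ne_iff.1 h0
  refine ⟨bv i.swap, bv_mem_Supp (hU i (by_contra fun h => hi (ha i h))), ?_⟩
  rwa [Ne, Bf_bv_eq_zero, swap_swap]

theorem exists_Bf_ne₂ {U : Set (Ix n)} (hU : ∀ i ∈ U, i.swap ∈ U) {a b : Ix n → F} (ha : a ∈ Supp U) (h0 : a ≠ 0)
    (hb : b ∈ Supp U) (h1 : b ≠ 0) : ∃ x ∈ Supp U, Bf x a ≠ 0 ∧ Bf x b ≠ 0 := by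
  obtain ⟨x, hx, h2⟩ := exists_Bf_ne hU ha h0
  obtain ⟨y, hy, h3⟩ := exists_Bf_ne hU hb h1
  by_cases h4 : Bf x b = 0
  · by_cases h5 : Bf y a = 0
    · exact ⟨x + y, add_mem hx hy, by simpa [h5] using h2, by simpa [h4] using h3⟩
    · exact ⟨y, hy, h5, h3⟩
  · exact ⟨x, hx, h2, h4⟩

theorem exists_add_mul_ne (hF : ∃ a : F, a ≠ 0 ∧ a ≠ 1) {x y : F} (h : x ≠ 0 ∨ y ≠ 0) :
    ∃ t : F, t ≠ 0 ∧ x + t * y ≠ 0 := by
  obtain ⟨a, h0, h1⟩ := hF
  by_contra hc
  push Not at hc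
  have h2 := hc 1 one_ne_zero
  have h3 := hc a h0
  have h4 : y = 0 := by
    have : (a - 1) * y = 0 := by linear_combination h3 - h2
    exact (mul_eq_zero.1 this).resolve_left (sub_ne_zero.2 h1)
  subst h4
  simp at h h2
  exact h h2

theorem exists_Bf_ne₃ (hF : ∃ a : F, a ≠ 0 ∧ a ≠ 1) {U : Set (Ix n)} (hU : ∀ i ∈ U, i.swap ∈ U)
    {a b c : Ix n → F} (ha : a ∈ Supp U) (h0 : a ≠ 0) (hb : b ∈ Supp U) (h1 : b ≠ 0) (hc : c ∈ Supp U)
    (h2 : c ≠ 0) : ∃ x ∈ Supp U, Bf x a ≠ 0 ∧ Bf x b ≠ 0 ∧ Bf x c ≠ 0 := by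
  obtain ⟨x, hx, h3, h4⟩ := exists_Bf_ne₂ hU ha h0 hb h1
  obtain ⟨z, hz, h5, h6⟩ := exists_Bf_ne₂ hU ha h0 hc h2
  by_cases h7 : Bf x c = 0
  · by_cases h8 : Bf z b = 0
    · obtain ⟨t, ht, h9⟩ := exists_add_mul_ne hF (Or.inl h3) (y := Bf z a)
      exact ⟨x + t • z, add_mem hx (Submodule.smul_mem _ _ hz), by simpa using h9, by simpa [h8] using h4,
        by simpa [h7, ht] using h6⟩
    · exact ⟨z, hz, h5, h8, h6⟩
  · exact ⟨x, hx, h3, h4, h7⟩

/-- Transitivity on the non-zero vectors of a non-degenerate coordinate subspace. -/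
theorem exists_smul_eq {U : Set (Ix n)} (hU : ∀ i ∈ U, i.swap ∈ U) {a b : Ix n → F} (ha : a ∈ Supp U)
    (h0 : a ≠ 0) (hb : b ∈ Supp U) (h1 : b ≠ 0) : ∃ g ∈ (FixI Uᶜ : Subgroup (Sp n F)), g • a = b := by
  have key : ∀ {a b : Ix n → F}, a ∈ Supp U → b ∈ Supp U → Bf a b ≠ 0 →
      ∃ g ∈ (FixI Uᶜ : Subgroup (Sp n F)), g • a = b := fun ha hb h => by
    obtain ⟨c, hc⟩ := exists_q_smul h
    exact ⟨_, q_mem_FixI (by simp) c (sub_mem hb ha) (zero_mem _) fun i hi h' => hi (by simpa using hU _ h'), hc⟩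
  obtain ⟨x, hx, h2, h3⟩ := exists_Bf_ne₂ hU ha h0 hb h1
  obtain ⟨g, hg, e⟩ := key ha hx (Bf_ne_comm h2)
  obtain ⟨g', hg', e'⟩ := key hx hb h3
  exact ⟨g' * g, mul_mem hg' hg, by rw [mul_smul, e, e']⟩

/-- A vector not orthogonal to `e_k` is the image of a multiple of `f_k`. -/
theorem exists_q_smul_inr {U : Set (Ix n)} (k : Fin n) {y : Ix n → F} (hy : y ∈ Supp U) (h : y (inr k) ≠ 0) :
    ∃ u ∈ (Supp (U \ {inl k, inr k}) : Submodule F _), ∃ c, Bf u (bv (inl k)) = 0 ∧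
      q (bv (inl k)) u c • y (inr k) • bv (inr k) = y := by
  set u : Ix n → F := (y (inr k))⁻¹ • (y - y (inl k) • bv (inl k) - y (inr k) • bv (inr k)) with hu
  have h1 : u (inl k) = 0 := by simp [hu, bv_apply]
  have h2 : u (inr k) = 0 := by simp [hu, bv_apply]
  have h3 : Bf u (bv (inl k)) = 0 := by rw [Bf_swap, Bf_inl, h2]; simp
  refine ⟨u, fun i hi => ?_, y (inl k) / y (inr k), h3, ?_⟩
  · by_cases h4 : i = inl k
    · rw [h4, h1]
    by_cases h5 : i = inr k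
    · rw [h5, h2]
    have : i ∉ U := fun h' => hi ⟨h', by simp [h4, h5]⟩
    simp [hu, bv_apply, h4, h5, hy i this]
  · rw [sp_smul_smul, q_smul h3, Bf_inr, Bf_inr, h1, bv_apply, if_pos rfl, hu]
    match_scalars <;> field_simp <;> ring

end Cfsg.Lib.Chev.SpAm
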