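import Mathlib.GroupTheory.GroupAction.Defs
import Mathlib.Algebra.Group.Subgroup.Pointwise
import Mathlib.Tactic.Group

/-!
# A covering lemma for groups acting on graphs of diameter two all of whose triangles lift
-/

set_option autoImplicit false

namespace Cfsg.Lib.Chev

/-- The data of a group `E` mapping to the automorphisms of a graph, a subgroup `H` fixing the base vertex and a set
`A` of elements moving the base vertex to its neighbours. -/
structure Cover {E X : Type*} [Group E] [MulAction E X] (adj : X → X → Prop) (x0 : X) (H : Subgroup E)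
    (A : Set E) : Prop where
  symm : ∀ {x y}, adj x y → adj y x
  inv : ∀ a ∈ A, ∀ {x y}, adj x y → adj (a • x) (a • y)
  fix : ∀ h ∈ H, h • x0 = x0
  adj_of_mem : ∀ a ∈ A, adj x0 (a • x0)
  lift : ∀ y, adj x0 y → ∃ a ∈ A, a • x0 = y
  uniq : ∀ a ∈ A, ∀ b ∈ A, a • x0 = b • x0 → a⁻¹ * b ∈ H
  inv_mem : ∀ a ∈ A, a⁻¹ ∈ A
  mul_mem : ∀ a ∈ A, ∀ h ∈ H, a * h ∈ A
  tri : ∀ a ∈ A, ∀ b ∈ A, adj (a • x0) (b • x0) → a⁻¹ * b ∈ A
  quad : ∀ a b c d, adj a b → adj b c → adj c d → adj d a → adj b d ∨ ∃ e, adj e a ∧ adj e b ∧ adj e c ∧ adj e d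
  pent : ∀ c d, adj c d → ∃ x, adj x x0 ∧ adj x c ∧ adj x d
  ne : ∃ y, adj x0 y

namespace Cover

variable {E X : Type*} [Group E] [MulAction E X] {adj : X → X → Prop} {x0 : X} {H : Subgroup E} {A : Set E}
  (C : Cover adj x0 H A)
include C

theorem inv' {g : E} (hg : g ∈ Subgroup.closure A) {x y : X} (h : adj x y) : adj (g • x) (g • y) := by
  induction hg using Subgroup.closure_induction_left with
  | one => simpa using h
  | mul_left a ha b _ ih => rw [mul_smul, mul_smul]; exact C.inv a ha ih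
  | inv_mul_cancel a ha b _ ih => rw [mul_smul, mul_smul]; exact C.inv _ (C.inv_mem a ha) ih

omit C in
theorem mem_of_rel {u v : E} (hu : u ∈ Subgroup.closure A) (h : u⁻¹ * v ∈ A) : v ∈ Subgroup.closure A := by
  simpa using Subgroup.mul_mem _ hu (Subgroup.subset_closure h)

theorem symm' {u v : E} (h : u⁻¹ * v ∈ A) : v⁻¹ * u ∈ A := by simpa using C.inv_mem _ h

theorem rel_of_eq {u v w : E} (h : u⁻¹ * v ∈ A) (h' : v⁻¹ * w ∈ H) : u⁻¹ * w ∈ A := by
  simpa [mul_assoc] using C.mul_mem _ h _ h'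

theorem adj' {u v : E} (hu : u ∈ Subgroup.closure A) (h : u⁻¹ * v ∈ A) : adj (u • x0) (v • x0) := by
  simpa [← mul_smul] using C.inv' hu (C.adj_of_mem _ h)

theorem lift' {u : E} (hu : u ∈ Subgroup.closure A) {y : X} (h : adj (u • x0) y) :
    ∃ v, u⁻¹ * v ∈ A ∧ v • x0 = y := by
  obtain ⟨a, ha, e⟩ := C.lift (u⁻¹ • y) (by simpa using C.inv' (Subgroup.inv_mem _ hu) h)
  exact ⟨u * a, by simpa using ha, by rw [mul_smul, e, smul_inv_smul]⟩

theorem uniq' {u v w : E} (h : u⁻¹ * v ∈ A) (h' : u⁻¹ * w ∈ A) (e : v • x0 = w • x0) : v⁻¹ * w ∈ H := by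
  simpa [mul_assoc] using C.uniq _ h _ h' (by rw [mul_smul, mul_smul, e])

theorem tri' {u v w : E} (hu : u ∈ Subgroup.closure A) (h : u⁻¹ * v ∈ A) (h' : u⁻¹ * w ∈ A)
    (e : adj (v • x0) (w • x0)) : v⁻¹ * w ∈ A := by
  simpa [mul_assoc] using C.tri _ h _ h' (by
    rw [mul_smul, mul_smul]; exact C.inv' (Subgroup.inv_mem _ hu) e)

theorem quad' {u v w v' w' : E} (hu : u ∈ Subgroup.closure A) (h1 : u⁻¹ * v ∈ A) (h2 : v⁻¹ * w ∈ A)
    (h3 : u⁻¹ * v' ∈ A) (h4 : v'⁻¹ * w' ∈ A) (e : w • x0 = w' • x0) : w⁻¹ * w' ∈ H := by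
  have hv := mem_of_rel hu h1
  have hv' := mem_of_rel hu h3
  rcases C.quad _ _ _ _ (C.adj' hu h1) (C.adj' hv h2) (e ▸ C.symm (C.adj' hv' h4)) (C.symm (C.adj' hu h3)) with
    h | ⟨x, ha, hb, hc, hd⟩
  · have h5 := C.tri' hu h1 h3 h
    exact C.uniq' (C.tri' hv h5 h2 (e ▸ C.adj' hv' h4)) h4 e
  · obtain ⟨z, hz, rfl⟩ := C.lift' hu (C.symm ha)
    have h5 := C.tri' hu hz h1 hb
    have h6 := C.tri' hu hz h3 hd
    exact C.uniq' (C.tri' hv (C.symm' h5) h2 hc) (C.tri' hv' (C.symm' h6) h4 (e ▸ hc)) e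

theorem exists_two {g : E} (hg : g ∈ Subgroup.closure A) : ∃ v, (1 : E)⁻¹ * v ∈ A ∧ v⁻¹ * g ∈ A := by
  have key : ∀ w ∈ Subgroup.closure A, ∀ a ∈ A, (∃ v, (1 : E)⁻¹ * v ∈ A ∧ v⁻¹ * w ∈ A) →
      ∃ v, (1 : E)⁻¹ * v ∈ A ∧ v⁻¹ * (w * a) ∈ A := by
    rintro w hw a ha ⟨v, h1, h2⟩
    have h3 : w⁻¹ * (w * a) ∈ A := by simpa using ha
    obtain ⟨x, hx, hc, hd⟩ := C.pent _ _ (C.adj' hw h3)
    obtain ⟨z, hz, rfl⟩ := C.lift' (Subgroup.one_mem _) (y := x) (by simpa using C.symm hx)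
    obtain ⟨w', hw', e⟩ := C.lift' (mem_of_rel (Subgroup.one_mem _) hz) hc
    have h4 := C.rel_of_eq hw' (C.quad' (Subgroup.one_mem _) hz hw' h1 h2 e)
    exact ⟨z, hz, C.tri' hw (C.symm' h4) h3 hd⟩
  induction hg using Subgroup.closure_induction_right with
  | one =>
    obtain ⟨y, hy⟩ := C.ne
    obtain ⟨a, ha, -⟩ := C.lift y hy
    exact ⟨a, by simpa using ha, by simpa using C.inv_mem a ha⟩
  | mul_right w hw a ha ih => exact key w hw a ha ih
  | mul_inv_cancel w hw a ha ih => exact key w hw _ (C.inv_mem a ha) ih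

/-- The stabiliser of the base vertex in the group generated by `A` lies in `H`. -/
theorem mem_of_fix {g : E} (hg : g ∈ Subgroup.closure A) (h : g • x0 = x0) : g ∈ H := by
  obtain ⟨v, h1, h2⟩ := C.exists_two hg
  simpa using C.quad' (w := 1) (Subgroup.one_mem _) h1 (C.symm' h1) h1 h2 (by rw [h, one_smul])

theorem le_closure : H ≤ Subgroup.closure A := fun h hh => by
  obtain ⟨y, hy⟩ := C.ne
  obtain ⟨a, ha, -⟩ := C.lift y hy
  simpa using Subgroup.mul_mem _ (Subgroup.inv_mem _ (Subgroup.subset_closure ha))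
    (Subgroup.subset_closure (C.mul_mem a ha h hh))

/-- Every vertex having a neighbour is in the orbit of the base vertex. -/
theorem exists_smul {c d : X} (h : adj c d) : ∃ g ∈ Subgroup.closure A, g • x0 = c := by
  obtain ⟨x, hx, hc, -⟩ := C.pent _ _ h
  obtain ⟨z, hz, rfl⟩ := C.lift' (Subgroup.one_mem _) (y := x) (by simpa using C.symm hx)
  obtain ⟨w, hw, e⟩ := C.lift' (mem_of_rel (Subgroup.one_mem _) hz) hc
  exact ⟨w, mem_of_rel (mem_of_rel (Subgroup.one_mem _) hz) hw, e⟩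

end Cover

end Cfsg.Lib.Chev
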