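import Cfsg.Agent.Chev.SpAmalA
import Cfsg.Agent.Chev.TitsCover

/-!
# The symplectic group as the universal completion of an amalgam of small subgroups
-/

set_option autoImplicit false
set_option linter.unusedSectionVars false

namespace Cfsg.Lib.Chev.SpAm

open Matrix Sum

variable {F : Type*} [Field F] {n : ℕ} {H : Type*} [Group H]

/-- A subgroup of a product which is the graph of a homomorphism. -/
def Fn {Γ : Type*} [Group Γ] (K : Subgroup (Γ × H)) : Prop := ∀ g ∈ K, g.1 = 1 → g = 1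

theorem Fn_eq_1' : type_of% @Fn.eq_1 := @Fn.eq_1

section
variable {Γ : Type*} [Group Γ] {K K' : Subgroup (Γ × H)}

theorem Fn.mono (h : Fn K) (h' : K' ≤ K) : Fn K' := fun g hg => h g (h' hg)

theorem Fn.eq (h : Fn K) {a b : Γ × H} (ha : a ∈ K) (hb : b ∈ K) (e : a.1 = b.1) : a = b :=
  inv_mul_eq_one.1 (h _ (mul_mem (inv_mem ha) hb) (by simp [e]))

theorem Fn.comm (h : Fn K) {a b : Γ × H} (ha : a ∈ K) (hb : b ∈ K) (e : a.1 * b.1 = b.1 * a.1) : a * b = b * a :=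
  h.eq (mul_mem ha hb) (mul_mem hb ha) e

end

/-- The number of the hyperbolic plane containing a basis vector. -/
def idx (i : Ix n) : ℕ := (Sum.elim id id i : Fin n)

theorem idx_eq_1' : type_of% @idx.eq_1 := @idx.eq_1

@[simp] theorem idx_inl (k : Fin n) : idx (inl k : Ix n) = k := rfl
@[simp] theorem idx_inr (k : Fin n) : idx (inr k : Ix n) = k := rfl
@[simp] theorem idx_swap (i : Ix n) : idx i.swap = idx i := by cases i <;> rfl

/-- The indices of one plane. -/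
abbrev pl (k : ℕ) : Set (Ix n) := {i | idx i = k}

/-- The indices of the later planes. -/
abbrev ge (k : ℕ) : Set (Ix n) := {i | k ≤ idx i}

/-- The indices of the basis vectors fixed by `M_k`. -/
abbrev TM (k : ℕ) : Set (Ix n) := {i | i.isLeft = true ∨ (idx i ≠ k ∧ idx i ≠ k + 1)}

/-- The amalgam, given by the graphs of the homomorphisms. -/
structure Amal (S M : Fin n → Subgroup (Sp n F × H)) : Prop where
  S_le : ∀ k, ∀ g ∈ S k, g.1 ∈ FixI (pl k)ᶜ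
  S_ex : ∀ k : Fin n, ∀ A ∈ FixI (pl k)ᶜ, ∃ g ∈ S k, g.1 = A
  M_le : ∀ k : Fin n, (k : ℕ) + 1 < n → ∀ g ∈ M k, g.1 ∈ FixI (TM k)
  M_ex : ∀ k : Fin n, (k : ℕ) + 1 < n → ∀ A ∈ FixI (TM k), ∃ g ∈ M k, g.1 = A
  SS : ∀ k l, k ≠ l → Fn (S k ⊔ S l)
  MM : ∀ k l : Fin n, k ≠ l → (k : ℕ) + 1 < n → (l : ℕ) + 1 < n → Fn (M k ⊔ M l)
  MS : ∀ k l : Fin n, (k : ℕ) + 1 < n → Fn (M k ⊔ S l)

/-- The subgroup generated by the members of the amalgam living on the later planes. -/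
def EE (S M : Fin n → Subgroup (Sp n F × H)) (j : ℕ) : Subgroup (Sp n F × H) :=
  Subgroup.closure {g | (∃ k : Fin n, j ≤ k ∧ g ∈ S k) ∨ ∃ k : Fin n, j ≤ k ∧ (k : ℕ) + 1 < n ∧ g ∈ M k}

theorem EE_eq_1' : type_of% @EE.eq_1 := @EE.eq_1

variable {S M : Fin n → Subgroup (Sp n F × H)}

theorem S_le_EE {j : ℕ} {k : Fin n} (h : j ≤ k) : S k ≤ EE S M j :=
  fun _ hg => Subgroup.subset_closure (Or.inl ⟨k, h, hg⟩)

theorem M_le_EE {j : ℕ} {k : Fin n} (h : j ≤ k) (hk : (k : ℕ) + 1 < n) : M k ≤ EE S M j :=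
  fun _ hg => Subgroup.subset_closure (Or.inr ⟨k, h, hk, hg⟩)

theorem EE_le {j : ℕ} {K : Subgroup (Sp n F × H)} (h1 : ∀ k : Fin n, j ≤ k → S k ≤ K)
    (h2 : ∀ k : Fin n, j ≤ k → (k : ℕ) + 1 < n → M k ≤ K) : EE S M j ≤ K := by
  refine (Subgroup.closure_le _).2 ?_
  rintro g (⟨k, h, hg⟩ | ⟨k, h, hk, hg⟩)
  · exact h1 k h hg
  · exact h2 k h hk hg

theorem EE_anti {j j' : ℕ} (h : j ≤ j') : EE S M j' ≤ EE S M j :=
  EE_le (fun _ hk => S_le_EE (h.trans hk)) fun _ hk => M_le_EE (h.trans hk)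

/-- The induction hypothesis. -/
structure Good (S M : Fin n → Subgroup (Sp n F × H)) (j : Fin n) : Prop where
  comm : ∀ g ∈ EE S M j, g.1 • (bv (inl j) : Ix n → F) = bv (inl j) → ∀ i : Fin n, (i : ℕ) + 1 = j →
    ∀ m ∈ M i, g * m = m * g
  fn : Fn (EE S M j)
  ex : ∀ A ∈ FixI (ge j)ᶜ, ∃ g ∈ EE S M j, g.1 = A

namespace Amal

variable (h : Amal S M)
include h

theorem EE_fix {j : ℕ} {g : Sp n F × H} (hg : g ∈ EE S M j) : g.1 ∈ FixI (ge j)ᶜ := by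
  refine EE_le (K := (FixI (ge j)ᶜ).comap (MonoidHom.fst _ _)) (fun k hk g hg => ?_) (fun k hk hk' g hg => ?_) hg
  · exact FixI_anti (fun i hi => by simp at hi ⊢; omega) (h.S_le k g hg)
  · exact FixI_anti (fun i hi => by simp at hi ⊢; omega) (h.M_le k hk' g hg)

theorem comm_MM {k l : Fin n} (hk : (k : ℕ) + 1 < n) (hl : (l : ℕ) + 1 < n) {a b : Sp n F × H} (ha : a ∈ M k)
    (hb : b ∈ M l) : a * b = b * a := by
  have e := FixI.comm (h.M_le k hk a ha) (h.M_le l hl b hb) (by rintro (i | i) <;> simp)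
  by_cases hkl : k = l
  · subst hkl
    exact (h.MS k k hk).comm (Subgroup.mem_sup_left ha) (Subgroup.mem_sup_left hb) e
  · exact (h.MM k l hkl hk hl).comm (Subgroup.mem_sup_left ha) (Subgroup.mem_sup_right hb) e

theorem comm_EE_S {j : Fin n} {g s : Sp n F × H} (hg : g ∈ EE S M (j + 1)) (hs : s ∈ S j) : g * s = s * g := by
  refine Subgroup.mem_centralizer_singleton_iff.1 (EE_le (K := Subgroup.centralizer {s})
    (fun k hk a ha => ?_) (fun k hk hk' a ha => ?_) hg) <;> rw [Subgroup.mem_centralizer_singleton_iff]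
  · exact (h.SS k j (by rintro rfl; omega)).comm (Subgroup.mem_sup_left ha) (Subgroup.mem_sup_right hs)
      (FixI.comm (h.S_le k a ha) (h.S_le j s hs) fun i => by simp; omega)
  · exact (h.MS k j hk').comm (Subgroup.mem_sup_left ha) (Subgroup.mem_sup_right hs)
      (FixI.comm (h.M_le k hk' a ha) (h.S_le j s hs) fun i => by simp; omega)

theorem comm_EE_M {j : Fin n} (hj : (j : ℕ) + 1 < n) {g m : Sp n F × H} (hg : g ∈ EE S M (j + 2)) (hm : m ∈ M j) :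
    g * m = m * g := by
  refine Subgroup.mem_centralizer_singleton_iff.1 (EE_le (K := Subgroup.centralizer {m})
    (fun k hk a ha => ?_) (fun k hk hk' a ha => ?_) hg) <;> rw [Subgroup.mem_centralizer_singleton_iff]
  · exact (h.MS j k hj).comm (Subgroup.mem_sup_right ha) (Subgroup.mem_sup_left hm)
      (FixI.comm (h.S_le k a ha) (h.M_le j hj m hm) fun i => by simp; omega)
  · exact h.comm_MM hk' hj ha hm

theorem mem_M_of_sup {k l : Fin n} (hk : (k : ℕ) + 1 < n) {z : Sp n F × H} (hz : z ∈ M k ⊔ S l)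
    (h1 : z.1 ∈ FixI (TM k)) : z ∈ M k := by
  obtain ⟨m, hm, e⟩ := h.M_ex k hk _ h1
  rwa [← (h.MS k l hk).eq (Subgroup.mem_sup_left hm) hz e]

theorem mem_S_of_sup {k l : Fin n} (hk : (k : ℕ) + 1 < n) {z : Sp n F × H} (hz : z ∈ M k ⊔ S l)
    (h1 : z.1 ∈ FixI (pl l)ᶜ) : z ∈ S l := by
  obtain ⟨m, hm, e⟩ := h.S_ex l _ h1
  rwa [← (h.MS k l hk).eq (Subgroup.mem_sup_right hm) hz e]

theorem good_last (hn : 2 ≤ n) {j : Fin n} (hj : (j : ℕ) + 1 = n) : Good S M j := by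
  have h1 : EE S M j ≤ S j := EE_le (fun k hk => by rw [show k = j from Fin.ext (by omega)]) fun k hk hk' => by omega
  refine ⟨fun g hg e i hi m hm => ?_, ?_, fun A hA => ?_⟩
  · have hi' : (i : ℕ) + 1 < n := by omega
    refine h.comm_MM hi' hi' (h.mem_M_of_sup hi' (Subgroup.mem_sup_right (h1 hg)) fun k hk => ?_) hm
    by_cases hk' : k = inl j
    · rw [hk', e]
    · refine h.S_le j g (h1 hg) k ?_
      rcases k with k | k
      · simpa [Fin.ext_iff] using hk'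
      · simp at hk ⊢; omega
  · exact (h.MS ⟨0, by omega⟩ j (by simp; omega)).mono (h1.trans le_sup_right)
  · obtain ⟨g, hg, e⟩ := h.S_ex j A (FixI_anti (fun i hi => by
      have : idx i < n := (Sum.elim id id i : Fin n).2
      simp at hi ⊢; omega) hA)
    exact ⟨g, S_le_EE le_rfl hg, e⟩

end Amal

/-- The lifts of the elements of the unipotent radical of the stabiliser of `e_j`. -/
def RR (S M : Fin n → Subgroup (Sp n F × H)) (j j' : Fin n) (u : Ix n → F) (c : F) (ξ : Sp n F × H) : Prop :=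
  ∃ κ ∈ EE S M j', ∃ m ∈ M j, ∃ t : F, m.1 = q (bv (inl j)) (t • bv (inl j')) c ∧ κ.1 • t • bv (inl j') = u ∧
    ξ = κ * m * κ⁻¹

theorem RR_eq_1' : type_of% @RR.eq_1 := @RR.eq_1

theorem Bf_of_supp {j j' : Fin n} (hj : (j : ℕ) + 1 = j') {u : Ix n → F} (hu : u ∈ Supp (ge j')) :
    Bf u (bv (inl j)) = 0 := by
  rw [Bf_swap, Bf_inl, hu _ (by simp; omega)]; simp

theorem ge_swap (k : ℕ) : ∀ i ∈ (ge k : Set (Ix n)), i.swap ∈ (ge k : Set (Ix n)) := fun i hi => by simpa using hi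

theorem pl_swap (k : ℕ) : ∀ i ∈ (pl k : Set (Ix n)), i.swap ∈ (pl k : Set (Ix n)) := fun i hi => by simpa using hi

theorem smul_bv_mem {U : Set (Ix n)} {i : Ix n} (h : i ∈ U) (t : F) : t • (bv i : Ix n → F) ∈ Supp U :=
  Submodule.smul_mem _ _ (bv_mem_Supp h)

theorem FixI.smul_mem_ge {k : ℕ} {A : Sp n F} (hA : A ∈ FixI (ge k)ᶜ) {x : Ix n → F} (hx : x ∈ Supp (ge k)) :
    A • x ∈ Supp (ge k) := FixI.smul_mem hA (fun i hi => by simpa using hi) hx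

namespace RR

variable {j j' : Fin n} {u v : Ix n → F} {c d : F} {ξ η : Sp n F × H}

theorem conj (r : RR S M j j' u c ξ) {κ : Sp n F × H} (hκ : κ ∈ EE S M j') :
    RR S M j j' (κ.1 • u) c (κ * ξ * κ⁻¹) := by
  obtain ⟨k, hk, m, hm, t, h1, rfl, rfl⟩ := r
  exact ⟨κ * k, mul_mem hκ hk, m, hm, t, h1, mul_smul _ _ _, by group⟩

variable (h : Amal S M) (hj : (j : ℕ) + 1 = j')
include h hj

theorem supp (r : RR S M j j' u c ξ) : u ∈ Supp (ge j') := by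
  obtain ⟨k, hk, m, hm, t, h1, rfl, rfl⟩ := r
  exact FixI.smul_mem_ge (h.EE_fix hk) (smul_bv_mem (by simp) t)

theorem fst (r : RR S M j j' u c ξ) : ξ.1 = q (bv (inl j)) u c := by
  obtain ⟨k, hk, m, hm, t, h1, rfl, rfl⟩ := r
  rw [Prod.fst_mul, Prod.fst_mul, Prod.fst_inv, h1, conj_q _ (Bf_of_supp hj (smul_bv_mem (by simp) t)),
    h.EE_fix hk _ (by simp; omega)]

theorem inv (r : RR S M j j' u c ξ) : RR S M j j' (-u) (-c) ξ⁻¹ := by
  obtain ⟨k, hk, m, hm, t, h1, rfl, rfl⟩ := r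
  refine ⟨k, hk, m⁻¹, inv_mem hm, -t, ?_, by rw [neg_smul, smul_neg], by group⟩
  rw [Prod.fst_inv, h1, q_inv (Bf_of_supp hj (smul_bv_mem (by simp) t)), neg_smul]

theorem exists_M (t c : F) : ∃ m ∈ M j, m.1 = q (bv (inl j)) (t • bv (inl j')) c :=
  h.M_ex j (by omega) _ (q_mem_FixI (U := {inl j, inl j'}) (Bf_of_supp hj (smul_bv_mem (by simp) t)) c
    (bv_mem_Supp (by simp)) (smul_bv_mem (by simp) t) (by
      rintro (i | i) hi <;> simp [Fin.ext_iff] at hi ⊢; omega))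

theorem of_M {m : Sp n F × H} (hm : m ∈ M j) {t : F} (e : m.1 = q (bv (inl j)) (t • bv (inl j')) c) :
    RR S M j j' (t • bv (inl j')) c m := ⟨1, one_mem _, m, hm, t, e, one_smul _ _, by group⟩

theorem one : RR S M j j' 0 0 (1 : Sp n F × H) := by
  simpa using of_M h hj (c := 0) (t := 0) (one_mem _) (by simp [q_zero])

theorem of_plane (hu : u ∈ Supp (pl j')) (c : F) : ∃ ξ ∈ M j ⊔ S j', RR S M j j' u c ξ := by
  by_cases h0 : u = 0
  · obtain ⟨m, hm, e⟩ := exists_M h hj 0 c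
    exact ⟨m, Subgroup.mem_sup_left hm, by simpa [h0] using of_M h hj hm e⟩
  · obtain ⟨m, hm, e⟩ := exists_M h hj 1 c
    obtain ⟨g, hg, e'⟩ := exists_smul_eq (pl_swap j') (bv_mem_Supp (i := inl j') rfl) (bv_ne_zero _) hu h0
    obtain ⟨s, hs, rfl⟩ := h.S_ex j' g hg
    refine ⟨s * m * s⁻¹, mul_mem (mul_mem (Subgroup.mem_sup_right hs) (Subgroup.mem_sup_left hm))
      (Subgroup.mem_sup_right (inv_mem hs)), ?_⟩
    simpa [e'] using (of_M h hj hm e).conj (S_le_EE le_rfl hs)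

variable (hg : Good S M j')
include hg

theorem ex (hu : u ∈ Supp (ge j')) (c : F) : ∃ ξ, RR S M j j' u c ξ := by
  by_cases h0 : u = 0
  · obtain ⟨ξ, -, r⟩ := of_plane h hj (u := 0) (zero_mem _) c
    exact ⟨ξ, h0 ▸ r⟩
  · obtain ⟨ξ, -, r⟩ := of_plane h hj (bv_mem_Supp (i := inl j') rfl) c
    obtain ⟨g, hg', e⟩ := exists_smul_eq (ge_swap j') (bv_mem_Supp (i := inl j') (by simp)) (bv_ne_zero _) hu h0
    obtain ⟨κ, hκ, rfl⟩ := hg.ex g hg'
    exact ⟨_, e ▸ r.conj hκ⟩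

theorem uniq (r : RR S M j j' u c ξ) (r' : RR S M j j' u c η) : ξ = η := by
  obtain ⟨k, hk, m, hm, t, h1, rfl, rfl⟩ := r
  obtain ⟨k', hk', m', hm', t', h1', e, rfl⟩ := r'
  have hjn : (j : ℕ) + 1 < n := by omega
  suffices k'⁻¹ * k * m * (k'⁻¹ * k)⁻¹ = m' by rw [← this]; group
  have hl : k'⁻¹ * k ∈ EE S M j' := mul_mem (inv_mem hk') hk
  have e' : (k'⁻¹ * k).1 • t • (bv (inl j') : Ix n → F) = t' • bv (inl j') := by
    rw [Prod.fst_mul, mul_smul, ← e, Prod.fst_inv, inv_smul_smul]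
  generalize k'⁻¹ * k = l at hl e'
  by_cases h0 : t = 0
  · subst h0
    rw [zero_smul, smul_zero] at e'
    rw [← e'] at h1'
    rw [zero_smul] at h1
    have h2 : m ∈ S j := h.mem_S_of_sup hjn (Subgroup.mem_sup_left hm) (h1 ▸ q_mem_FixI (U := pl j) (by simp) c
      (bv_mem_Supp rfl) (zero_mem _) fun i hi => by simpa using hi)
    rw [h.comm_EE_S (hj ▸ hl) h2, mul_inv_cancel_right]
    exact (h.MS j j hjn).eq (Subgroup.mem_sup_left hm) (Subgroup.mem_sup_left hm') (h1.trans h1'.symm)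
  · have h2 : t • (bv (inl j') : Ix n → F) ≠ 0 := smul_ne_zero h0 (bv_ne_zero _)
    have h3 : t' • (bv (inl j') : Ix n → F) ≠ 0 := fun h4 => h2 (by
      rw [h4, ← smul_zero l.1, smul_left_cancel_iff] at e'; exact e')
    obtain ⟨g, hg', e2⟩ := exists_smul_eq (pl_swap j') (smul_bv_mem (i := inl j') (by simp) t) h2
      (smul_bv_mem (i := inl j') (by simp) t') h3
    obtain ⟨s, hs, rfl⟩ := h.S_ex j' g hg'
    have h4 := hg.comm (s⁻¹ * l) (mul_mem (inv_mem (S_le_EE le_rfl hs)) hl) (by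
      apply smul_right_injective _ h0
      simp only []
      rw [← sp_smul_smul, Prod.fst_mul, mul_smul, e', ← e2, Prod.fst_inv, inv_smul_smul]) j hj m hm
    rw [show l * m * l⁻¹ = s * (s⁻¹ * l * m) * l⁻¹ by group, h4, show s * (m * (s⁻¹ * l)) * l⁻¹ = s * m * s⁻¹ by group]
    refine (h.MS j j' hjn).eq (mul_mem (mul_mem (Subgroup.mem_sup_right hs) (Subgroup.mem_sup_left hm))
      (Subgroup.mem_sup_right (inv_mem hs))) (Subgroup.mem_sup_left hm') ?_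
    rw [((of_M h hj hm h1).conj (S_le_EE le_rfl hs)).fst h hj, e2, h1']

theorem mul_plane (hu : u ∈ Supp (pl j')) (hv : v ∈ Supp (pl j')) (r : RR S M j j' u c ξ)
    (r' : RR S M j j' v d η) : RR S M j j' (u + v) (c + d + Bf v u) (ξ * η) := by
  obtain ⟨ξ', h1, r1⟩ := of_plane h hj hu c
  obtain ⟨η', h2, r2⟩ := of_plane h hj hv d
  obtain ⟨ζ, h3, r3⟩ := of_plane h hj (add_mem hu hv) (c + d + Bf v u)
  rw [r.uniq h hj hg r1, r'.uniq h hj hg r2, (h.MS j j' (by omega)).eq (mul_mem h1 h2) h3 ?_]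
  · exact r3
  · rw [Prod.fst_mul, r1.fst h hj, r2.fst h hj, r3.fst h hj,
      q_mul (Bf_of_supp hj (r1.supp h hj)) (Bf_of_supp hj (r2.supp h hj))]

theorem mul_of_conj {g : Sp n F} (hg' : g ∈ FixI (ge j')ᶜ) (hu : g • u ∈ Supp (pl j')) (hv : g • v ∈ Supp (pl j'))
    (r : RR S M j j' u c ξ) (r' : RR S M j j' v d η) : RR S M j j' (u + v) (c + d + Bf v u) (ξ * η) := by
  obtain ⟨κ, hκ, rfl⟩ := hg.ex g hg'
  have := (mul_plane h hj hg hu hv (r.conj hκ) (r'.conj hκ)).conj (inv_mem hκ)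
  rw [← smul_add, Prod.fst_inv, inv_smul_smul, Bf_smul] at this
  convert this using 1
  group

theorem mul_of_ne (h0 : Bf u v ≠ 0) (r : RR S M j j' u c ξ) (r' : RR S M j j' v d η) :
    RR S M j j' (u + v) (c + d + Bf v u) (ξ * η) := by
  obtain ⟨g, hg', e⟩ := exists_smul_eq (ge_swap j') (r.supp h hj) (by rintro rfl; simp at h0)
    (bv_mem_Supp (i := inl j') (by simp)) (bv_ne_zero _)
  have h1 : (g • v) (inr j') ≠ 0 := by
    rw [← Bf_smul g, e, Bf_inl] at h0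
    exact neg_ne_zero.1 h0
  obtain ⟨w, hw, a, h2, h3⟩ := exists_q_smul_inr j' (FixI.smul_mem_ge hg' (r'.supp h hj)) h1
  have h4 : q (bv (inl j')) w a ∈ FixI (ge j')ᶜ := q_mem_FixI (U := ge j') h2 a (bv_mem_Supp (by simp))
    (Supp_mono Set.sdiff_subset hw) fun i hi => by simpa using hi
  refine mul_of_conj h hj hg (mul_mem (inv_mem h4) hg') ?_ ?_ r r'
  · rw [mul_smul, e, inv_smul_eq_iff.2 (q_smul_self h2 a).symm]
    exact bv_mem_Supp rfl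
  · rw [mul_smul, inv_smul_eq_iff.2 h3.symm]
    exact smul_bv_mem (by simp) _

theorem mul_of_span {w : Ix n → F} (hw : w ∈ Supp (ge j')) {a b : F} (hu : u = a • w) (hv : v = b • w)
    (r : RR S M j j' u c ξ) (r' : RR S M j j' v d η) : RR S M j j' (u + v) (c + d + Bf v u) (ξ * η) := by
  obtain ⟨g, hg', e⟩ : ∃ g ∈ (FixI (ge j')ᶜ : Subgroup (Sp n F)), g • w ∈ Supp (pl j') := by
    by_cases h0 : w = 0
    · exact ⟨1, one_mem _, by simp [h0]⟩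
    · obtain ⟨g, hg', e⟩ := exists_smul_eq (ge_swap j') hw h0 (bv_mem_Supp (i := inl j') (by simp)) (bv_ne_zero _)
      exact ⟨g, hg', e ▸ bv_mem_Supp rfl⟩
  refine mul_of_conj h hj hg hg' ?_ ?_ r r'
  · rw [hu, sp_smul_smul]; exact Submodule.smul_mem _ _ e
  · rw [hv, sp_smul_smul]; exact Submodule.smul_mem _ _ e

theorem mul (hF : ∃ a : F, a ≠ 0 ∧ a ≠ 1) (r : RR S M j j' u c ξ) (r' : RR S M j j' v d η) :
    RR S M j j' (u + v) (c + d + Bf v u) (ξ * η) := by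
  have hu := r.supp h hj
  have hv := r'.supp h hj
  by_cases h0 : u = 0
  · exact mul_of_span h hj hg hv (a := 0) (b := 1) (by simp [h0]) (by simp) r r'
  by_cases h1 : v = 0
  · exact mul_of_span h hj hg hu (a := 1) (b := 0) (by simp) (by simp [h1]) r r'
  by_cases h2 : u + v = 0
  · exact mul_of_span h hj hg hu (a := 1) (b := -1) (by simp) (by simp [eq_neg_of_add_eq_zero_right h2]) r r'
  by_cases h3 : Bf u v = 0
  swap
  · exact mul_of_ne h hj hg h3 r r'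
  obtain ⟨w, hw, h4, h5, h6⟩ := exists_Bf_ne₃ hF (ge_swap j') hu h0 hv h1 (add_mem hu hv) h2
  obtain ⟨ζ, r1⟩ := ex h hj hg hw 0
  have := mul_of_ne h hj hg ?_ (mul_of_ne h hj hg (Bf_ne_comm h4) r r1)
    (mul_of_ne h hj hg (by simpa using h5) (r1.inv h hj) r')
  · convert this using 1
    · abel
    · simp only [map_add, map_neg, LinearMap.add_apply, LinearMap.neg_apply, Bf_self]
      ring
    · group
  · simp only [map_add, map_neg, LinearMap.add_apply, Bf_self, h3, Bf_swap u w] at h6 ⊢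
    simpa using h6

end RR

section step

variable {j j' : Fin n} (h : Amal S M) (hj : (j : ℕ) + 1 = j') (hg : Good S M j') (hF : ∃ a : F, a ≠ 0 ∧ a ≠ 1)

/-- The lift of the stabiliser of `e_j`. -/
def Hs : Subgroup (Sp n F × H) where
  carrier := {g | ∃ u c ξ, RR S M j j' u c ξ ∧ ∃ k ∈ EE S M j', g = ξ * k}
  one_mem' := ⟨_, _, _, RR.one h hj, 1, one_mem _, by simp⟩
  mul_mem' := by
    rintro _ _ ⟨u, c, ξ, r, k, hk, rfl⟩ ⟨v, d, η, r', k', hk', rfl⟩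
    exact ⟨_, _, _, RR.mul h hj hg hF r (r'.conj hk), k * k', mul_mem hk hk', by group⟩
  inv_mem' := by
    rintro _ ⟨u, c, ξ, r, k, hk, rfl⟩
    exact ⟨_, _, _, (r.inv h hj).conj (inv_mem hk), k⁻¹, inv_mem hk, by group⟩

theorem Hs_eq_1' : type_of% @Hs.eq_1 := @Hs.eq_1

theorem mem_Hs {g : Sp n F × H} :
    g ∈ Hs h hj hg hF ↔ ∃ u c ξ, RR S M j j' u c ξ ∧ ∃ k ∈ EE S M j', g = ξ * k := Iff.rfl

theorem EE_le_Hs : EE S M j' ≤ Hs h hj hg hF := fun k hk => ⟨_, _, _, RR.one h hj, k, hk, by simp⟩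

theorem RR.mem_Hs {u : Ix n → F} {c : F} {ξ : Sp n F × H} (r : RR S M j j' u c ξ) : ξ ∈ Hs h hj hg hF :=
  ⟨_, _, _, r, 1, one_mem _, by simp⟩

theorem Hs_le {K : Subgroup (Sp n F × H)} (h1 : EE S M j' ≤ K) (h2 : M j ≤ K) : Hs h hj hg hF ≤ K := by
  rintro _ ⟨u, c, _, ⟨κ, hκ, m, hm, t, -, -, rfl⟩, k, hk, rfl⟩
  exact mul_mem (mul_mem (mul_mem (h1 hκ) (h2 hm)) (inv_mem (h1 hκ))) (h1 hk)

theorem Hs_le_EE : Hs h hj hg hF ≤ EE S M j := Hs_le h hj hg hF (EE_anti (by omega)) (M_le_EE le_rfl (by omega))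

theorem Hs_fix {g : Sp n F × H} (hg' : g ∈ Hs h hj hg hF) : g.1 • (bv (inl j) : Ix n → F) = bv (inl j) := by
  obtain ⟨u, c, ξ, r, k, hk, rfl⟩ := hg'
  rw [Prod.fst_mul, mul_smul, h.EE_fix hk _ (by simp; omega), r.fst h hj, q_smul_self (Bf_of_supp hj (r.supp h hj))]

theorem mem_EE_of_fix {g : Sp n F × H} (hg' : g ∈ Hs h hj hg hF)
    (e : g.1 • (bv (inr j) : Ix n → F) = bv (inr j)) : g ∈ EE S M j' := by
  obtain ⟨u, c, ξ, r, k, hk, rfl⟩ := hg'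
  have hu := r.supp h hj
  rw [Prod.fst_mul, mul_smul, h.EE_fix hk _ (by simp; omega), r.fst h hj, q_smul (Bf_of_supp hj hu), Bf_inr, Bf_inr,
    hu _ (by simp; omega), bv_apply, if_pos rfl] at e
  have h1 : c = 0 := by
    have := congrFun e (inl j)
    simpa [bv_apply, hu (inl j) (by simp; omega)] using this
  subst h1
  have h2 : u = 0 := by simpa using e
  subst h2
  rw [r.uniq h hj hg (RR.one h hj), one_mul]
  exact hk

include hj in
theorem exists_q_mul {U : Set (Ix n)} {A : Sp n F} (h1 : A • bv (inr j) ∈ (Supp U : Submodule F _))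
    (h2 : A • (bv (inl j) : Ix n → F) = bv (inl j)) :
    ∃ u ∈ (Supp (U \ {inl j, inr j}) : Submodule F _), ∃ c, Bf u (bv (inl j)) = 0 ∧
      q (bv (inl j)) u c • (bv (inr j) : Ix n → F) = A • bv (inr j) := by
  have h3 : (A • (bv (inr j) : Ix n → F)) (inr j) = 1 := by
    rw [FixI.apply (T := {inl j}) (by simpa [mem_FixI] using h2) _ (by simp), bv_apply, if_pos rfl]
  simpa [h3] using exists_q_smul_inr j h1 (by rw [h3]; exact one_ne_zero)

theorem exists_Hs {A : Sp n F} (hA : A ∈ FixI (ge j)ᶜ) (e : A • (bv (inl j) : Ix n → F) = bv (inl j)) :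
    ∃ g ∈ Hs h hj hg hF, g.1 = A := by
  obtain ⟨u, hu, c, h1, h2⟩ := exists_q_mul hj (FixI.smul_mem_ge hA (bv_mem_Supp (by simp))) e
  have hu' : u ∈ Supp (ge j') := Supp_mono (by rintro (i | i) hi <;> simp [Fin.ext_iff] at hi ⊢ <;> omega) hu
  obtain ⟨ξ, r⟩ := RR.ex h hj hg hu' c
  obtain ⟨k, hk, e'⟩ := hg.ex ((q (bv (inl j)) u c)⁻¹ * A) fun i hi => by
    by_cases h3 : i = inl j
    · rw [h3, mul_smul, e, inv_smul_eq_iff, q_smul_self h1]
    by_cases h4 : i = inr j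
    · rw [h4, mul_smul, inv_smul_eq_iff, h2]
    have h5 : i ∈ (ge j)ᶜ := by rcases i with i | i <;> simp [Fin.ext_iff] at hi h3 h4 ⊢ <;> omega
    exact (mul_mem (inv_mem (q_mem_FixI (U := ge j) h1 c (bv_mem_Supp (by simp))
      (Supp_mono Set.sdiff_subset hu) fun i hi => by simpa using hi)) hA) i h5
  exact ⟨ξ * k, ⟨u, c, ξ, r, k, hk, rfl⟩, by rw [Prod.fst_mul, e', r.fst h hj, mul_inv_cancel_left]⟩

include hj in
theorem eq_smul_of_supp {U : Set (Ix n)} (hU : ∀ i ∈ U, i = inl j ∨ i = inr j ∨ i = inl j') {u : Ix n → F}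
    (hu : u ∈ (Supp (U \ {inl j, inr j}) : Submodule F _)) : u = u (inl j') • bv (inl j') := by
  ext i
  by_cases hi : i = inl j'
  · simp [hi, bv_apply]
  · rw [hu i fun h' => by have := hU i h'.1; have := h'.2; simp_all]
    simp [bv_apply, hi]

theorem M_le_Hs : M j ≤ Hs h hj hg hF := fun m hm => by
  have hjn : (j : ℕ) + 1 < n := by omega
  have hm' := h.M_le j hjn m hm
  obtain ⟨u, hu, c, h1, h2⟩ := exists_q_mul hj (U := {inl j, inr j, inl j'}) (FixI.smul_mem hm'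
    (by rintro (i | i) hi <;> simp [Fin.ext_iff] at hi ⊢; omega) (bv_mem_Supp (by simp))) (hm' _ (by simp))
  rw [eq_smul_of_supp hj (by simp) hu] at h2
  obtain ⟨m', hm1, e⟩ := RR.exists_M h hj (u (inl j')) c
  have h3 : m'⁻¹ * m ∈ M j := mul_mem (inv_mem hm1) hm
  have h4 : m'⁻¹ * m ∈ S j' := h.mem_S_of_sup hjn (Subgroup.mem_sup_left h3) fun i hi => by
    by_cases h5 : i = inr j
    · rw [h5, Prod.fst_mul, mul_smul, Prod.fst_inv, inv_smul_eq_iff, e, h2]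
    · exact h.M_le j hjn _ h3 i (by rcases i with i | i <;> simp [Fin.ext_iff] at hi h5 ⊢; omega)
  exact ⟨_, _, _, RR.of_M h hj hm1 e, _, S_le_EE le_rfl h4, by group⟩

include h hj in
theorem fix_of_sup {z : Sp n F × H} (hz : z ∈ M j ⊔ S j) : z.1 ∈ FixI {inl j, inr j, inr j'}ᶜ := by
  refine sup_le (b := S j) (c := (FixI {inl j, inr j, inr j'}ᶜ).comap (MonoidHom.fst _ _)) (fun g hg => ?_)
    (fun g hg => ?_) hz
  · exact FixI_anti (by rintro (i | i) hi <;> simp [Fin.ext_iff] at hi ⊢; omega) (h.M_le j (by omega) g hg)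
  · exact FixI_anti (by rintro (i | i) hi <;> simp [Fin.ext_iff] at hi ⊢ <;> omega) (h.S_le j g hg)

include h hj in
theorem mem_M_of_fix {z : Sp n F × H} (hz : z ∈ M j ⊔ S j) (e : z.1 • (bv (inl j) : Ix n → F) = bv (inl j)) :
    z ∈ M j := h.mem_M_of_sup (by omega) hz fun i hi => by
  by_cases h1 : i = inl j
  · rw [h1, e]
  · exact fix_of_sup h hj hz i (by rcases i with i | i <;> simp [Fin.ext_iff] at hi h1 ⊢ <;> omega)

/-- The elements moving `e_j` to a neighbour. -/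
def AA : Set (Sp n F × H) := {a | ∃ g ∈ Hs h hj hg hF, ∃ s ∈ S j, ∃ g' ∈ Hs h hj hg hF,
  Bf (bv (inl j)) (s.1 • (bv (inl j) : Ix n → F)) ≠ 0 ∧ a = g * s * g'}

theorem AA_eq_1' : type_of% @AA.eq_1 := @AA.eq_1

theorem mul_mem_AA {a g g' : Sp n F × H} (ha : a ∈ AA h hj hg hF) (h1 : g ∈ Hs h hj hg hF)
    (h2 : g' ∈ Hs h hj hg hF) : g * a * g' ∈ AA h hj hg hF := by
  obtain ⟨k, hk, s, hs, k', hk', e, rfl⟩ := ha
  exact ⟨g * k, mul_mem h1 hk, s, hs, k' * g', mul_mem hk' h2, e, by group⟩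

theorem AA_le {a : Sp n F × H} (ha : a ∈ AA h hj hg hF) : a ∈ EE S M j := by
  obtain ⟨k, hk, s, hs, k', hk', e, rfl⟩ := ha
  exact mul_mem (mul_mem (Hs_le_EE h hj hg hF hk) (S_le_EE le_rfl hs)) (Hs_le_EE h hj hg hF hk')

include h in
theorem exists_S {t : F} (ht : t ≠ 0) : ∃ s ∈ S j, s.1 • (bv (inl j) : Ix n → F) = t • bv (inr j) := by
  obtain ⟨g, hg', e⟩ := exists_smul_eq (pl_swap j) (bv_mem_Supp (i := inl j) (by simp)) (bv_ne_zero _)
    (smul_bv_mem (i := inr j) (by simp) t) (smul_ne_zero ht (bv_ne_zero _))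
  obtain ⟨s, hs, rfl⟩ := h.S_ex j g hg'
  exact ⟨s, hs, e⟩

theorem mem_AA_of_sup {z : Sp n F × H} (hz : z ∈ M j ⊔ S j)
    (e : Bf (bv (inl j)) (z.1 • (bv (inl j) : Ix n → F)) ≠ 0) : z ∈ AA h hj hg hF := by
  rw [Bf_inl, neg_ne_zero] at e
  obtain ⟨u, hu, c, h1, h2⟩ := exists_q_smul_inr (U := {inl j, inr j, inl j'}) j (FixI.smul_mem (fix_of_sup h hj hz)
    (by rintro (i | i) hi <;> simp [Fin.ext_iff] at hi ⊢ <;> omega) (bv_mem_Supp (by simp))) e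
  rw [eq_smul_of_supp hj (by simp) hu] at h2
  obtain ⟨m, hm, e1⟩ := RR.exists_M h hj (u (inl j')) c
  obtain ⟨s, hs, e2⟩ := exists_S h (j := j) e
  refine ⟨m, M_le_Hs h hj hg hF hm, s, hs, (m * s)⁻¹ * z, M_le_Hs h hj hg hF (mem_M_of_fix h hj
    (mul_mem (inv_mem (mul_mem (Subgroup.mem_sup_left hm) (Subgroup.mem_sup_right hs))) hz) ?_), ?_, by group⟩
  · rw [Prod.fst_mul, mul_smul, Prod.fst_inv, inv_smul_eq_iff, Prod.fst_mul, mul_smul, e2, e1, h2]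
  · rw [e2, map_smul, Bf_inl, bv_apply, if_pos rfl]
    simpa using e

theorem exists_decomp {a b : Sp n F × H} (ha : a ∈ AA h hj hg hF) (hb : b ∈ AA h hj hg hF) :
    ∃ g ∈ Hs h hj hg hF, ∃ z ∈ M j ⊔ S j, ∃ g' ∈ Hs h hj hg hF, a⁻¹ * b = g * z * g' := by
  obtain ⟨k₁, hk₁, s₁, hs₁, l₁, hl₁, -, rfl⟩ := ha
  obtain ⟨k₂, hk₂, s₂, hs₂, l₂, hl₂, -, rfl⟩ := hb
  obtain ⟨u, c, _, ⟨κ, hκ, m, hm, t, -, -, rfl⟩, k, hk, e⟩ := mul_mem (inv_mem hk₁) hk₂
  have h1 := h.comm_EE_S (hj ▸ hκ) (inv_mem hs₁)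
  have h2 := h.comm_EE_S (hj ▸ mul_mem (inv_mem hκ) hk) hs₂
  refine ⟨l₁⁻¹ * κ, mul_mem (inv_mem hl₁) (EE_le_Hs h hj hg hF hκ), s₁⁻¹ * m * s₂,
    mul_mem (mul_mem (Subgroup.mem_sup_right (inv_mem hs₁)) (Subgroup.mem_sup_left hm)) (Subgroup.mem_sup_right hs₂),
    κ⁻¹ * k * l₂, mul_mem (EE_le_Hs h hj hg hF (mul_mem (inv_mem hκ) hk)) hl₂, ?_⟩
  calc (k₁ * s₁ * l₁)⁻¹ * (k₂ * s₂ * l₂) = l₁⁻¹ * s₁⁻¹ * (k₁⁻¹ * k₂) * s₂ * l₂ := by group
    _ = l₁⁻¹ * (s₁⁻¹ * κ) * m * (κ⁻¹ * k * s₂) * l₂ := by rw [e]; group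
    _ = _ := by rw [← h1, h2]; group

/-- The action through the first coordinate. -/
@[reducible] def pAct : MulAction (Sp n F × H) (Ix n → F) := MulAction.compHom _ (MonoidHom.fst _ _)

theorem pAct_eq_1' : type_of% @pAct.eq_1 := @pAct.eq_1

attribute [local instance] pAct

theorem p_smul (g : Sp n F × H) (x : Ix n → F) : g • x = g.1 • x := rfl

theorem cover : Cover (fun x y : Ix n → F => x ∈ Supp (ge j) ∧ y ∈ Supp (ge j) ∧ Bf x y ≠ 0) (bv (inl j))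
    (Hs h hj hg hF) (AA h hj hg hF) where
  symm h := ⟨h.2.1, h.1, Bf_ne_comm h.2.2⟩
  inv a ha _ _ hx := ⟨FixI.smul_mem_ge (h.EE_fix (AA_le h hj hg hF ha)) hx.1,
    FixI.smul_mem_ge (h.EE_fix (AA_le h hj hg hF ha)) hx.2.1, by rw [p_smul, p_smul, Bf_smul]; exact hx.2.2⟩
  fix _ := Hs_fix h hj hg hF
  adj_of_mem a ha := by
    refine ⟨bv_mem_Supp (by simp), FixI.smul_mem_ge (h.EE_fix (AA_le h hj hg hF ha)) (bv_mem_Supp (by simp)), ?_⟩
    obtain ⟨k, hk, s, hs, k', hk', e, rfl⟩ := ha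
    rwa [p_smul, Prod.fst_mul, Prod.fst_mul, mul_smul, mul_smul, Hs_fix h hj hg hF hk',
      ← Bf_smul k.1⁻¹, inv_smul_smul, inv_smul_eq_iff.2 (Hs_fix h hj hg hF hk).symm]
  lift y hy := by
    have e := hy.2.2
    rw [Bf_inl, neg_ne_zero] at e
    obtain ⟨u, hu, c, h1, h2⟩ := exists_q_smul_inr j hy.2.1 e
    obtain ⟨ξ, r⟩ := RR.ex h hj hg (Supp_mono
      (by rintro (i | i) hi <;> simp [Fin.ext_iff] at hi ⊢ <;> omega) hu) c
    obtain ⟨s, hs, e2⟩ := exists_S h (j := j) e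
    refine ⟨ξ * s * 1, ⟨ξ, r.mem_Hs h hj hg hF, s, hs, 1, one_mem _, ?_, rfl⟩, ?_⟩
    · rw [e2, map_smul, Bf_inl, bv_apply, if_pos rfl]
      simpa using e
    · rw [mul_one, p_smul, Prod.fst_mul, mul_smul, e2, r.fst h hj, h2]
  uniq a ha b hb e := by
    obtain ⟨g, h1, z, hz, g', h2, e'⟩ := exists_decomp h hj hg hF ha hb
    have h3 : (g * z * g') • (bv (inl j) : Ix n → F) = bv (inl j) := by rw [← e', mul_smul, ← e, inv_smul_smul]
    rw [p_smul, Prod.fst_mul, Prod.fst_mul, mul_smul, mul_smul, Hs_fix h hj hg hF h2, smul_eq_iff_eq_inv_smul,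
      inv_smul_eq_iff.2 (Hs_fix h hj hg hF h1).symm] at h3
    rw [e']
    exact mul_mem (mul_mem h1 (M_le_Hs h hj hg hF (mem_M_of_fix h hj hz h3))) h2
  inv_mem := by
    rintro _ ⟨k, hk, s, hs, k', hk', e, rfl⟩
    refine ⟨k'⁻¹, inv_mem hk', s⁻¹, inv_mem hs, k⁻¹, inv_mem hk, ?_, by group⟩
    rw [← Bf_smul s.1, Prod.fst_inv, smul_inv_smul]
    exact Bf_ne_comm e
  mul_mem a ha g hg' := by simpa using mul_mem_AA h hj hg hF ha (one_mem _) hg'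
  tri a ha b hb e := by
    obtain ⟨g, h1, z, hz, g', h2, e'⟩ := exists_decomp h hj hg hF ha hb
    have h3 := e.2.2
    rw [p_smul, p_smul, ← Bf_smul a.1⁻¹, inv_smul_smul, ← mul_smul, ← Prod.fst_inv, ← Prod.fst_mul, e',
      Prod.fst_mul, Prod.fst_mul, mul_smul, mul_smul, Hs_fix h hj hg hF h2, ← Bf_smul g.1⁻¹, inv_smul_smul,
      inv_smul_eq_iff.2 (Hs_fix h hj hg hF h1).symm] at h3
    rw [e']
    exact mul_mem_AA h hj hg hF (mem_AA_of_sup h hj hg hF hz h3) h1 h2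
  quad a b c d hab hbc hcd hda := by
    by_cases h0 : Bf b d = 0
    · obtain ⟨t, ht, h1⟩ := exists_add_mul_ne hF (Or.inr hbc.2.2) (x := Bf a c)
      have h2 : a + t • b ∈ Supp (ge j) := add_mem hab.1 (Submodule.smul_mem _ _ hbc.1)
      exact Or.inr ⟨a + t • b, ⟨h2, hab.1, by simpa [ht] using Bf_ne_comm hab.2.2⟩,
        ⟨h2, hbc.1, by simpa using hab.2.2⟩, ⟨h2, hcd.1, by simpa using h1⟩,
        ⟨h2, hda.1, by simpa [h0] using Bf_ne_comm hda.2.2⟩⟩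
    · exact Or.inl ⟨hbc.1, hda.1, h0⟩
  pent c d hcd := by
    obtain ⟨x, hx, h1, h2, h3⟩ := exists_Bf_ne₃ hF (ge_swap j) (bv_mem_Supp (i := inl j) (by simp)) (bv_ne_zero _)
      hcd.1 (by rintro rfl; simp at hcd) hcd.2.1 (by rintro rfl; simp at hcd)
    exact ⟨x, ⟨hx, bv_mem_Supp (by simp), h1⟩, ⟨hx, hcd.1, h2⟩, hx, hcd.2.1, h3⟩
  ne := ⟨bv (inr j), bv_mem_Supp (by simp), bv_mem_Supp (by simp), by simp [Bf_inl, bv_apply]⟩

theorem closure_AA : Subgroup.closure (AA h hj hg hF) = EE S M j := by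
  have hC := cover h hj hg hF
  refine le_antisymm ((Subgroup.closure_le _).2 fun a ha => AA_le h hj hg hF ha) (EE_le (fun k hk => ?_)
    fun k hk hk' => ?_)
  · rcases (show k = j ∨ (j' : ℕ) ≤ k by rw [Fin.ext_iff]; omega) with rfl | h1
    · intro s hs
      have key : ∀ s ∈ S k, Bf (bv (inl k)) (s.1 • (bv (inl k) : Ix n → F)) ≠ 0 →
          s ∈ Subgroup.closure (AA h hj hg hF) := fun s hs e =>
        Subgroup.subset_closure ⟨1, one_mem _, s, hs, 1, one_mem _, e, by simp⟩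
      obtain ⟨x, hx, h1, h2⟩ := exists_Bf_ne₂ (pl_swap k) (bv_mem_Supp (F := F) (i := inl k) (by simp))
        (bv_ne_zero _) (FixI.smul_mem (U := pl k) (h.S_le k s hs) (fun i hi => by simpa using hi)
          (bv_mem_Supp (i := inl k) (by simp))) (fun h0 => bv_ne_zero _ ((smul_eq_zero_iff_eq _).1 h0))
      obtain ⟨g, hg', e⟩ := exists_smul_eq (pl_swap k) (bv_mem_Supp (i := inl k) (by simp)) (bv_ne_zero _) hx
        (by rintro rfl; simp at h1)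
      obtain ⟨s', hs', rfl⟩ := h.S_ex k g hg'
      have h3 := key s' hs' (e ▸ Bf_ne_comm h1)
      have h4 := key (s'⁻¹ * s) (mul_mem (inv_mem hs') hs) (by
        rwa [← Bf_smul s'.1, Prod.fst_mul, mul_smul, Prod.fst_inv, smul_inv_smul, e])
      simpa using mul_mem h3 h4
    · exact (S_le_EE h1).trans ((EE_le_Hs h hj hg hF).trans hC.le_closure)
  · rcases (show k = j ∨ (j' : ℕ) ≤ k by rw [Fin.ext_iff]; omega) with rfl | h1
    · exact (M_le_Hs h hj hg hF).trans hC.le_closure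
    · exact (M_le_EE h1 hk').trans ((EE_le_Hs h hj hg hF).trans hC.le_closure)

include h hj hg hF in
theorem good_step : Good S M j := by
  have hC := cover h hj hg hF
  have h1 : ∀ g ∈ EE S M j, g.1 • (bv (inl j) : Ix n → F) = bv (inl j) → g ∈ Hs h hj hg hF := fun g hg' e =>
    hC.mem_of_fix (closure_AA h hj hg hF ▸ hg') e
  refine ⟨fun g hg' e i hi m hm => ?_, fun g hg' e => ?_, fun A hA => ?_⟩
  · refine Subgroup.mem_centralizer_singleton_iff.1 (Hs_le h hj hg hF (K := Subgroup.centralizer {m})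
      (fun a ha => ?_) (fun a ha => ?_) (h1 g hg' e)) <;> rw [Subgroup.mem_centralizer_singleton_iff]
    · exact h.comm_EE_M (by omega) (by rwa [show (i : ℕ) + 2 = j' by omega]) hm
    · exact h.comm_MM (by omega) (by omega) ha hm
  · exact hg.fn g (mem_EE_of_fix h hj hg hF (h1 g hg' (by rw [e, one_smul])) (by rw [e, one_smul])) e
  · have h2 := FixI.smul_mem_ge hA (bv_mem_Supp (i := inl j) (by simp))
    obtain ⟨x, hx, h3⟩ := exists_Bf_ne (ge_swap j) h2 (fun h0 => bv_ne_zero _ ((smul_eq_zero_iff_eq _).1 h0))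
    obtain ⟨g, hg', e⟩ := hC.exists_smul (c := A • bv (inl j)) (d := x) ⟨h2, hx, Bf_ne_comm h3⟩
    rw [closure_AA] at hg'
    obtain ⟨k, hk, e'⟩ := exists_Hs h hj hg hF (mul_mem (inv_mem (h.EE_fix hg')) hA) (by
      rw [mul_smul, inv_smul_eq_iff, ← e, p_smul])
    exact ⟨g * k, mul_mem hg' (Hs_le_EE h hj hg hF hk), by rw [Prod.fst_mul, e', mul_inv_cancel_left]⟩

end step

theorem Amal.good (h : Amal S M) (hF : ∃ a : F, a ≠ 0 ∧ a ≠ 1) (hn : 2 ≤ n) (j : Fin n) : Good S M j := by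
  obtain ⟨d, hd⟩ : ∃ d, (j : ℕ) + d + 1 = n := ⟨n - j - 1, by omega⟩
  induction d generalizing j with
  | zero => exact h.good_last hn hd
  | succ d ih => exact good_step (j' := ⟨j + 1, by omega⟩) h rfl (ih _ (by simp; omega)) hF

/-- The graph of a homomorphism defined on a subgroup. -/
def gr {Γ : Type*} [Group Γ] {K : Subgroup Γ} (φ : K →* H) : Subgroup (Γ × H) := (K.subtype.prod φ).range

theorem gr_eq_1' : type_of% @gr.eq_1 := @gr.eq_1

section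
variable {Γ : Type*} [Group Γ] {K K' : Subgroup Γ}

theorem mem_gr {φ : K →* H} {g : Γ × H} : g ∈ gr φ ↔ ∃ h : g.1 ∈ K, φ ⟨g.1, h⟩ = g.2 := by
  constructor
  · rintro ⟨a, rfl⟩
    exact ⟨a.2, rfl⟩
  · rintro ⟨h, e⟩
    exact ⟨⟨g.1, h⟩, Prod.ext rfl e⟩

theorem fn_gr (φ : K →* H) : Fn (gr φ) := fun g hg e => by
  obtain ⟨h, e'⟩ := mem_gr.1 hg
  refine Prod.ext e ?_
  rw [← e', show (⟨g.1, h⟩ : K) = 1 from Subtype.ext e, map_one]
  rfl

theorem fn_sup {φ : K →* H} {φ' : K' →* H} (h : ∃ Ψ : ↥(K ⊔ K') →* H,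
    (∀ (g : Γ) (hg : g ∈ K), Ψ ⟨g, Subgroup.mem_sup_left hg⟩ = φ ⟨g, hg⟩) ∧
      ∀ (g : Γ) (hg : g ∈ K'), Ψ ⟨g, Subgroup.mem_sup_right hg⟩ = φ' ⟨g, hg⟩) : Fn (gr φ ⊔ gr φ') := by
  obtain ⟨Ψ, h1, h2⟩ := h
  refine (fn_gr Ψ).mono (sup_le (fun g hg => ?_) fun g hg => ?_)
  · obtain ⟨h, e⟩ := mem_gr.1 hg
    exact mem_gr.2 ⟨_, (h1 _ h).trans e⟩
  · obtain ⟨h, e⟩ := mem_gr.1 hg
    exact mem_gr.2 ⟨_, (h2 _ h).trans e⟩

theorem Fn.exists_hom {E : Subgroup (Γ × H)} (h : Fn E) (h' : ∀ A, ∃ g ∈ E, g.1 = A) :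
    ∃ Φ : Γ →* H, ∀ g ∈ E, Φ g.1 = g.2 := by
  choose f hf e using h'
  have key : ∀ g ∈ E, (f g.1).2 = g.2 := fun g hg => by rw [h.eq (hf _) hg (e _)]
  exact ⟨MonoidHom.mk' (fun A => (f A).2) fun a b => by
    simpa [e] using key _ (mul_mem (hf a) (hf b)), key⟩

end

theorem exists_unique_hom (hF : ∃ a : F, a ≠ 0 ∧ a ≠ 1) (hn : 2 ≤ n) {S M : Fin n → Subgroup (Sp n F)}
    (hS : ∀ k, S k = FixI (pl k)ᶜ) (hM : ∀ k : Fin n, (k : ℕ) + 1 < n → M k = FixI (TM k))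
    (σ : ∀ k, S k →* H) (μ : ∀ k, M k →* H) (h1 : ∀ k l, k ≠ l → Fn (gr (σ k) ⊔ gr (σ l)))
    (h2 : ∀ k l : Fin n, k ≠ l → (k : ℕ) + 1 < n → (l : ℕ) + 1 < n → Fn (gr (μ k) ⊔ gr (μ l)))
    (h3 : ∀ k l : Fin n, (k : ℕ) + 1 < n → Fn (gr (μ k) ⊔ gr (σ l))) :
    ∃! Φ : Sp n F →* H, (∀ (j : Fin n) (g : Sp n F) (hg : g ∈ S j), Φ g = σ j ⟨g, hg⟩) ∧
      ∀ i : Fin n, (i : ℕ) + 1 < n → ∀ (g : Sp n F) (hg : g ∈ M i), Φ g = μ i ⟨g, hg⟩ := by
  have h : Amal (fun k => gr (σ k)) fun k => gr (μ k) :=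
    ⟨fun k g hg => hS k ▸ (mem_gr.1 hg).1, fun k A hA => ⟨(A, σ k ⟨A, hS k ▸ hA⟩), mem_gr.2 ⟨_, rfl⟩, rfl⟩,
      fun k hk g hg => hM k hk ▸ (mem_gr.1 hg).1,
      fun k hk A hA => ⟨(A, μ k ⟨A, hM k hk ▸ hA⟩), mem_gr.2 ⟨_, rfl⟩, rfl⟩, h1, h2, h3⟩
  have hg := h.good hF hn ⟨0, by omega⟩
  have hex := fun A : Sp n F => hg.ex A fun i hi => absurd (Nat.zero_le _) hi
  obtain ⟨Φ, hΦ⟩ := hg.fn.exists_hom hex
  refine ⟨Φ, ⟨fun j g hg => hΦ (g, σ j ⟨g, hg⟩) (S_le_EE (Nat.zero_le _) (mem_gr.2 ⟨_, rfl⟩)),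
    fun j hj g hg => hΦ (g, μ j ⟨g, hg⟩) (M_le_EE (Nat.zero_le _) hj (mem_gr.2 ⟨_, rfl⟩))⟩, fun Ψ hΨ => ?_⟩
  ext A
  obtain ⟨g, hg', rfl⟩ := hex A
  rw [hΦ g hg']
  refine EE_le (K := (Ψ.comp (MonoidHom.fst _ _)).eqLocus (MonoidHom.snd _ _)) (fun k _ a ha => ?_)
    (fun k _ hk a ha => ?_) hg'
  · obtain ⟨h4, e⟩ := mem_gr.1 ha
    exact (hΨ.1 k _ h4).trans e
  · obtain ⟨h4, e⟩ := mem_gr.1 ha
    exact (hΨ.2 k hk _ h4).trans e

end Cfsg.Lib.Chev.SpAm
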