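import Cfsg.Agent.Chev.CommCoef
import Cfsg.Agent.Chev.LongMax
import Cfsg.Agent.Chev.TwistF4

/-!
# Overgroups of the subfield points in a twisted group
-/

set_option autoImplicit false
set_option linter.unusedSectionVars false

namespace Cfsg.Lib.Chev

open Cfsg.Lie Cfsg.Lib.Chev.Core

variable {F : Type*} [Field F] {D : ChevalleyDatum} {R : RootData D}

/-- A graph-field substitution with explicit tables. -/
structure SubData {G : Type*} [Group G] {P : RootSubst R F} (L : Classes P G) (f : F →+* F)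
    (σ : ℕ → ℕ) (ε : ℕ → ℤ) (O : Fin D.rank → List (Fin D.rank)) : Prop where
  g_eq : ∀ r, P.g r = f
  ρ_eq : ∀ r, r < D.nroots → P.S.ρ r = σ r
  ε_eq : ∀ r, P.ε r = ε r
  t_eq : ∀ i, P.S.t i = wprod R.weyl.s (O i)
  ε_one : ∀ r, r < D.nroots → σ r = r → ε r = 1
  simple : ∀ i, ∀ r ∈ L.L i, ∃ j : Fin D.rank, r = D.simple j
  orth : ∀ i, (L.L i).Pairwise fun r s => orthChk D r s = true
  const : ∀ i t, f t = t → (L.L i).map (fun r => (r, t)) ∈ L.Ω i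

/-- The action of a word in the generators of the twisted Weyl group. -/
def wact (D : ChevalleyDatum) (O : Fin D.rank → List (Fin D.rank)) (τ : List (Fin D.rank)) (r : ℕ) :
    ℕ := (τ.flatMap O).foldr (fun i s => D.reflectRoot i s) r

theorem wact_eq_1' : type_of% @wact.eq_1 := @wact.eq_1

theorem RootData.smul_eq_wact (R : RootData D) (O : Fin D.rank → List (Fin D.rank))
    (τ : List (Fin D.rank)) {r : ℕ} (hr : r < D.nroots) :
    wprod R.weyl.s (τ.flatMap O) • r = wact D O τ r := R.wprod_smul _ hr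

theorem eq_top_of_deg_two {f : F →+* F} (hf : ∀ t, f (f t) = t) {A : F → Prop}
    (h1 : ∀ s t, A s → A t → A (s + t)) (h2 : ∀ s t, f s = s → A t → A (s * t)) (h3 : A 1) {a : F}
    (ha : A a) (h4 : f a ≠ a) (t : F) : A t := by
  have h5 : a - f a ≠ 0 := sub_ne_zero.2 h4.symm
  have h6 : f a - a ≠ 0 := sub_ne_zero.2 h4
  have := h1 _ _ (h2 ((a * f t - f a * t) / (a - f a)) 1 (by
    simp only [map_div₀, map_sub, map_mul, hf]; field_simp; ring) h3)
    (h2 ((t - f t) / (a - f a)) a (by simp only [map_div₀, map_sub, hf]; field_simp; ring) ha)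
  convert this using 1
  field_simp
  ring

theorem eq_top_of_deg_three {f : F →+* F} (hf : ∀ t, f (f (f t)) = t) {A : F → Prop}
    (h1 : ∀ s t, A s → A t → A (s + t)) (h2 : ∀ s t, f s = s → A t → A (s * t)) (h3 : A 1) {a : F}
    (ha : A a) (h4 : f a ≠ a) (hb : A (f a * f (f a))) (t : F) : A t := by
  have h5 : a - f a ≠ 0 := sub_ne_zero.2 h4.symm
  have h6 : f a - f (f a) ≠ 0 := by rw [← map_sub]; exact (map_ne_zero f).2 h5
  have h7 : f (f a) - a ≠ 0 := by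
    have := (map_ne_zero f).2 h6
    rwa [map_sub, hf] at this
  have := h1 _ _ (h1 _ _ (h2 ((t * a * (f a ^ 2 - f (f a) ^ 2) + f t * f a * (f (f a) ^ 2 - a ^ 2) +
      f (f t) * f (f a) * (a ^ 2 - f a ^ 2)) / ((a - f a) * (f a - f (f a)) * (f (f a) - a))) 1 (by
      simp only [map_div₀, map_sub, map_mul, map_add, map_pow, hf]; field_simp; ring) h3)
    (h2 ((t * a * (f a - f (f a)) + f t * f a * (f (f a) - a) + f (f t) * f (f a) * (a - f a)) /
      -((a - f a) * (f a - f (f a)) * (f (f a) - a))) a (by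
      simp only [map_div₀, map_sub, map_mul, map_add, map_neg, hf]; field_simp; ring) ha))
    (h2 ((t * (f a - f (f a)) + f t * (f (f a) - a) + f (f t) * (a - f a)) /
      -((a - f a) * (f a - f (f a)) * (f (f a) - a))) _ (by
      simp only [map_div₀, map_sub, map_mul, map_add, map_neg, hf]; field_simp; ring) hb)
  convert this using 1
  field_simp
  ring

theorem Model.coef_of_mem_UJ {G : Type*} [Group G] {y : ℕ → F → G} (hy : Model R y)
    {J : Set (Fin D.rank)} {j : Fin D.rank} (hj : j ∈ J) {c : G}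
    (hc : c ∈ (hy.toStRelW.rgd R).UJ J) : coef R y j c = 0 :=
  (hy.coef_eq_zero_iff' j (RGD.UJ_le_U _ _ hc)).2 (spanX_mono _ (fun _ hs => And.intro hs.1
    fun h => hs.2 ⟨h.1, fun i hi => h.2 i fun e => hi (e ▸ hj)⟩) hc)

namespace Core.Cert

variable [Finite F] (C : Cert D) {P : RootSubst R F} (E : StEnd (C.model F R) P)
  {L : Classes P (GL D.Idx F)} {f : F →+* F} {σ : ℕ → ℕ} {ε : ℕ → ℤ}
  {O : Fin D.rank → List (Fin D.rank)} (hS : SubData L f σ ε O)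

omit [Finite F] in
include C in
theorem mapGL_word_of_fixed (R : RootData D) {v : List (ℕ × F)} (h : ∀ p ∈ v, f p.2 = p.2) :
    mapGL D f (word (xGL D F) v) = word (xGL D F) v := by
  rw [Chev.map_word]
  exact Chev.word_congr fun p hp => by rw [C.mapGL_xGL f R, h p hp]

variable (L) in
/-- The coefficients of the elements of `H` in a rank one unipotent subgroup. -/
def subA (H : Subgroup (GL D.Idx F)) (i : Fin D.rank) (t : F) : Prop :=
  ∃ g ∈ (C.Y F R).UL (P.S.orb i) ⊓ (E.twist C L).F, g ∈ H ∧ coef R (xGL D F) i g = t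

theorem subA_eq_1' : type_of% @subA.eq_1 := @subA.eq_1

theorem subA_add {H : Subgroup (GL D.Idx F)} {i : Fin D.rank} (s t : F) (hs : C.subA E L H i s)
    (ht : C.subA E L H i t) : C.subA E L H i (s + t) := by
  obtain ⟨a, ha, ha', rfl⟩ := hs
  obtain ⟨b, hb, hb', rfl⟩ := ht
  exact ⟨a * b, mul_mem ha hb, mul_mem ha' hb',
    (C.model F R).coef_mul i (RGD.UL_le_U _ _ ha.1) (RGD.UL_le_U _ _ hb.1)⟩

include hS

theorem wact_mem_fix (τ : List (Fin D.rank)) : wprod R.weyl.s (τ.flatMap O) ∈ P.S.fix := by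
  induction τ with
  | nil => exact one_mem _
  | cons i τ ih =>
    rw [List.flatMap_cons, wprod_append, ← hS.t_eq]
    exact mul_mem (P.S.t_mem_fix i) ih

theorem longRoot_of_chk {j : Fin D.rank} {τ ω : List (Fin D.rank)}
    (h0 : wprod R.weyl.s ω = R.weyl.w0 Set.univ) (h1 : σ (D.simple j) = D.simple j)
    (h2 : ∀ r, r < D.nroots → (2 ≤ R.rc r j ↔ r = wact D O τ (D.simple j)) ∧ R.rc r j ≤ 2 ∧
      R.rc ((τ.flatMap O ++ j :: (τ.flatMap O).reverse).foldr (fun i s => D.reflectRoot i s) r) j =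
        -R.rc r j)
    (h3 : ω.foldr (fun i s => D.reflectRoot i s) (wact D O τ (D.simple j)) =
      D.neg (wact D O τ (D.simple j))) : P.S.LongRoot j (wprod R.weyl.s (τ.flatMap O)) := by
  have hj := R.simple_lt j j.2
  have e := R.smul_eq_wact O τ hj
  refine ⟨R.weyl.simple_injective ((P.ρ_simple j).symm.trans ((hS.ρ_eq _ hj).trans h1)),
    wact_mem_fix hS τ, fun r hr => e ▸ (h2 r (R.weyl_mem.1 hr)).1,
    fun r hr => (h2 r (R.weyl_mem.1 hr)).2.1, fun r hr => ?_, ?_⟩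
  · have := (h2 r (R.weyl_mem.1 hr)).2.2
    rwa [← R.wprod_smul _ (R.weyl_mem.1 hr), wprod_append, wprod_cons, R.weyl.wprod_reverse,
      ← mul_assoc] at this
  · rw [← h0, RootData.weyl_simple, R.wprod_smul ω (R.weyl_smul_lt _ hj), e, h3]; rfl

theorem reg_of_coef {K : Subgroup (GL D.Idx F)} (hK : K ≤ (E.twist C L).G1)
    {J : List (Fin D.rank)} (hJ : ∀ i : Fin D.rank, ∃ j ∈ J, D.simple i ∈ L.L j)
    (h : ∀ j ∈ J, ∃ u ∈ (C.Y F R).U, u ∈ K ∧ coef R (xGL D F) j u ≠ 0) : (C.Y F R).Reg K := by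
  intro i
  obtain ⟨j, hj, hi⟩ := hJ i
  obtain ⟨u, hu, huK, h0⟩ := h j hj
  refine ⟨u, hu, huK, mt ((C.model F R).coef_eq_zero_iff' i hu).2 ?_⟩
  exact WeylData.Sym.Stable.orb_subset (S := P.S) (J := {j | coef R (xGL D F) j u ≠ 0})
    (fun j => by simp only [Set.mem_ofPred_eq, C.coef_π E L rfl j (u := ⟨u, hK huK⟩) hu, map_ne_zero])
    h0 (R.weyl.inJ_simple_iff.1 ((L.mem_L j _).1 hi).2)

theorem mem_of_subA {H : Subgroup (GL D.Idx F)} {i : Fin D.rank} {g : GL D.Idx F}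
    (hg : g ∈ (C.Y F R).UL (P.S.orb i) ⊓ (E.twist C L).F)
    (h : C.subA E L H i (coef R (xGL D F) i g)) : g ∈ H := by
  obtain ⟨a, ha, ha', e⟩ := h
  have h1 := mul_mem (Subgroup.inv_mem _ ha) hg
  have := C.eq_one_of_coef E L rfl (hS.simple i) (u := ⟨_, (E.twist C L).UL_inf_le_G1 i h1⟩) h1.1 (by
    rw [(C.model F R).coef_mul i (Subgroup.inv_mem _ (RGD.UL_le_U _ _ ha.1)) (RGD.UL_le_U _ _ hg.1),
      (C.model F R).coef_inv i (RGD.UL_le_U _ _ ha.1), e, neg_add_cancel])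
  rwa [← inv_mul_eq_one.1 (congrArg Subtype.val this)]

theorem word_mem_F {v : List (ℕ × F)} (h1 : ∀ r ∈ v.map Prod.fst, r < D.nroots)
    (h2 : (v.map Prod.fst).Pairwise fun r s => orthChk D r s = true)
    (h3 : (v.map fun p => (σ p.1, ε p.1 * f p.2)).Perm v) : word (xGL D F) v ∈ (E.twist C L).F := by
  have h4 : ∀ p ∈ v, p.1 < D.nroots := fun p hp => h1 _ (List.mem_map_of_mem hp)
  refine ⟨Chev.word_mem _ fun p hp => (C.model F R).x_mem_G0 (h4 p hp) _, ?_⟩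
  rw [StEnd.twist_σ, E.map_word h4]
  refine Eq.trans ?_ ((h3.map fun p => xGL D F p.1 p.2).symm.prod_eq' ?_).symm
  · rw [List.map_map]
    exact congrArg _ (List.map_congr_left fun p hp => by
      rw [RootSubst.app_apply, hS.ρ_eq _ (h4 p hp), hS.ε_eq, hS.g_eq]; rfl)
  · rw [List.pairwise_map] at h2 ⊢
    exact h2.imp fun hc => ((C.stRelN F R).toStRel.commute_of_orthChk R hc _ _).1

variable {M H : Subgroup (GL D.Idx F)}
  (hM : ∀ g, g ∈ M ↔ g ∈ (E.twist C L).G1 ∧ mapGL D f g = g)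
include hM

theorem word_int_mem {v : List (ℕ × ℤ)} (h1 : ∀ r ∈ v.map Prod.fst, D.IsPosRoot r)
    (h2 : (v.map Prod.fst).Pairwise fun r s => orthChk D r s = true)
    (h3 : (v.map fun p => (σ p.1, ε p.1 * p.2)).Perm v) :
    word (xGL D F) (v.map fun p => (p.1, (p.2 : F))) ∈ M := by
  have h4 : (v.map fun p => (p.1, (p.2 : F))).map Prod.fst = v.map Prod.fst := by
    rw [List.map_map]; rfl
  refine (hM _).2 ⟨(E.twist C L).U_inf_le_G1 (C.faithful F R) ⟨(C.model F R).word_mem_U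
    fun p hp => h1 _ (h4 ▸ List.mem_map_of_mem hp), C.word_mem_F E hS
      (fun r hr => (h1 r (h4 ▸ hr)).1) (h4 ▸ h2) ?_⟩,
    C.mapGL_word_of_fixed R (List.forall_mem_map.2 fun p _ => map_intCast f _)⟩
  simpa [List.map_map, Function.comp_def] using h3.map fun p => (p.1, (p.2 : F))

theorem const_mem (i : Fin D.rank) {t : F} (ht : f t = t) :
    word (xGL D F) ((L.L i).map fun r => (r, t)) ∈ ((C.Y F R).UL (P.S.orb i) ⊓ (E.twist C L).F) ⊓ M ∧
      coef R (xGL D F) i (word (xGL D F) ((L.L i).map fun r => (r, t))) = t :=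
  ⟨⟨(E.mem_UL_iff C L).2 ⟨_, hS.const i t ht, rfl⟩, (hM _).2 ⟨E.word_mem_G1 C L (hS.const i t ht),
    C.mapGL_word_of_fixed R (List.forall_mem_map.2 fun _ _ => ht)⟩⟩,
    C.coef_Ω E L rfl (hS.const i t ht) (List.mem_map_of_mem ((L.mem_L i _).2
      ⟨R.weyl.pos_simple i, R.weyl.inJ_simple_iff.2 (P.S.self_mem_orb i)⟩))⟩

theorem exists_lifts_t_mem (i : Fin D.rank) : ∃ m ∈ M, (C.Y F R).Lifts m (P.S.t i) := by
  have h1 := hS.const i 1 (map_one f)
  have h2 := (E.mem_VL_iff C L).2 ⟨_, h1, rfl⟩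
  obtain ⟨u, hu, m, hm, hl, u', hu', e⟩ := (E.twist C L).rank_one (C.faithful F R) h2 fun e => by
    rw [word_negWord] at e
    exact one_ne_zero (((C.model F R).posInj_neg).eq_zero ((C.model F R).stRelW_neg C).toStRel
      (by rw [L.fst i _ h1]; exact L.nodup i) (fun _ hp => L.pos (L.fst i _ h1) hp) e _ (List.mem_map_of_mem
        ((L.mem_L i _).2 ⟨R.weyl.pos_simple i, R.weyl.inJ_simple_iff.2 (P.S.self_mem_orb i)⟩)))
  refine ⟨m, (hM m).2 ⟨hm, ((C.fieldTwist R f).normal_form_F (C.faithful F R) (RGD.UL_le_U _ _ hu.1)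
    hl ((RGD.Uneg_w0 _ _).ge hu'.1) (e ▸ ⟨h2.2.1, C.mapGL_word_of_fixed R fun p hp => ?_⟩)).2.1.2⟩, hl⟩
  obtain ⟨q, hq, rfl⟩ := List.mem_map.1 hp
  obtain ⟨r, -, rfl⟩ := List.mem_map.1 hq
  simp

theorem exists_lifts_wact (τ : List (Fin D.rank)) :
    ∃ m ∈ M, (C.Y F R).Lifts m (wprod R.weyl.s (τ.flatMap O)) :=
  RGD.Twist.exists_lifts_of_t (C.faithful F R) (C.exists_lifts_t_mem E hS hM) (wact_mem_fix hS τ)

theorem xSub_inf_le {r : ℕ} (hr : r < D.nroots) (h : σ r = r) :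
    xSub (xGL D F) r ⊓ (E.twist C L).F ≤ M := by
  rintro a ⟨ha, hF⟩
  obtain ⟨t, rfl⟩ := ((C.stRelN F R).mem_xSub_iff hr).1 ha
  have h1 := (hS.ρ_eq r hr).trans h
  have h2 := (hS.ε_eq r).trans (hS.ε_one r hr h)
  have h3 := hF.2
  rw [StEnd.twist_σ, E.map_x r hr, RootSubst.app_apply, h1, h2, Int.cast_one, one_mul] at h3
  have h4 := C.xGL_injective R hr h3
  exact (hM _).2 ⟨E.x_mem_G1 C L hr h1 h2 h4, by rw [C.mapGL_xGL f R, ← hS.g_eq r, h4]⟩

omit hS in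
theorem exists_conj_coef {n : GL D.Idx F} (hn : n ∈ M) {w : R.weyl.W} (hl : (C.Y F R).Lifts n w)
    {r : ℕ} (hr : r < D.nroots) : ∃ c : F, c ≠ 0 ∧ f c = c ∧
      ∀ u, n * xGL D F r u * n⁻¹ = xGL D F (w • r) (c * u) := by
  obtain ⟨c, hc, e⟩ := (C.stRelN F R).toStRelW.lifts_conj_x' R hl hr
  have := congrArg (mapGL D f) (e 1)
  rw [map_mul, map_mul, map_inv, ((hM n).1 hn).2, C.mapGL_xGL f R, C.mapGL_xGL f R, map_one, e] at this
  exact ⟨c, hc, by simpa using (C.xGL_injective R (R.weyl_smul_lt w hr) this).symm, e⟩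

variable (hMH : M ≤ H) (hH : H ≤ (E.twist C L).G1)
include hMH

theorem subA_one (i : Fin D.rank) : C.subA E L H i 1 :=
  let ⟨h1, h2⟩ := C.const_mem E hS hM i (map_one f)
  ⟨_, h1.1, hMH h1.2, h2⟩

theorem subA_mul {i j : Fin D.rank} (h : ((L.L j).map fun r => D.pairing r (D.simple i)).sum = -1)
    (s t : F) (hs : f s = s) (ht : C.subA E L H i t) : C.subA E L H i (s * t) := by
  by_cases h0 : s = 0
  · exact ⟨1, one_mem _, one_mem _, by rw [h0, zero_mul, (C.model F R).coef_one]⟩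
  have hs' : f s⁻¹ = s⁻¹ := by rw [map_inv₀, hs]
  have h1 := E.prod_hel_mem_G1 C L (hS.orth j) (hS.const j _ hs')
    (by simpa [List.map_map, Function.comp_def] using hS.const j _ hs)
    (by simpa [List.map_map, Function.comp_def] using hS.const j (-1) (by simp))
  have hw : ∀ p ∈ (L.L j).map fun r => (r, s⁻¹), p.1 < D.nroots ∧ p.2 ≠ 0 :=
    List.forall_mem_map.2 fun r hr => ⟨R.weyl_mem.1 ((L.mem_L j r).1 hr).1.1, inv_ne_zero h0⟩
  have h2 : mapGL D f (((L.L j).map fun r => (r, s⁻¹)).map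
      fun p => hel D (xGL D F) p.1 p.2).prod =
      (((L.L j).map fun r => (r, s⁻¹)).map fun p => hel D (xGL D F) p.1 p.2).prod := by
    rw [map_list_prod, List.map_map]
    exact congrArg _ (List.map_congr_left (List.forall_mem_map.2 fun r _ => by
      rw [Function.comp_apply, C.mapGL_hel R f, hs']))
  have h3 : (((L.L j).map fun r => (r, s⁻¹)).map fun p => hel D (xGL D F) p.1 p.2).prod ∈
      hSub D (xGL D F) := Subgroup.list_prod_mem _ (List.forall_mem_map.2 fun p hp =>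
        hel_mem_hSub _ (hw p hp).1 (hw p hp).2)
  have h4 := (C.stRelN F R).toStRelW.prod_hel_conj R hw (R.simple_lt i i.2) 1
  have h5 := hMH ((hM _).2 ⟨h1, h2⟩)
  generalize (((L.L j).map fun r => (r, s⁻¹)).map fun p => hel D (xGL D F) p.1 p.2).prod = g at *
  obtain ⟨c, hc⟩ := (C.stRelN F R).toStRelW.exists_actsBy R h3
  have h6 : ∀ l : List ℕ, ((l.map fun r => (r, s⁻¹)).map fun p => p.2 ^ D.pairing p.1 (D.simple i)).prod
      = s⁻¹ ^ (l.map fun r => D.pairing r (D.simple i)).sum := fun l => by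
    induction l with
    | nil => simp
    | cons r l ih => rw [List.map_cons, List.map_cons, List.prod_cons, ih, List.map_cons,
        List.sum_cons, zpow_add₀ (inv_ne_zero h0)]
  rw [hc _ (R.simple_lt i i.2), h6, h, R.rc_simple, chr_single] at h4
  have h7 : (c i : F) = s := by simpa using C.xGL_injective R (R.simple_lt i i.2) h4
  obtain ⟨a, ha, ha', rfl⟩ := ht
  have hF := (E.twist C L).G1_le_F h1
  exact ⟨g * a * g⁻¹, ⟨conj_mem_of_mem_normalizer ((C.Y F R).H_le_normalizer_spanX (fun _ h => h.1.1)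
    h3) ha.1, mul_mem (mul_mem hF ha.2) (Subgroup.inv_mem _ hF)⟩,
    mul_mem (mul_mem h5 ha') (inv_mem h5),
    by rw [(C.model F R).coef_conj hc i (RGD.UL_le_U _ _ ha.1), h7]⟩

theorem exists_conj_UL {τ : List (Fin D.rank)} {i : Fin D.rank} {ν : ℕ} (hν : D.IsPosRoot ν)
    (e : wact D O τ ν = D.simple i) {S : Set ℕ}
    (h1 : ∀ r ∈ S, r < D.nroots ∧ R.ht ν ≤ R.ht r ∧ wact D O τ r ∈ L.L i) {a : GL D.Idx F}
    (ha : a ∈ spanX (xSub (xGL D F)) S) (h2 : a ∈ (E.twist C L).F)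
    (hA : ∀ s t, f s = s → C.subA E L H i t → C.subA E L H i (s * t)) :
    a ∈ H ↔ C.subA E L H i (lc R (xGL D F) ν a) := by
  obtain ⟨n, hn, hl⟩ := C.exists_lifts_wact E hS hM τ
  obtain ⟨c, hc0, hc, e'⟩ := C.exists_conj_coef E hM hn hl hν.1
  have h4 : ∀ r ∈ S, R.weyl.Pos (wprod R.weyl.s (τ.flatMap O) • r) ∧
      R.weyl.InJ (P.S.orb i) (wprod R.weyl.s (τ.flatMap O) • r) := fun r hr => by
    rw [R.smul_eq_wact O τ (h1 r hr).1]
    exact (L.mem_L i _).1 (h1 r hr).2.2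
  have hF := (E.twist C L).G1_le_F ((hM n).1 hn).1
  have h5 : n * a * n⁻¹ ∈ (C.Y F R).UL (P.S.orb i) ⊓ (E.twist C L).F :=
    ⟨hl.conj_spanX (fun r hr => R.weyl_mem.2 (h1 r hr).1) h4 ha,
      mul_mem (mul_mem hF h2) (Subgroup.inv_mem _ hF)⟩
  have h6 := (C.model F R).coef_conj_lc hν hl ((R.smul_eq_wact O τ hν.1).trans e) e'
    (fun r hr => ⟨(h1 r hr).1, (h1 r hr).2.1, (h4 r hr).1⟩) ha
  refine ⟨fun h => ?_, fun h => ?_⟩
  · have := hA c⁻¹ _ (by rw [map_inv₀, hc])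
      ⟨_, h5, mul_mem (mul_mem (hMH hn) h) (inv_mem (hMH hn)), h6⟩
    rwa [inv_mul_cancel_left₀ hc0] at this
  · have := C.mem_of_subA E hS (H := H) h5 (h6 ▸ hA _ _ hc h)
    simpa [mul_assoc] using mul_mem (mul_mem (inv_mem (hMH hn)) this) (hMH hn)

include hH

theorem subA_of_htLev {τ : List (Fin D.rank)} {i : Fin D.rank} {ν : ℕ} (hν : D.IsPosRoot ν)
    (e : wact D O τ ν = D.simple i) (h1 : ∀ r, r < D.nroots → R.ht r < 2 * R.ht ν ∧
      (R.ht r = R.ht ν → R.ht (σ r) = R.ht ν ∧ wact D O τ r ∈ L.L i) ∧ (R.ht ν < R.ht r → σ r = r))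
    (hA : ∀ s t, f s = s → C.subA E L H i t → C.subA E L H i (s * t)) {a : GL D.Idx F}
    (ha : a ∈ htLev R (xGL D F) (R.ht ν)) (haH : a ∈ H) :
    C.subA E L H i (lc R (xGL D F) ν a) := by
  have hY := C.faithful F R
  have h0 := R.ht_pos hν
  have hp : ∀ {r}, r < D.nroots → R.ht ν ≤ R.ht r → R.weyl.Pos r := fun hr h =>
    R.weyl_pos.2 ((R.pos_iff_ht hr).2 (h0.trans_le h))
  have h2 : ∀ r, r ∈ R.weyl.Φ ∧ R.ht ν + 1 ≤ R.weyl.stHt ∅ (R.weyl.rc r) →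
      r < D.nroots ∧ R.ht ν < R.ht r := fun r hr => ⟨R.weyl_mem.1 hr.1, R.stHt_empty_eq r ▸ hr.2⟩
  obtain ⟨b, hb, c, hc, rfl⟩ := (C.Y F R).comm.exists_mul_of_union (fun _ h => h.1)
    (R.weyl.stClosed_ge _ h0.le) (R.weyl.stHt ∅) (fun _ h => h0.trans_le h.2)
    (S₁ := {r | r < D.nroots ∧ R.ht r = R.ht ν})
    (S₂ := {r | r ∈ R.weyl.Φ ∧ R.ht ν + 1 ≤ R.weyl.stHt ∅ (R.weyl.rc r)}) (by
      ext r
      simp only [Set.mem_union, Set.mem_ofPred_eq, R.weyl_mem, RootData.weyl_rc, R.stHt_empty_eq]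
      omega) ha
  have hcl := R.weyl.stClosed_ge (R.weyl.stHt ∅) (c := R.ht ν + 1) (by omega)
  have h3 : ∀ r, r ∈ R.weyl.Φ ∧ R.ht ν + 1 ≤ R.weyl.stHt ∅ (R.weyl.rc r) → σ r = r := fun r hr =>
    (h1 r (h2 r hr).1).2.2 (h2 r hr).2
  obtain ⟨hbF, hcF⟩ := (E.twist C L).split ((C.Y F R).spanX_le_G0 fun r hr => R.weyl_mem.2 hr.1)
    ((C.Y F R).spanX_le_G0 fun r hr => hr.1)
    (fun _ => (E.twist C L).map_spanX (fun r hr => R.weyl_mem.2 hr.1) fun r hr =>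
      And.intro (P.ρ_lt hr.1) (by rw [hS.ρ_eq r hr.1]; exact ((h1 r hr.1).2.1 hr.2).1))
    (fun _ => (E.twist C L).map_spanX (fun r hr => hr.1) fun r hr => by
      rwa [hS.ρ_eq r (h2 r hr).1, h3 r hr])
    (fun g h4 h5 => by
      have := hY.mem_spanX_inter_pos (fun r hr => hp hr.1 hr.2.ge) (fun r hr => hp (h2 r hr).1
        (h2 r hr).2.le) (fun r hr s hs k hk => by
          obtain ⟨hk, i, j, hi, hj, e⟩ := hk
          have h6 := R.ht_of_rc_eq e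
          have h7 := (h1 k (R.weyl_mem.1 hk)).1
          rw [hr.2, hs.2] at h6
          have : (1 : ℤ) ≤ i := by exact_mod_cast hi
          have : (1 : ℤ) ≤ j := by exact_mod_cast hj
          nlinarith) hcl h4 h5
      exact (spanX_empty _).le (spanX_mono _ (fun r hr => (h2 r hr.2).2.ne' hr.1.2) this)) hb hc ((E.twist C L).G1_le_F (hH haH))
  have hcM : c ∈ M := (E.twist C L).spanX_inf_le hY (fun r hr => ⟨hp (h2 r hr).1 (h2 r hr).2.le,
      (hS.ρ_eq r (h2 r hr).1).trans (h3 r hr)⟩) hcl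
    (fun r hr => C.xSub_inf_le E hS hM (h2 r hr).1 (h3 r hr)) ⟨hc, hcF⟩
  rw [(C.model F R).lc_mul hν (spanX_mono _ (fun r hr => And.intro (R.weyl_mem.2 hr.1)
    ((R.stHt_empty_eq r).symm ▸ hr.2.ge)) hb) (lev_anti _ _ _ (by omega) hc),
    (C.model F R).lc_of_mem hν (Model.htLev_le_lcSet hc), add_zero]
  exact (C.exists_conj_UL E hS hM hMH hν e (fun r hr => ⟨hr.1, hr.2.ge, ((h1 r hr.1).2.1 hr.2).2⟩)
    hb hbF hA).1 ((H.mul_mem_cancel_right (hMH hcM)).1 haH)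

/-- The commutator of an element of `U ∩ H` with an element of `M`. -/
theorem subA_comm {τ : List (Fin D.rank)} {i : Fin D.rank} {ν : ℕ} (hν : D.IsPosRoot ν)
    (e : wact D O τ ν = D.simple i) (h1 : ∀ r, r < D.nroots → R.ht r < 2 * R.ht ν ∧
      (R.ht r = R.ht ν → R.ht (σ r) = R.ht ν ∧ wact D O τ r ∈ L.L i) ∧ (R.ht ν < R.ht r → σ r = r))
    (hA : ∀ s t, f s = s → C.subA E L H i t → C.subA E L H i (s * t)) {k : ℤ} (hk : 0 < k)
    (hh : R.ht ν = k + 1) {v : List (ℕ × ℤ)}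
    (h3 : ∀ r ∈ v.map Prod.fst, D.IsPosRoot r ∧ k ≤ R.ht r)
    (h4 : (v.map Prod.fst).Pairwise fun r s => orthChk D r s = true)
    (h5 : (v.map fun p => (σ p.1, ε p.1 * p.2)).Perm v) {N : Fin D.rank → ℤ}
    (hN : ∀ j, (v.map fun p => cN D ν p.1 j * p.2).sum = N j) {u : GL D.Idx F}
    (hu : u ∈ (C.Y F R).U ⊓ H) : C.subA E L H i (∑ j, N j * coef R (xGL D F) j u) := by
  have h6 := hMH (C.word_int_mem E hS hM (fun r hr => (h3 r hr).1) h4 h5)
  have h7 : ∀ p ∈ v.map fun p => (p.1, (p.2 : F)), p.1 < D.nroots ∧ k ≤ R.ht p.1 :=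
    List.forall_mem_map.2 fun p hp => ⟨(h3 _ (List.mem_map_of_mem hp)).1.1,
      (h3 _ (List.mem_map_of_mem hp)).2⟩
  have h8 := (C.model F R).comm_htLev one_pos hk ((RGD.U_eq_lev (Y := C.Y F R)).le hu.1)
    (word_mem_htLev h7)
  rw [add_comm, ← hh] at h8
  have := C.subA_of_htLev E hS hM hMH hH hν e h1 hA h8
    (mul_mem (mul_mem (mul_mem (inv_mem hu.2) (inv_mem h6)) hu.2) h6)
  rw [(C.model F R).lc_comm hν hk hh h7 hu.1] at this
  simpa [← hN, List.map_map, Function.comp_def] using this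

theorem U_inf_le_of_coef (h : ∀ u ∈ (C.Y F R).U ⊓ H, ∀ j,
    f (coef R (xGL D F) j u) = coef R (xGL D F) j u) : (C.Y F R).U ⊓ H ≤ M := by
  refine (E.twist C L).U_inf_le_of_comp (C.faithful F R) hMH (hH.trans (E.twist C L).G1_le_F)
    (C.exists_lifts_t_mem E hS hM) fun i a ha c hc hac => ?_
  refine (hM a).2 ⟨(E.twist C L).UL_inf_le_G1 i ha, ?_⟩
  obtain ⟨w, hw, rfl⟩ := (E.mem_UL_iff C L).1 ha
  refine C.mapGL_word_of_fixed R fun p hp => ?_
  have h2 := L.fst i w hw ▸ List.mem_map_of_mem (f := Prod.fst) hp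
  obtain ⟨j, hj⟩ := hS.simple i _ h2
  have h3 := h _ ⟨mul_mem (RGD.UL_le_U _ _ ha.1) (RGD.UJ_le_U _ _ hc), hac⟩ j
  have h4 : j ∈ P.S.orb i := R.weyl.inJ_simple_iff.1 (by
    rw [RootData.weyl_simple, ← hj]; exact ((L.mem_L i _).1 h2).2)
  rwa [(C.model F R).coef_mul j (RGD.UL_le_U _ _ ha.1) (RGD.UJ_le_U _ _ hc),
    (C.model F R).coef_of_mem_UJ h4 hc, add_zero,
    C.coef_Ω E L rfl hw (t := p.2) (by rwa [← hj])] at h3

omit hMH hH in
theorem exists_x_mem {K : Subgroup (GL D.Idx F)} (hK : M ≤ Subgroup.normalizer (K : Set (GL D.Idx F)))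
    {j : Fin D.rank} (hj : σ (D.simple j) = D.simple j)
    (h : (C.Y F R).X (R.weyl.simple j) ⊓ (E.twist C L).F ≤ K) (τ : List (Fin D.rank)) :
    ∃ c : F, c ≠ 0 ∧ xGL D F (wact D O τ (D.simple j)) c ∈ K := by
  have hr := R.simple_lt j j.2
  obtain ⟨n, hn, hl⟩ := C.exists_lifts_wact E hS hM τ
  obtain ⟨c, hc0, -, e⟩ := C.exists_conj_coef E hM hn hl hr
  refine ⟨c * 1, by simpa using hc0, ?_⟩
  rw [← R.smul_eq_wact O τ hr, ← e]
  exact conj_mem_of_mem_normalizer (hK hn) (h ⟨x_mem_xSub _ _ _, (E.twist C L).G1_le_F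
    (E.x_mem_G1 C L hr ((hS.ρ_eq _ hr).trans hj) ((hS.ε_eq _).trans (hS.ε_one _ hr hj))
      (map_one _))⟩)

omit hMH hH in
theorem exists_coef_ne_of_comm {K : Subgroup (GL D.Idx F)}
    (hK : M ≤ Subgroup.normalizer (K : Set (GL D.Idx F))) {β : ℕ} {a : F} (ha : a ≠ 0)
    (hβ : xGL D F β a ∈ K) {τ : List (Fin D.rank)} {i l : Fin D.rank} {k : ℤ} (hk : 0 < k)
    (h1 : ∀ r, r < D.nroots → k + 1 ≤ R.ht r → D.IsPosRoot (wact D O τ r)) {ν : ℕ}
    (hν : D.IsPosRoot ν ∧ wact D O τ ν = D.simple i ∧ R.ht ν = k + 1)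
    (h3 : β < D.nroots ∧ k ≤ R.ht β) (h4 : (∑ j, cN D ν β j *
      ((L.L l).map fun r => if r = D.simple j then 1 else 0).sum).natAbs = 1) :
    ∃ u ∈ (C.Y F R).U, u ∈ K ∧ coef R (xGL D F) i u ≠ 0 := by
  obtain ⟨n, hn, hl⟩ := C.exists_lifts_wact E hS hM τ
  obtain ⟨c, hc0, -, e'⟩ := C.exists_conj_coef E hM hn hl hν.1.1
  obtain ⟨⟨⟨hu, -⟩, huM⟩, -⟩ := C.const_mem E hS hM l (map_one f)
  have hw : ∀ r, r ∈ R.weyl.Φ ∧ k + 1 ≤ R.weyl.stHt ∅ (R.weyl.rc r) → r < D.nroots ∧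
      R.ht ν ≤ R.ht r ∧ R.weyl.Pos (wprod R.weyl.s (τ.flatMap O) • r) := fun r hr => by
    have h : k + 1 ≤ R.ht r := R.stHt_empty_eq r ▸ hr.2
    rw [R.smul_eq_wact O τ (R.weyl_mem.1 hr.1), R.weyl_pos]
    exact ⟨R.weyl_mem.1 hr.1, hν.2.2 ▸ h, h1 r (R.weyl_mem.1 hr.1) h⟩
  have h7 : ∀ p ∈ [(β, a)], p.1 < D.nroots ∧ k ≤ R.ht p.1 := by simpa using h3
  have h8 := (C.model F R).comm_htLev one_pos hk ((RGD.U_eq_lev (Y := C.Y F R)).le
    (RGD.UL_le_U _ _ hu)) (word_mem_htLev h7)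
  rw [add_comm] at h8
  refine ⟨_, hl.conj_spanX (fun _ h => h.1) (fun r hr => (hw r hr).2.2) h8,
    conj_mem_of_mem_normalizer (hK hn) ?_, ?_⟩
  · rw [word_cons, word_nil, mul_one]
    exact mul_mem (inv_conj_mem_of_mem_normalizer (hK huM) (inv_mem hβ)) hβ
  rw [(C.model F R).coef_conj_lc hν.1 hl ((R.smul_eq_wact O τ hν.1.1).trans hν.2.1) e' hw h8,
    (C.model F R).lc_comm hν.1 hk hν.2.2 h7 (RGD.UL_le_U _ _ hu)]
  refine mul_ne_zero hc0 fun h0 => sign_cast_ne_zero (F := F) (Int.natAbs_eq_iff.1 h4) ?_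
  refine mul_left_cancel₀ ha ?_
  rw [mul_zero, ← h0, Int.cast_sum, Finset.mul_sum]
  refine Finset.sum_congr rfl fun j _ => ?_
  rw [(C.model F R).coef_word j fun p hp => L.pos (L.fst l _ (hS.const l 1 (map_one f))) hp]
  simp [Int.cast_list_sum, List.map_map, Function.comp_def, mul_left_comm, mul_assoc]

theorem le_of_U_inf_le {j : Fin D.rank} {w : R.weyl.W} (hL : P.S.LongRoot j w) {r k : ℕ} {m : ℤ}
    (h1 : R.weyl.w0 {j}ᶜ • D.neg (D.simple j) = r)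
    (h2 : r ≠ D.neg (D.simple j) ∧ r ≠ D.simple j ∧
      D.commTerms (D.neg (D.simple j)) r = [(k, m, 1, 1)] ∧ k < D.nroots ∧ (m = 1 ∨ m = -1))
    (hreg : ∀ K ≤ M, M ≤ Subgroup.normalizer (K : Set (GL D.Idx F)) →
      (C.Y F R).X (R.weyl.simple j) ⊓ (E.twist C L).F ≤ K → (C.Y F R).Reg K)
    (hU : (C.Y F R).U ⊓ H ≤ M) : H ≤ M := by
  have : Fact (ringChar F).Prime := ⟨CharP.char_is_prime F _⟩
  have hj := R.simple_lt j j.2
  intro h hh
  obtain ⟨m', hm', hB⟩ := (E.twist C L).exists_mul_mem_B_long (C.faithful F R) hL (C.xSub_comm R)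
    (mapGL D f) (fun r hr a ha => C.mapGL_mem_xSub R f (R.weyl_mem.1 hr) ha) hM hMH hH
    (C.exists_lifts_t_mem E hS hM) (C.xSub_inf_le E hS hM hj ((hS.ρ_eq _ hj).symm.trans
      ((P.ρ_simple j).trans (by rw [hL.π_eq]; rfl)))) hU (fun a ha b hb e => by
      have hr : r < D.nroots := h1 ▸ R.weyl_smul_lt _ (R.neg_lt hj)
      obtain ⟨t, rfl⟩ := ((C.stRelN F R).mem_xSub_iff (R.neg_lt hj)).1 ha
      obtain ⟨u, rfl⟩ := ((C.stRelN F R).mem_xSub_iff hr).1 (h1 ▸ hb)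
      have h3 := (C.stRelN F R).comm _ r (R.neg_lt hj) hr h2.1 (by rw [R.neg_neg hj]; exact h2.2.1) t u
      rw [← e, left_eq_mul, ChevalleyDatum.commWord, h2.2.2.1] at h3
      simp only [List.map_cons, List.map_nil, word_cons, word_nil, mul_one, pow_one,
        C.xGL_eq_one_iff R h2.2.2.2.1, mul_eq_zero, sign_cast_ne_zero h2.2.2.2.2, false_or,
        neg_eq_zero] at h3
      exact h3.imp (C.xGL_eq_one_iff R (R.neg_lt hj)).2 (C.xGL_eq_one_iff R hr).2)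
    (C.isPGroup_U R (ringChar F))
    (fun _ hh => Cert.eq_one_of_mem_range_torGL R _ (C.hSub_le_range R hh)) hreg hh
  have h4 := mul_mem hh (hMH hm')
  obtain ⟨u, hu, a, ha, e⟩ := ((E.twist C L).mem_B_inf_iff (C.faithful F R)).1 ⟨hB, hH h4⟩
  obtain ⟨c, rfl⟩ := C.hSub_le_range R ha.1
  have h5 : torGL R F c ∈ M := (hM _).2 ⟨ha.2, by
    rw [mapGL_torGL]
    refine congrArg _ (funext fun i => Units.ext ?_)
    obtain ⟨⟨⟨hs, -⟩, hsM⟩, hc⟩ := C.const_mem E hS hM i (map_one f)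
    have hs' := RGD.UL_le_U _ _ hs
    refine C.fixed_of_conj_B R f hu.1 hs' (fun h0 => one_ne_zero (hc.symm.trans
      (((C.model F R).coef_eq_zero_iff' i hs').2 h0))) ((hM _).1 hsM).2 ((hM _).1 (hU ⟨?_, ?_⟩)).2
    · exact e ▸ conj_mem_of_mem_normalizer ((C.Y F R).B_le_normalizer_U hB) hs'
    · exact e ▸ H.mul_mem (H.mul_mem h4 (hMH hsM)) (H.inv_mem h4)⟩
  have h6 : u ∈ M := hU (Subgroup.mem_inf.2 ⟨hu.1, (H.mul_mem_cancel_right (hMH h5)).1 (e ▸ h4)⟩)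
  simpa using mul_mem (e ▸ mul_mem h6 h5 : h * m' ∈ M) (inv_mem hm')

theorem eq_or_eq_of_subA {J : List (Fin D.rank)} (hJ : ∀ i : Fin D.rank, ∃ j ∈ J, D.simple i ∈ L.L j)
    (h1 : ∀ u ∈ (C.Y F R).U ⊓ H, ∀ j ∈ J, σ (D.simple j) ≠ D.simple j →
      f (coef R (xGL D F) j u) ≠ coef R (xGL D F) j u →
        ∀ i ∈ J, σ (D.simple i) ≠ D.simple i → ∀ t, C.subA E L H i t)
    (h2 : (C.Y F R).U ⊓ H ≤ M → H ≤ M) : H = M ∨ H = (E.twist C L).G1 := by
  have hπ : ∀ i : Fin D.rank, σ (D.simple i) = D.simple i → P.S.π i = i := fun i h =>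
    R.weyl.simple_injective ((P.ρ_simple i).symm.trans ((hS.ρ_eq _ (R.simple_lt i i.2)).trans h))
  by_cases h : ∀ u ∈ (C.Y F R).U ⊓ H, ∀ j, f (coef R (xGL D F) j u) = coef R (xGL D F) j u
  · exact .inl (le_antisymm (h2 (C.U_inf_le_of_coef E hS hM hMH hH h)) hMH)
  push Not at h
  obtain ⟨u, hu, i, hi⟩ := h
  obtain ⟨j, hj, hij⟩ := hJ i
  have h3 : ∀ j, coef R (xGL D F) (P.S.π j) u = f (coef R (xGL D F) j u) := fun j =>
    hS.g_eq (D.simple j) ▸ C.coef_π E L rfl j (u := ⟨u, hH hu.2⟩) hu.1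
  have h4 : f (coef R (xGL D F) j u) ≠ coef R (xGL D F) j u := fun e =>
    hi (WeylData.Sym.Stable.orb_subset (S := P.S)
      (J := {j | f (coef R (xGL D F) j u) = coef R (xGL D F) j u})
      (fun j => by simp only [Set.mem_ofPred_eq, h3, f.injective.eq_iff]) e
      (R.weyl.inJ_simple_iff.1 ((L.mem_L j _).1 hij).2))
  refine .inr (le_antisymm hH ((E.twist C L).G1_le_of_UL (C.faithful F R) hMH
    (hMH.trans (hH.trans (E.twist C L).G1_le_F)) (C.exists_lifts_t_mem E hS hM) fun l => ?_))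
  obtain ⟨k, hk, hl⟩ := hJ l
  rw [P.S.orb_eq_of_mem (R.weyl.inJ_simple_iff.1 ((L.mem_L k _).1 hl).2)]
  by_cases h5 : σ (D.simple k) = D.simple k
  · rw [P.S.orb_of_fixed (hπ k h5), RGD.UL_singleton]
    exact (C.xSub_inf_le E hS hM (R.simple_lt k k.2) h5).trans hMH
  · exact fun g hg => C.mem_of_subA E hS hg (h1 u hu j hj (fun e => h4 (by rw [← h3, hπ j e])) h4 k hk
      h5 _)

omit hMH hH in
theorem ne_G1 {i : Fin D.rank} {t : F} (ht : f t ≠ t) {w : List (ℕ × F)} (hw : w ∈ L.Ω i)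
    (h : (D.simple i, t) ∈ w) : M ≠ (E.twist C L).G1 := by
  rintro rfl
  have h1 := C.coef_mapGL R f i (RGD.UL_le_U _ _ ((E.mem_UL_iff C L).2 ⟨w, hw, rfl⟩).1)
  rw [((hM _).1 (E.word_mem_G1 C L hw)).2, C.coef_Ω E L rfl hw h] at h1
  exact ht h1.symm

end Core.Cert

end Cfsg.Lib.Chev
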