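import Cfsg.Agent.Chev.SubMax
import Cfsg.Agent.Chev.TwistD4

/-!
# The subfield points of `²E₆(q)` and `³D₄(q)` are maximal subgroups
-/

set_option autoImplicit false
set_option linter.unusedSectionVars false

namespace Cfsg.Lib.Chev

open Cfsg.Lie Cfsg.Lib.Chev.Core

variable {K : Type*} [Field K]

theorem exists_pow_ne_self [Fintype K] {q n : ℕ} (hK : Fintype.card K = q ^ n) (hn : 1 < n) :
    ∃ t : K, t ^ q ≠ t := by
  by_contra h
  push Not at h
  have h1 := card_pow_eq_self hK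
  rw [Nat.card_congr (Equiv.subtypeUnivEquiv h), Nat.card_eq_fintype_card, hK] at h1
  have := Nat.pow_lt_pow_right (two_le_of_card hK) hn
  rw [pow_one] at this
  omega

theorem mapGL_eq_iff {D : ChevalleyDatum} {f : K →+* K} {g : GL D.Idx K} : mapGL D f g = g ↔
    ∀ i j, f ((g : Matrix D.Idx D.Idx K) i j) = (g : Matrix D.Idx D.Idx K) i j := by
  rw [Units.ext_iff, coe_mapGL, ← Matrix.ext_iff]; rfl

theorem subData_E6 {f : K →+* K} (hf : ∀ t, f (f t) = t) :
    SubData (clE6 f hf (GL chevE6.Idx K)) f gE6.σ gE6.ε orbE6 where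
  g_eq _ := rfl
  ρ_eq _ := gE6.sym_ρ rootE6
  ε_eq _ := rfl
  t_eq i := (twist_E6_t (hasC_E6 rootE6) (subE6 f).S (subE6_π f) i).2.1
  ε_one := by decide +kernel
  simple := (by decide +kernel : ∀ i : Fin 6, ∀ r ∈ listE6 i, ∃ j : Fin 6, r = chevE6.simple j)
  orth := (by decide +kernel : ∀ i : Fin 6, (listE6 i).Pairwise fun r s => orthChk chevE6 r s = true)
  const := forall_fin6 (fun t ht => ⟨t, by rw [ht]; rfl⟩) (fun t ht => ⟨t, ht, rfl⟩)
    (fun t ht => ⟨t, by rw [ht]; rfl⟩) (fun t ht => ⟨t, ht, rfl⟩) (fun t ht => ⟨t, by rw [ht]; rfl⟩)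
    fun t ht => ⟨t, by rw [ht]; rfl⟩

theorem maximal_twE6 [Finite K] {f : K →+* K} (hf : ∀ t, f (f t) = t) {M H : Subgroup (GL chevE6.Idx K)}
    (hM : ∀ g, g ∈ M ↔ g ∈ (twE6 f hf).G1 ∧ mapGL chevE6 f g = g) (hMH : M ≤ H)
    (hH : H ≤ (twE6 f hf).G1) : H = M ∨ H = (twE6 f hf).G1 := by
  have hS := subData_E6 hf
  have hJ : ∀ i : Fin 6, ∃ j ∈ ([0, 1, 2, 3] : List (Fin 6)), chevE6.simple i ∈ listE6 j := by
    decide +kernel
  have c0 : wact chevE6 orbE6 ([2, 3, 2, 1, 3, 2, 0] : List (Fin 6)) 68 = chevE6.simple (0 : Fin 6) := by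
    decide +kernel
  have c2 : wact chevE6 orbE6 ([3, 0, 2, 1, 3, 2, 0] : List (Fin 6)) 68 = chevE6.simple (2 : Fin 6) := by
    decide +kernel
  refine Core.certE6.eq_or_eq_of_subA (endE6 f hf) hS hM hMH hH hJ (fun u hu j hj h1 h2 => ?_)
    (Core.certE6.le_of_U_inf_le (endE6 f hf) hS hM hMH hH (j := (1 : Fin 6))
      (Cert.longRoot_of_chk hS (τ := ([1, 3, 2, 3, 0, 2, 3] : List (Fin 6)))
        (longest_E6 (hasC_E6 rootE6)) (by decide +kernel) (by decide +kernel) (by decide +kernel))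
      (r := 1) (k := 0) (m := -1) ?_ (by decide +kernel) fun N hN hN' hX => ?_)
  · have key : ∀ (i l : Fin 6) (τ : List (Fin 6)), wact chevE6 orbE6 τ 68 = chevE6.simple i →
        (∀ r, r < chevE6.nroots → rootE6.ht r < 2 * rootE6.ht 68 ∧ (rootE6.ht r = rootE6.ht 68 →
          rootE6.ht (gE6.σ r) = rootE6.ht 68 ∧ wact chevE6 orbE6 τ r ∈ listE6 i) ∧
          (rootE6.ht 68 < rootE6.ht r → gE6.σ r = r)) →
        ((listE6 l).map fun r => chevE6.pairing r (chevE6.simple i)).sum = -1 →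
        ∀ t, Core.certE6.subA (endE6 f hf) (clE6 f hf _) H i t := fun i l τ h3 h4 h5 => by
      have hA := Core.certE6.subA_mul (endE6 f hf) hS hM hMH (j := l) h5
      obtain ⟨a, ha⟩ : ∃ a : Fin 6 → K, a = fun j => coef rootE6 (xGL chevE6 K) j u := ⟨_, rfl⟩
      have hc := fun (v : List (ℕ × ℤ)) h3' h4' h5' (N : Fin 6 → ℤ) (hN : ∀ j : Fin 6,
        (v.map fun p => cN chevE6 68 p.1 j * p.2).sum = N j) =>
        (ha ▸ Core.certE6.subA_comm (endE6 f hf) hS hM hMH hH (by decide +kernel) h3 h4 hA (k := 7) (by decide) (by decide +kernel) (v := v) h3' h4'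
        h5' (N := N) hN hu : Core.certE6.subA (endE6 f hf) (clE6 f hf _) H i (∑ j : Fin 6, N j * a j))
      have hπ := Core.certE6.coef_π (endE6 f hf) (clE6 f hf _) rfl (0 : Fin 6) (u := ⟨u, hH hu.2⟩) hu.1
      rw [subE6_π] at hπ
      replace hπ : a 5 = f (a 0) := ha ▸ hπ
      replace h2 : f (a j) ≠ a j := ha ▸ h2
      have fin := fun a => eq_top_of_deg_two (a := a) hf (Core.certE6.subA_add _) hA
        (Core.certE6.subA_one _ hS hM hMH i)
      revert j
      refine List.forall_mem_cons.2 ⟨fun _ h2 => ?_, List.forall_mem_cons.2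
        ⟨fun h => absurd (by decide +kernel) h, List.forall_mem_cons.2 ⟨fun _ h2 => ?_,
          List.forall_mem_cons.2 ⟨fun h => absurd (by decide +kernel) h, List.forall_mem_nil _⟩⟩⟩⟩
      · refine fin _ (hc [(55, 1), (67, -1)] (by decide +kernel) (by decide +kernel)
          (by decide +kernel) ![0, 0, 0, 0, 0, -1] (by decide +kernel)) ?_
        simpa [Fin.sum_univ_six, hπ, f.injective.eq_iff] using h2
      · refine fin _ (hc [(65, 1)] (by decide +kernel) (by decide +kernel)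
          (by decide +kernel) ![0, 0, 1, 0, 0, 0] (by decide +kernel)) ?_
        simpa [Fin.sum_univ_six] using h2
    exact List.forall_mem_cons.2 ⟨fun _ => key 0 2 _ c0 (by decide +kernel) (by decide +kernel),
      List.forall_mem_cons.2 ⟨fun h => absurd (by decide +kernel) h, List.forall_mem_cons.2
        ⟨fun _ => key 2 3 _ c2 (by decide +kernel) (by decide +kernel),
          List.forall_mem_cons.2 ⟨fun h => absurd (by decide +kernel) h, List.forall_mem_nil _⟩⟩⟩⟩
  · exact (congrArg (· • chevE6.neg (chevE6.simple (1 : Fin 6)))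
      (WeylData.HasC.eq_w0 (l := 6) (hasC_E6 rootE6) (J := {1}ᶜ)
        (ω := [0, 2, 3, 4, 5, 0, 2, 3, 4, 0, 2, 3, 0, 2, 0]) (by decide) (by decide +kernel))).symm.trans
      ((rootE6.wprod_smul _ (by decide +kernel)).trans (by decide +kernel))
  · have hx := Core.certE6.exists_x_mem (endE6 f hf) hS hM hN' (by decide +kernel) hX
    have k1 : ∀ (i : Fin 6) (τ : List (Fin 6)), wact chevE6 orbE6 τ (chevE6.simple (1 : Fin 6)) =
        chevE6.simple i → ∃ u ∈ (Core.certE6.Y K rootE6).U, u ∈ N ∧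
          coef rootE6 (xGL chevE6 K) i u ≠ 0 := fun i τ e => by
      obtain ⟨c, hc, h⟩ := hx τ
      exact ⟨_, RGD.X_le_U _ (rootE6.weyl.pos_simple i) (x_mem_xSub _ _ c), (e ▸ h :),
        ((Core.certE6.model K rootE6).coef_simple i c).trans_ne hc⟩
    obtain ⟨c, hc, h⟩ := hx ([3, 0, 2, 3] : List (Fin 6))
    have k2 := fun i τ => Core.certE6.exists_coef_ne_of_comm (endE6 f hf) hS hM hN' hc h (τ := τ)
      (i := i) (l := (2 : Fin 6)) (k := 7) (by decide) (ν := 68)
    have k3 : (∑ j : Fin 6, cN chevE6 68 (wact chevE6 orbE6 ([3, 0, 2, 3] : List (Fin 6))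
        (chevE6.simple (1 : Fin 6))) j * ((listE6 2).map fun r =>
          if r = chevE6.simple j then 1 else 0).sum).natAbs = 1 := by decide +kernel
    exact Core.certE6.reg_of_coef (endE6 f hf) hS (hN.trans (hMH.trans hH)) hJ
      (List.forall_mem_cons.2 ⟨k2 _ _ (by decide +kernel) ⟨by decide +kernel, c0, by decide +kernel⟩
        (by decide +kernel) k3, List.forall_mem_cons.2 ⟨k1 1 [] rfl, List.forall_mem_cons.2
        ⟨k2 _ _ (by decide +kernel) ⟨by decide +kernel, c2, by decide +kernel⟩ (by decide +kernel) k3,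
          List.forall_mem_cons.2 ⟨k1 3 [1, 3] (by decide +kernel), List.forall_mem_nil _⟩⟩⟩⟩)

theorem subData_D4 {f : K →+* K} (hf : ∀ t, f (f (f t)) = t) :
    SubData (clD4 f hf (GL chevD4.Idx K)) f gD4a.σ gD4a.ε orbD4 where
  g_eq _ := rfl
  ρ_eq _ := gD4a.sym_ρ rootD4
  ε_eq _ := rfl
  t_eq i := (twist_D4_t (hasC_D4 rootD4) (subD4 f).S (subD4_π f) i).2.1
  ε_one := by decide +kernel
  simple := (by decide +kernel : ∀ i : Fin 4, ∀ r ∈ listD4 i, ∃ j : Fin 4, r = chevD4.simple j)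
  orth := (by decide +kernel : ∀ i : Fin 4, (listD4 i).Pairwise fun r s => orthChk chevD4 r s = true)
  const := forall_fin4 (fun t ht => ⟨t, by rw [ht, ht]; rfl⟩) (fun t ht => ⟨t, ht, rfl⟩)
    (fun t ht => ⟨t, by rw [ht, ht]; rfl⟩) fun t ht => ⟨t, by rw [ht, ht]; rfl⟩

theorem StRel.conj_eq_mul {G : Type*} [Group G] {D : ChevalleyDatum} {x : ℕ → K → G} (h : StRel D x)
    (R : RootData D) {r s k : ℕ} {m : ℤ} (hc : r < D.nroots ∧ s < D.nroots ∧ k < D.nroots ∧ s ≠ r ∧
      s ≠ D.neg r ∧ k ≠ D.neg s ∧ D.chainRoot s k 1 = none ∧ D.commTerms r s = [(k, m, 1, 1)])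
    (t u : K) : MulAut.conj (x s u) (x r t) = x r t * x k (-(m * t * u)) := by
  obtain ⟨h1, h2, h3, h4, h5, h6, h7, h8⟩ := hc
  rw [MulAut.conj_apply, h.comm r s h1 h2 h4 h5, ChevalleyDatum.commWord, h8, mul_assoc, mul_assoc]
  simp [← mul_assoc, (h.commute R h2 h3 h6 h7 _ _).eq]

theorem conj_D4 {G : Type*} [Group G] {x : ℕ → K → G} (h : StRel chevD4 x) (a b c : K) :
    (word x [(19, -a), (16, b), (15, c)])⁻¹ * (x 14 1)⁻¹ * (word x [(18, a), (13, b), (12, c)] * x 14 1 *
      (word x [(18, a), (13, b), (12, c)])⁻¹) = (x 15 c)⁻¹ * x 21 (-(b * a)) * x 15 c *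
        word x [(20, -(c * a)), (17, c * b), (22, -(c * b * a))] := by
  have e : word x [(18, a), (13, b), (12, c)] * x 14 1 * (word x [(18, a), (13, b), (12, c)])⁻¹ =
      MulAut.conj (x 18 a) (MulAut.conj (x 13 b) (MulAut.conj (x 12 c) (x 14 1))) := by
    simp [mul_assoc]
  rw [e, h.conj_eq_mul rootD4 (k := 15) (m := -1) (by decide +kernel), map_mul,
    h.conj_eq_mul rootD4 (k := 16) (m := -1) (by decide +kernel),
    h.conj_eq_mul rootD4 (k := 17) (m := -1) (by decide +kernel), map_mul, map_mul, map_mul,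
    h.conj_eq_mul rootD4 (k := 19) (m := 1) (by decide +kernel),
    h.conj_eq_mul rootD4 (k := 21) (m := 1) (by decide +kernel),
    h.conj_eq_mul rootD4 (k := 20) (m := 1) (by decide +kernel),
    h.conj_eq_mul rootD4 (k := 22) (m := 1) (by decide +kernel)]
  simp [mul_assoc]

theorem maximal_twD4 [Finite K] {f : K →+* K} (hf : ∀ t, f (f (f t)) = t)
    {M H : Subgroup (GL chevD4.Idx K)}
    (hM : ∀ g, g ∈ M ↔ g ∈ (twD4 f hf).G1 ∧ mapGL chevD4 f g = g) (hMH : M ≤ H)
    (hH : H ≤ (twD4 f hf).G1) : H = M ∨ H = (twD4 f hf).G1 := by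
  have hS := subData_D4 hf
  have hy := Core.certD4.model K rootD4
  have hJ : ∀ i : Fin 4, ∃ j ∈ ([0, 1] : List (Fin 4)), chevD4.simple i ∈ listD4 j := by
    decide +kernel
  have c0 : wact chevD4 orbD4 ([1] : List (Fin 4)) 19 = chevD4.simple (0 : Fin 4) := by
    decide +kernel
  refine Core.certD4.eq_or_eq_of_subA (endD4 f hf) hS hM hMH hH hJ (fun u hu => ?_)
    (Core.certD4.le_of_U_inf_le (endD4 f hf) hS hM hMH hH (j := (1 : Fin 4))
      (Cert.longRoot_of_chk hS (τ := ([1, 0] : List (Fin 4)))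
        (longest_D4 (hasC_D4 rootD4)) (by decide +kernel) (by decide +kernel) (by decide +kernel))
      (r := 1) (k := 0) (m := -1) ?_ (by decide +kernel) fun N hN hN' hX => ?_)
  · refine List.forall_mem_cons.2 ⟨fun _ h2 => List.forall_mem_cons.2 ⟨fun _ => ?_,
      List.forall_mem_cons.2 ⟨fun h => absurd (by decide +kernel) h, List.forall_mem_nil _⟩⟩,
      List.forall_mem_cons.2 ⟨fun h => absurd (by decide +kernel) h, List.forall_mem_nil _⟩⟩
    have hA := Core.certD4.subA_mul (endD4 f hf) hS hM hMH (i := (0 : Fin 4)) (j := (1 : Fin 4))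
      (by decide +kernel : ((listD4 1).map fun r => chevD4.pairing r (chevD4.simple (0 : Fin 4))).sum = -1)
    have c1 : wact chevD4 orbD4 ([1, 0] : List (Fin 4)) 17 = chevD4.simple (0 : Fin 4) := by
      decide +kernel
    have c2 : ∀ r, r < chevD4.nroots → rootD4.ht r < 2 * rootD4.ht 17 ∧ (rootD4.ht r = rootD4.ht 17 →
        rootD4.ht (gD4a.σ r) = rootD4.ht 17 ∧ wact chevD4 orbD4 ([1, 0] : List (Fin 4)) r ∈ listD4 0) ∧
        (rootD4.ht 17 < rootD4.ht r → gD4a.σ r = r) := by decide +kernel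
    obtain ⟨a, ha⟩ : ∃ a : Fin 4 → K, a = fun j => coef rootD4 (xGL chevD4 K) j u := ⟨_, rfl⟩
    have hc : Core.certD4.subA (endD4 f hf) (clD4 f hf _) H (0 : Fin 4)
        (∑ j : Fin 4, ((![0, 0, -1, -1] : Fin 4 → ℤ) j) * a j) :=
      ha ▸ Core.certD4.subA_comm (endD4 f hf) hS hM hMH hH (by decide +kernel) c1 c2 hA (k := 2)
        (by decide) (by decide +kernel) (v := [(19, 1), (16, -1), (15, -1)]) (by decide +kernel)
        (by decide +kernel) (by decide +kernel) (by decide +kernel : ∀ j : Fin 4, _ = _) hu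
    have hπ : ∀ i : Fin 4, a (piD4 i) = f (a i) := fun i => by
      have := Core.certD4.coef_π (endD4 f hf) (clD4 f hf _) rfl i (u := ⟨u, hH hu.2⟩) hu.1
      rw [subD4_π] at this
      exact ha ▸ this
    replace h2 : f (a 0) ≠ a 0 := ha ▸ h2
    refine eq_top_of_deg_three hf (Core.certD4.subA_add _) hA (Core.certD4.subA_one _ hS hM hMH _) hc
      (fun e => h2 ?_) ?_
    · simp [Fin.sum_univ_four, show a 2 = _ from hπ 0, show a 3 = _ from hπ 2, hf] at e
      linear_combination e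
    generalize ∑ j : Fin 4, ((![0, 0, -1, -1] : Fin 4 → ℤ) j) * a j = t at hc
    obtain ⟨g, hg, hgH, rfl⟩ := id hc
    obtain ⟨_, ⟨t, rfl⟩, rfl⟩ := ((endD4 f hf).mem_UL_iff _ _).1 hg
    have e : coef rootD4 (xGL chevD4 K) (0 : Fin 4) (word (xGL chevD4 K)
        [(18, t), (13, f t), (12, f (f t))]) = t :=
      Core.certD4.coef_Ω (endD4 f hf) (clD4 f hf _) rfl (i := (0 : Fin 4)) ⟨t, rfl⟩ (.head _)
    rw [e] at hc ⊢
    have h3 : ∀ r ∈ [19, 16, 15], r < chevD4.nroots ∧ rootD4.ht 19 ≤ rootD4.ht r ∧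
        wact chevD4 orbD4 ([1] : List (Fin 4)) r ∈ listD4 0 := by decide +kernel
    have h4 : word (xGL chevD4 K) [(19, -t), (16, f t), (15, f (f t))] ∈ H := by
      refine (Core.certD4.exists_conj_UL (endD4 f hf) hS hM hMH (by decide +kernel) c0
        (S := {r | r ∈ [19, 16, 15]}) h3 (Chev.word_mem _ fun p hp => mem_spanX
          (T := {r | r ∈ [19, 16, 15]}) _ (List.mem_map_of_mem (f := Prod.fst) hp) (x_mem_xSub _ _ _))
        (Core.certD4.word_mem_F _ hS (v := [(19, -t), (16, f t), (15, f (f t))])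
          (fun r hr => (h3 r hr).1) (by decide +kernel : [19, 16, 15].Pairwise
          fun r s => orthChk chevD4 r s = true) ?_) hA).2 ?_
      · have : gD4a.σ 19 = 16 ∧ gD4a.ε 19 = -1 ∧ gD4a.σ 16 = 15 ∧ gD4a.ε 16 = 1 ∧ gD4a.σ 15 = 19 ∧
            gD4a.ε 15 = -1 := by decide +kernel
        simpa [this, hf] using List.perm_append_comm (l₁ := [(16, f t), (15, f (f t))]) (l₂ := [(19, -t)])
      · rw [hy.lc_word (by decide +kernel) fun p hp =>
          ⟨(h3 _ (List.mem_map_of_mem (f := Prod.fst) hp)).1,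
            (h3 _ (List.mem_map_of_mem (f := Prod.fst) hp)).2.1⟩]
        simpa using hA (-1) _ (by simp) hc
    have h5 : xGL chevD4 K 14 1 ∈ H := hMH ((hM _).2 ⟨x_mem_twD4 f hf (by decide +kernel) (map_one f),
      by rw [Core.certD4.mapGL_xGL f rootD4, map_one]⟩)
    have h6 := mul_mem (mul_mem (inv_mem h4) (inv_mem h5)) (mul_mem (mul_mem hgH h5) (inv_mem hgH))
    rw [conj_D4 hy.toStRel] at h6
    have h7 : ∀ r ∈ [21, 20, 17, 22], r < chevD4.nroots ∧ rootD4.ht 17 ≤ rootD4.ht r := by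
      decide +kernel
    have h8 : ∀ p ∈ [(20, -(f (f t) * t)), (17, f (f t) * f t), (22, -(f (f t) * f t * t))],
        p.1 < chevD4.nroots ∧ rootD4.ht 17 ≤ rootD4.ht p.1 := fun p hp =>
      h7 _ (List.mem_cons_of_mem _ (List.mem_map_of_mem (f := Prod.fst) hp))
    have h9 := x_mem_htLev (y := xGL chevD4 K) (h7 21 (.head _)).1 (h7 21 (.head _)).2 (-(f t * t))
    have h10 : xGL chevD4 K 15 (f (f t)) ∈ htLev rootD4 (xGL chevD4 K) 1 :=
      x_mem_htLev (by decide +kernel) (by decide +kernel) _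
    have h11 := inv_conj_mem_of_mem_normalizer ((hy.toStRel.rcomm rootD4).lev_le_normalizer _
      zero_le_one (by decide +kernel) h10) h9
    have := Core.certD4.subA_of_htLev (endD4 f hf) hS hM hMH hH (by decide +kernel) c1 c2 hA
      (mul_mem h11 (word_mem_htLev h8)) h6
    rw [hy.lc_mul (by decide +kernel) h11 (word_mem_htLev h8), hy.lc_conj (by decide +kernel) h9 h10,
      hy.lc_x (by decide +kernel) (h7 21 (.head _)).1 (h7 21 (.head _)).2,
      hy.lc_word (by decide +kernel) h8] at this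
    simpa [mul_comm] using this
  · exact (congrArg (· • chevD4.neg (chevD4.simple (1 : Fin 4)))
      (WeylData.HasC.eq_w0 (l := 4) (hasC_D4 rootD4) (J := {1}ᶜ)
        (ω := [0, 2, 3]) (by decide) (by decide +kernel))).symm.trans
      ((rootD4.wprod_smul _ (by decide +kernel)).trans (by decide +kernel))
  · obtain ⟨c, hc, h⟩ := Core.certD4.exists_x_mem (endD4 f hf) hS hM hN' (by decide +kernel) hX []
    exact Core.certD4.reg_of_coef (endD4 f hf) hS (hN.trans (hMH.trans hH)) hJ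
      (List.forall_mem_cons.2 ⟨Core.certD4.exists_coef_ne_of_comm (endD4 f hf) hS hM hN' hc h
        (l := (0 : Fin 4)) (k := 1) (by decide) (by decide +kernel)
        ⟨by decide +kernel, c0, by decide +kernel⟩ (by decide +kernel)
        (by decide +kernel : (∑ j : Fin 4, cN chevD4 19 14 j * ((listD4 0).map fun r =>
          if r = chevD4.simple j then 1 else 0).sum).natAbs = 1), List.forall_mem_cons.2
        ⟨⟨_, RGD.X_le_U _ (rootD4.weyl.pos_simple (1 : Fin 4)) (x_mem_xSub _ _ c), h,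
          (hy.coef_simple (1 : Fin 4) c).trans_ne hc⟩, List.forall_mem_nil _⟩⟩)

end Cfsg.Lib.Chev
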