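import Cfsg.Agent.Chev.ThGr
import Cfsg.Agent.Chev.EGInst
import Cfsg.Agent.Chev.CoreAll

/-!
# Squares of real classes in the exceptional Chevalley groups
-/

set_option autoImplicit false
set_option linter.unusedSectionVars false

namespace Cfsg.Lib.Chev

open Cfsg.Lie Cfsg.Lib.Chev.Core Cfsg.Lib.Known Cfsg.Lib.Class

/-- A subsystem of type `A` with the structure constants of `SL`. -/
def ThSub (D : ChevalleyDatum) {n : ℕ} (ρ : Fin n → Fin n → ℕ) (η : Fin n → Fin n → ℤ) : Prop :=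
  ∀ a b, a ≠ b → (ρ a b < D.nroots ∧ ρ b a = D.neg (ρ a b) ∧ η b a = η a b ∧ η a b * η a b = 1) ∧
    (∀ c, b ≠ c → a ≠ c → ρ a b ≠ ρ b c ∧ ρ a b ≠ D.neg (ρ b c) ∧
      D.commTerms (ρ b c) (ρ a b) = [(ρ a c, -(η a c * η a b * η b c), 1, 1)]) ∧
    ∀ c d, c ≠ d → b ≠ c → a ≠ d → ρ c d ≠ D.neg (ρ a b) ∧ D.chainRoot (ρ a b) (ρ c d) 1 = none

/-- A real cocharacter whose centraliser is the given subsystem. -/
def ThTor (D : ChevalleyDatum) {k : ℕ} (ρ : Fin (k + 1) → Fin (k + 1) → ℕ) (L : List ℕ) (τ : ℕ → ℕ) : Prop :=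
  (∀ r ∈ L, r < D.nroots ∧ τ r = D.neg r) ∧ (∀ a b, a ≠ b → (L.map (D.pairing · (ρ a b))).sum = 0) ∧
    (∀ r < D.nroots, (L.map (D.pairing · r)).sum.natAbs < 8 ∧
      (D.nroots / 2 ≤ r → 0 < (L.map (D.pairing · r)).sum ∨ ∃ a b, a < b ∧ ρ a b = r) ∧
      (r < D.nroots / 2 → (L.map (D.pairing · r)).sum < 0 ∨ ∃ a b, b < a ∧ ρ a b = r)) ∧
    ((∀ i : Fin k, τ (ρ i.castSucc i.succ) = ρ i.castSucc i.succ) ∨
      ∀ i : Fin k, τ (ρ i.castSucc i.succ) = ρ i.succ i.castSucc)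

set_option synthInstance.maxSize 1000 in
instance (D : ChevalleyDatum) {n : ℕ} (ρ : Fin n → Fin n → ℕ) (η : Fin n → Fin n → ℤ) : Decidable (ThSub D ρ η) := by
  unfold ThSub; infer_instance

set_option synthInstance.maxSize 1000 in
instance (D : ChevalleyDatum) {k : ℕ} (ρ : Fin (k + 1) → Fin (k + 1) → ℕ) (L : List ℕ) (τ : ℕ → ℕ) :
    Decidable (ThTor D ρ L τ) := by
  unfold ThTor; infer_instance

/-- The entries of a table. -/
def thTab {α : Type} [Zero α] (T : List (List α)) {n : ℕ} (a b : Fin n) : α := (T.getD a []).getD b 0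

theorem ThSub_eq_1' : type_of% @ThSub.eq_1 := @ThSub.eq_1
theorem ThTor_eq_1' : type_of% @ThTor.eq_1 := @ThTor.eq_1
theorem thTab_eq_1' : type_of% @thTab.eq_1 := @thTab.eq_1

variable {F G : Type*} [Field F] [Group G] {D : ChevalleyDatum} {R : RootData D} {y : ℕ → F → G}

theorem StRel.stA_of_sub (h : StRel D y) (R : RootData D) {n : ℕ} {ρ : Fin n → Fin n → ℕ} {η : Fin n → Fin n → ℤ}
    (hc : ThSub D ρ η) : StA fun a b t => y (ρ a b) (η a b * t) := by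
  have h0 : ∀ a b c d, a ≠ b → c ≠ d → b ≠ c → a ≠ d → ∀ t u, Commute (y (ρ a b) t) (y (ρ c d) u) :=
    fun a b c d h1 h2 h3 h4 => h.commute R (hc a b h1).1.1 (hc c d h2).1.1 ((hc a b h1).2.2 c d h2 h3 h4).1
      ((hc a b h1).2.2 c d h2 h3 h4).2
  have hη : ∀ a b, a ≠ b → (η a b : F) * η a b = 1 := fun a b e => by
    rw [← Int.cast_mul, (hc a b e).1.2.2.2, Int.cast_one]
  refine ⟨fun a b hab t u => by rw [h.add _ (hc a b hab).1.1, mul_add], fun a b c h1 h2 h3 t u => ?_,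
    fun a b c d h1 h2 h3 h4 t u => h0 a b c d h1 h2 h3 h4 _ _⟩
  obtain ⟨a1, a2, a3⟩ := (hc a b h1).2.1 c h2 h3
  rw [h.comm _ _ (hc b c h2).1.1 (hc a b h1).1.1 a1 a2, ChevalleyDatum.commWord, a3,
    (h0 a c b c h3 h2 h2.symm h3 _ _).eq, mul_assoc (y _ _), mul_assoc (y _ _),
    (h0 a c a b h3 h1 h3.symm h1 _ _).eq]
  simp only [List.map_cons, List.map_nil, word_cons, word_nil, mul_one]
  congr 3
  push_cast
  linear_combination (η a c * t * u * η b c * η b c) * hη a b h1 + (η a c * t * u) * hη b c h2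

theorem Model.thC [Finite G] [Fintype F] (hy : Model R y) (hF : 9 ≤ Fintype.card F)
    (h0 : Subgroup.closure {g | ∃ r t, r < D.nroots ∧ g = y r t} = ⊤) {k : ℕ} {ρ : Fin (k + 2) → Fin (k + 2) → ℕ}
    {η : Fin (k + 2) → Fin (k + 2) → ℤ} (h1 : ThSub D ρ η) {L : List ℕ} {ω : List (Fin D.rank)}
    (h2 : ThTor D (fun a b => ρ a.succ b.succ) L fun r => ω.foldr (fun i s => D.reflectRoot i s) r) : ThC G := by
  obtain ⟨γ, hγ⟩ := exists_gen_unit hF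
  obtain ⟨h2, h3, h4, h5⟩ := h2
  have hη : ∀ {a b}, a ≠ b → (η a b : F) * η a b = 1 := fun e => by
    rw [← Int.cast_mul, (h1 _ _ e).1.2.2.2, Int.cast_one]
  have hn : ∀ {a b}, a ≠ b → ∀ t : F, y (ρ a b) (η a b * t) * y (ρ b a) (η b a * -t⁻¹) * y (ρ a b) (η a b * t) =
      nel D y (ρ a b) (η a b * t) := fun e t => by
    rw [nel, (h1 _ _ e).1.2.1, (h1 _ _ e).1.2.2.1, mul_inv, inv_eq_of_mul_eq_one_right (hη e), mul_neg]
  have hX : ∀ {a b}, a ≠ b → ∀ x ∈ xSub y (ρ a b), ∃ t, y (ρ a b) (η a b * t) = x := fun e x hx => by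
    obtain ⟨t, rfl⟩ := (hy.mem_xSub_iff (h1 _ _ e).1.1).1 hx
    exact ⟨_ * t, by rw [← mul_assoc, hη e, one_mul]⟩
  let φ : (Fin D.rank → ℤ) →ₗ[ℤ] ℤ := dotProductBilin ℤ ℤ fun j => (L.map (D.pairing · (D.simple j))).sum
  have hφ : ∀ {r}, r < D.nroots → φ (R.rc r) = (L.map (D.pairing · r)).sum := fun hr => by
    simp only [φ, dotProductBilin_apply_apply, dotProduct]
    generalize L = L
    induction L with
    | nil => simp
    | cons s L ih => simp only [List.map_cons, List.sum_cons, add_mul, Finset.sum_add_distrib, ih,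
        R.pairing_eq_sum_rc hr]
  have hw : ∀ p ∈ L.map fun r => (r, (γ : F)), p.1 < D.nroots ∧ p.2 ≠ 0 :=
    List.forall_mem_map.2 fun r hr => ⟨(h2 r hr).1, γ.ne_zero⟩
  have hz := TorWord.mem_hSub (y := y) ⟨hw, Subgroup.mem_top _⟩
  have hc := fun r hr t => hy.toStRelW.prod_hel_conj R hw (s := r) hr t
  simp only [← wordChar.eq_1, wordChar_const D γ.ne_zero] at hc
  have hf : ∀ ψ : (Fin D.rank → ℤ) →ₗ[ℤ] ℤ, (∀ v, φ v = 0 → ψ v = 0) →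
      Fpf (spanX (xSub y) {r | r ∈ R.weyl.Φ ∧ 0 < ψ (R.rc r)}) _ := fun ψ h =>
    ⟨(hy.toStRelW.rgd R).H_le_normalizer_spanX (fun _ h => h.1) hz, fun u => hy.eq_one_of_commute ψ hc fun r hr e => by
      have := (h4 r hr).1
      rw [← Units.val_zpow_eq_zpow_val, Ne, Units.val_eq_one]
      exact hγ _ (fun e' => e.ne' (h _ ((hφ hr).trans e'))) (by omega) (by omega)⟩
  have hm := (hy.toStRelW.rgd R).lifts_wprod ω
  have hs := fun {a b : Fin (k + 1)} (h : a ≠ b) => (Fin.succ_injective _).ne h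
  have h6 : ∀ (i : Fin k) {a b : Fin (k + 1)}, a ≠ b →
      ω.foldr (fun i s => D.reflectRoot i s) (ρ i.castSucc.succ i.succ.succ) = ρ a.succ b.succ → ∃ t, t ≠ 0 ∧
        wprod (hy.toStRelW.rgd R).n ω * y (ρ i.castSucc.succ i.succ.succ) (η i.castSucc.succ i.succ.succ * 1) *
          (wprod (hy.toStRelW.rgd R).n ω)⁻¹ = y (ρ a.succ b.succ) (η a.succ b.succ * t) := fun i a b h e => by
    have h6 := hs (Fin.castSucc_lt_succ (i := i)).ne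
    have := hm.conj_X (R.weyl_mem.2 (h1 _ _ h6).1.1) (x_mem_xSub y _ (η i.castSucc.succ i.succ.succ * 1))
    rw [R.wprod_smul _ (h1 _ _ h6).1.1, e] at this
    obtain ⟨t, ht⟩ := hX (hs h) _ this
    refine ⟨t, fun e => ?_, ht.symm⟩
    rw [e, mul_zero, hy.zero (h1 _ _ (hs h)).1.1, eq_comm, conj_eq_one_iff] at ht
    exact left_ne_zero_of_mul_eq_one (hη h6) (by simpa using hy.inj _ (h1 _ _ h6).1.1 _ ht)
  refine hy.faithful.thC (by omega) (fun i => ?_) R.weyl_connected (fun a ha b hb => hy.hSub_comm R ha hb) ?_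
    (hy.toStRel.stA_of_sub R h1) (fun a b h => ?_) (fun a b t h ht => ?_) (fun r hr => ?_) (fun r hr hr' => ?_)
    (fun a b t h => ?_) hz (hf φ fun _ h => h) (hf (-φ) fun _ h => by simpa) ?_ ?_
    (h5.imp (fun h i => h6 i Fin.castSucc_lt_succ.ne (h i)) fun h i => h6 i Fin.castSucc_lt_succ.ne' (h i))
  · have h7 := R.simple_lt i i.2
    exact ⟨_, _, hy.toStRelW.sl2Rel R h7, fun g => (hy.mem_xSub_iff h7).trans (by simp only [eq_comm]),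
      fun g => (hy.mem_xSub_iff (R.neg_lt h7)).trans (by simp only [eq_comm]), hy.inj _ h7,
      fun t ht => hel_mem_hSub y h7 ht⟩
  · rw [← h0]
    simp only [R.weyl_mem]
    exact spanX_xSub y _
  · refine ⟨fun t u => by rw [hy.add _ (h1 a b h).1.1, mul_add], fun t u => by
      rw [hy.add _ (h1 b a h.symm).1.1, mul_add], fun t u ht => eq_mul_of_mul_inv_eq ?_⟩
    rw [r1n, hn h]
    refine ((hy.toStRelW.sl2Rel R (h1 a b h).1.1).conj _ _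
      (mul_ne_zero (left_ne_zero_of_mul_eq_one (hη h)) ht)).trans ?_
    rw [(h1 a b h).1.2.1, (h1 a b h).1.2.2.1, mul_inv, inv_eq_of_mul_eq_one_right (hη h)]
    congr 1
    linear_combination -(t⁻¹ ^ 2 * η a b * u) * hη h
  · have h7 := left_ne_zero_of_mul_eq_one (hη h)
    rw [stW, stW, hn h, hn h, mul_neg_one, ← hy.nel_inv R (h1 a b h).1.1, mul_comm _ t,
      hy.nel_mul_nel_inv R (h1 a b h).1.1 ht h7]
    exact hel_mem_hSub y (h1 a b h).1.1 ht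
  · have h7 := (R.pos_iff r).1 (R.weyl_pos.1 hr)
    exact ((h4 r h7.2).2.1 h7.1).imp (fun h => le_spanX _ ⟨hr.1, hφ h7.2 ▸ h⟩)
      fun ⟨a, b, h, e⟩ => ⟨a, b, h, e ▸ hX (hs h.ne)⟩
  · have h7 := R.weyl_mem.1 hr
    exact ((h4 r h7).2.2 ((R.neg_iff r).1 (R.weyl_not_pos.1 ⟨hr, hr'⟩))).imp
      (fun h => le_spanX _ ⟨hr, neg_pos.2 (hφ h7 ▸ h)⟩) fun ⟨a, b, h, e⟩ => ⟨a, b, h, e ▸ hX (hs h.ne')⟩
  · have h7 := (h1 _ _ (hs h)).1.1
    have h8 := (hφ h7).trans (h3 a b h)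
    have h9 : ∀ ψ : (Fin D.rank → ℤ) →ₗ[ℤ] ℤ, 0 ≤ ψ (R.rc (ρ a.succ b.succ)) → ∀ t, y (ρ a.succ b.succ) t ∈
        Subgroup.normalizer (spanX (xSub y) {r | r ∈ R.weyl.Φ ∧ 0 < ψ (R.rc r)} : Set G) := fun ψ h t =>
      (hy.rcomm R).le_normalizer_level ψ (c := 1) one_pos
        (mem_spanX _ (by exact ⟨R.weyl_mem.2 h7, h⟩) (x_mem_xSub y _ t))
    refine ⟨h9 _ h8.ge _, h9 _ (neg_nonneg.2 h8.le) _, mul_inv_eq_iff_eq_mul.1 ?_⟩
    rw [hc _ h7, h3 a b h, zpow_zero, one_mul]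
  · rw [← Nat.sub_add_cancel Fintype.card_pos, pow_succ, ← Nat.card_eq_fintype_card, ← Nat.card_units,
      hy.pow_eq_one hz, one_mul]
  · clear hc hf hz hw h3 h4 hφ
    clear_value φ
    induction L with
    | nil => simp
    | cons r L ih =>
      rw [List.forall_mem_cons] at h2
      rw [List.map_cons, List.map_cons, List.prod_cons, ← conj_mul, ih h2.2, hy.lifts_conj_hel R hm h2.1.1 γ.ne_zero,
        (R.wprod_smul _ h2.1.1).trans h2.1.2, hy.hel_neg R h2.1.1 γ.ne_zero, ← mul_inv_rev]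
      exact congrArg _ (hy.hSub_comm R (TorWord.mem_hSub ⟨List.forall_mem_map.2 fun s hs =>
        ⟨(h2.2 s hs).1, γ.ne_zero⟩, Subgroup.mem_top _⟩) (hel_mem_hSub y h2.1.1 γ.ne_zero))

theorem thC_G2 [Fintype F] (hF : 9 ≤ Fintype.card F) : ThC (chevG2.group F) :=
  (Core.certG2.model_xG F rootG2).thC hF (Core.certG2.closure_xG_eq_top rootG2) (k := 0)
    (ρ := thTab [[0, 7], [4, 0]])
    (η := thTab [[1, 1], [1, 1]])
    (by decide +kernel) (L := [9, 11])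
    (ω := ([0, 1, 0, 1, 0, 1] : List (Fin 2)))
    (by decide +kernel)

theorem thC_F4 [Fintype F] (hF : 9 ≤ Fintype.card F) : ThC (chevF4.group F) :=
  (Core.certF4.model_xG F rootF4).thC hF (Core.certF4.closure_xG_eq_top rootF4) (k := 2)
    (ρ := thTab [[0, 0, 1, 2], [47, 0, 24, 26], [46, 23, 0, 25], [45, 21, 22, 0]])
    (η := thTab [[1, 1, 1, 1], [1, 1, 1, 1], [1, 1, 1, 1], [1, 1, 1, 1]])
    (by decide +kernel) (L := [44, 44, 40])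
    (ω := ([0, 1, 0, 2, 1, 0, 2, 1, 2, 3, 2, 1, 0, 2, 1, 2, 3, 2, 1, 0, 2, 1, 2, 3] : List (Fin 4)))
    (by decide +kernel)

theorem thC_E6 [Fintype F] (hF : 9 ≤ Fintype.card F) : ThC (chevE6.group F) :=
  (Core.certE6.model_xG F rootE6).thC hF (Core.certE6.closure_xG_eq_top rootE6) (k := 3)
    (ρ := thTab [[0, 56, 57, 58, 59], [15, 0, 42, 43, 44], [14, 29, 0, 39, 40], [13, 28, 32, 0, 37], [12, 27, 31, 34, 0]])
    (η := thTab [[1, 1, -1, 1, -1], [1, 1, 1, -1, 1], [-1, 1, 1, 1, -1], [1, -1, 1, 1, 1], [-1, 1, -1, 1, 1]])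
    (by decide +kernel) (L := [71, 71, 60])
    (ω := ([0, 2, 3, 4, 5, 1, 3, 4, 2, 3, 0, 2, 1, 3, 4, 5, 4, 3, 0, 2, 1, 3, 4, 0, 2, 1, 3, 2, 1, 0] : List (Fin 6)))
    (by decide +kernel)

theorem thC_E7 [Fintype F] (hF : 9 ≤ Fintype.card F) : ThC (chevE7.group F) :=
  (Core.certE7.model_xG F rootE7).thC hF (Core.certE7.closure_xG_eq_top rootE7) (k := 6)
    (ρ := thTab [[0, 0, 1, 2, 3, 4, 5, 6], [125, 0, 93, 94, 95, 96, 97, 98], [124, 32, 0, 73, 74, 75, 76, 77], [123, 31, 52, 0, 69, 70, 71, 72], [122, 30, 51, 56, 0, 66, 67, 68], [121, 29, 50, 55, 59, 0, 64, 65], [120, 28, 49, 54, 58, 61, 0, 63], [119, 27, 48, 53, 57, 60, 62, 0]])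
    (η := thTab [[1, 1, 1, 1, 1, 1, 1, 1], [1, 1, 1, -1, 1, -1, 1, -1], [1, 1, 1, 1, -1, 1, -1, 1], [1, -1, 1, 1, 1, -1, 1, -1], [1, 1, -1, 1, 1, 1, -1, 1], [1, -1, 1, -1, 1, 1, 1, -1], [1, 1, -1, 1, -1, 1, 1, 1], [1, -1, 1, -1, 1, -1, 1, 1]])
    (by decide +kernel) (L := [125, 125, 92, 87, 78])
    (ω := ([0, 1, 2, 0, 3, 1, 2, 0, 3, 2, 4, 3, 1, 2, 0, 3, 2, 4, 3, 1, 5, 4, 3, 1, 2, 0, 3, 2, 4, 3, 1, 5, 4, 3, 2, 0, 6, 5, 4, 3, 1, 2, 0, 3, 2, 4, 3, 1, 5, 4, 3, 2, 0, 6, 5, 4, 3, 1, 2, 3, 4, 5, 6] : List (Fin 7)))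
    (by decide +kernel)

theorem thC_E8 [Fintype F] (hF : 9 ≤ Fintype.card F) : ThC (chevE8.group F) :=
  (Core.certE8.model_xG F rootE8).thC hF (Core.certE8.closure_xG_eq_top rootE8) (k := 7)
    (ρ := thTab [[0, 0, 1, 2, 3, 4, 5, 6, 14], [239, 0, 120, 122, 125, 129, 134, 140, 168], [238, 119, 0, 121, 124, 128, 133, 139, 167], [237, 117, 118, 0, 123, 127, 132, 138, 166], [236, 114, 115, 116, 0, 126, 131, 137, 165], [235, 110, 111, 112, 113, 0, 130, 136, 164], [234, 105, 106, 107, 108, 109, 0, 135, 163], [233, 99, 100, 101, 102, 103, 104, 0, 162], [225, 71, 72, 73, 74, 75, 76, 77, 0]])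
    (η := thTab [[1, 1, 1, 1, 1, 1, 1, 1, 1], [1, 1, 1, 1, 1, 1, 1, 1, 1], [1, 1, 1, 1, 1, 1, 1, 1, 1], [1, 1, 1, 1, 1, 1, 1, 1, 1], [1, 1, 1, 1, 1, 1, 1, 1, 1], [1, 1, 1, 1, 1, 1, 1, 1, 1], [1, 1, 1, 1, 1, 1, 1, 1, 1], [1, 1, 1, 1, 1, 1, 1, 1, 1], [1, 1, 1, 1, 1, 1, 1, 1, 1]])
    (by decide +kernel) (L := [239, 238, 204])
    (ω := ([0, 1, 2, 0, 3, 1, 2, 0, 3, 2, 4, 3, 1, 2, 0, 3, 2, 4, 3, 1, 5, 4, 3, 1, 2, 0, 3, 2, 4, 3, 1, 5, 4, 3, 2, 0, 6, 5, 4, 3, 1, 2, 0, 3, 2, 4, 3, 1, 5, 4, 3, 2, 0, 6, 5, 4, 3, 1, 2, 3, 4, 5, 6, 7, 6, 5, 4, 3, 1, 2, 0, 3, 2, 4, 3, 1, 5, 4, 3, 2, 0, 6, 5, 4, 3, 1, 2, 3, 4, 5, 6, 7, 6, 5, 4, 3, 1, 2, 0, 3, 2, 4, 3, 1, 5, 4, 3, 2, 0, 6, 5, 4, 3, 1, 2, 3, 4, 5, 6, 7] : List (Fin 8)))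
    (by decide +kernel)

end Cfsg.Lib.Chev
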