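import Cfsg.Agent.Chev.SzEmb
import Cfsg.Agent.Chev.TwistF4
import Cfsg.Agent.Chev.CTSt
import Cfsg.Agent.Chev.EvalMod
import Cfsg.Agent.Chev.SuzukiInst

/-!
# The Schur multiplier of ²F₄(q)
-/

set_option autoImplicit false
set_option linter.unusedSectionVars false

namespace Cfsg.Lib.Chev

open Cfsg.Lie Cfsg.Lib.Chev.Core Cfsg.Lib.Known

universe u

theorem CExt.cm_of_conj {E G : Type*} [Group E] [Group G] {π : E →* G} (h : CExt π) {a b c w : G}
    (h1 : Commute c b) (h2 : Commute c w) (h3 : b * a = a * b * w) (h4 : h.cm (c⁻¹ * a * c * a⁻¹) b = 1) :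
    h.cm c w = 1 := by
  have h5 : Commute (c⁻¹ * a * c * a⁻¹) b := commutatorElement_eq_one_iff_commute.1
    (by rw [← h.map_cm, h4, map_one])
  have h6 := h.cm_conj (h1.mul_right h2) a
  rw [h.cm_mul_right h2, show a * (b * w) * a⁻¹ = b by rw [← mul_assoc, ← h3, mul_inv_cancel_right],
    show a * c * a⁻¹ = c * (c⁻¹ * a * c * a⁻¹) by group, h.cm_mul_left h5, h4] at h6
  exact (mul_left_cancel h6).symm

theorem GRD.exists_lift_of_hom {W A ι E G S : Type*} [Group W] [MulAction W A] [Group E] [Group G] [Group S]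
    {C : CoxSys W A ι} {Y : GRD C G} {π : E →* G} (h : CExt π) {i : ι} {j : S →* G} (hj : Function.Injective j)
    (hL : j.range = Y.L i) (hS : commutator S = ⊤) {s : S →* E} (hs : ∀ g, π (s g) = j g) :
    ∃ Z : Subgroup E, Z.map π = Y.X (C.simple i) ∧ (∀ a ∈ Z, π a = 1 → a = 1) ∧
      ∀ e, π e ∈ Y.H → ∀ a ∈ Z, e * a * e⁻¹ ∈ Z := by
  have h1 : s.range = ⁅s.range, s.range⁆ := by rw [← map_commutator_eq, hS, MonoidHom.range_eq_map]
  have h2 : ⁅(Y.L i).comap π, (Y.L i).comap π⁆ = s.range := by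
    refine le_antisymm ((commutator_comap_le π h.cen _ _ ?_).trans h1.ge) (h1.le.trans
      (Subgroup.commutator_mono ?_ ?_)) <;> rw [← hL] <;> rintro _ ⟨g, rfl⟩
    exacts [⟨_, ⟨g, rfl⟩, hs g⟩, ⟨g, (hs g).symm⟩, ⟨g, (hs g).symm⟩]
  refine ⟨s.range ⊓ (Y.X (C.simple i)).comap π, le_antisymm (Subgroup.map_le_iff_le_comap.2 inf_le_right)
    fun g hg => ?_, ?_, fun e he a ha => ⟨?_, ?_⟩⟩
  · obtain ⟨g, rfl⟩ := hL.ge (Subgroup.mem_sup_left hg)
    exact ⟨_, ⟨⟨g, rfl⟩, Subgroup.mem_comap.2 ((hs g).symm ▸ hg)⟩, hs g⟩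
  · rintro _ ⟨⟨g, rfl⟩, -⟩ e
    rw [hj (show j g = j 1 by rw [← hs, e, map_one]), map_one]
  · have h3 : ((Y.L i).comap π).map (MulAut.conj e).toMonoidHom ≤ (Y.L i).comap π := by
      rintro _ ⟨a, ha, rfl⟩
      simpa using GRD.conj_L_of_mem_H he ha
    rw [← h2] at ha ⊢
    exact Subgroup.commutator_mono h3 h3 ((Subgroup.map_commutator ..).le ⟨a, ha.1, rfl⟩)
  · simpa using Y.conj he (C.simple_mem i) ha.2

theorem StEnd.mem_G1_of_pos {F G : Type*} [Field F] [Group G] {D : ChevalleyDatum} {R : RootData D} {y : ℕ → F → G}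
    {hy : Model R y} {P : RootSubst R F} (E : StEnd hy P) (C : Cert D) (Kc : Classes P G) {w : List (ℕ × F)}
    (hw : ∀ r ∈ w.map Prod.fst, D.IsPosRoot r) (h : word (P.app y) w = word y w) : word y w ∈ (E.twist C Kc).G1 :=
  have hw := List.forall_mem_map.1 hw
  (E.twist C Kc).U_inf_le_G1 hy.faithful ⟨word_mem (hy.toStRelW.rgd R).U fun p hp =>
    (hy.toStRelW.rgd R).X_le_U (R.weyl_pos.2 (hw p hp)) (x_mem_xSub y _ _), word_mem (hy.toStRelW.rgd R).G0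
      fun p hp => hy.x_mem_G0 (hw p hp).1 _, (E.map_word fun p hp => (hw p hp).1).trans h⟩

/-- Representatives of the orbits. -/
def repTF4 : Fin 2 → Fin 4 := ![0, 1]

/-- The character of a torus word is non-trivial. -/
def goodF4 (γ r : ℕ) : Bool :=
  (2 * chevF4.pairing γ r ^ 2 - (isoF4.e γ * chevF4.pairing (isoF4.σ γ) r) ^ 2).natAbs ∈ [1, 2, 3, 4, 5, 6]

theorem repTF4_eq_1' : type_of% @repTF4.eq_1 := @repTF4.eq_1
theorem goodF4_eq_1' : type_of% @goodF4.eq_1 := @goodF4.eq_1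

theorem sepF4 : ∀ k : Fin 2, ∀ r, r < 48 → (∀ i : Fin 4, i ∉ orbF4 (repTF4 k) →
    (chevF4.coroot.getD r #[]).getD i 0 = 0) ∨ ∃ γ, γ < 48 ∧
      ∃ a ∈ [(r, chevF4.simple (repTF4 k)), (chevF4.simple (repTF4 k), r)],
        chevF4.pairing γ a.2 = 0 ∧ chevF4.pairing (isoF4.σ γ) a.2 = 0 ∧ goodF4 γ a.1 = true := by
  decide +kernel

variable {K : Type u} [Field K] [CharP K 2] (θ : K →+* K) (hθ : ∀ t, θ (θ t) ^ 2 = t)

theorem rels_F4 (t u : K) : let x := xGL chevF4 K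
    x 14 t * x 23 u * (x 35 1 * x 31 1 * x 40 1) = x 35 1 * x 31 1 * x 40 1 * (x 14 t * x 23 u) * (x 28 t * x 30 u) ∧
    x 31 1 * x 35 1 * x 46 1 = x 35 1 * x 31 1 * x 40 1 ∧
    x 35 1 * x 31 1 * x 40 1 * (x 27 1 * x 25 1 * x 30 1) =
      x 27 1 * x 25 1 * x 30 1 * (x 37 1 * x 32 1) * (x 35 1 * x 31 1 * x 40 1) ∧
    Commute (x 27 1 * x 25 1 * x 30 1) (x 14 t * x 23 u) ∧ Commute (x 37 1 * x 32 1) (x 14 t * x 23 u) := by
  have key := fun (w₁ w₂ : List (ℕ × ℕ × ℕ)) h => Core.certF4.word_eq_of_mod (p := 2) t u rootF4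
    (w₁ := w₁.map fun a => (a.1, [(a.2.1, a.2.2, 1)])) (w₂ := w₂.map fun a => (a.1, [(a.2.1, a.2.2, 1)])) h
  refine ⟨?_, ?_, ?_, ?_, ?_⟩
  · simpa [mul_assoc] using key [(14, 1, 0), (23, 0, 1), (35, 0, 0), (31, 0, 0), (40, 0, 0)]
      [(35, 0, 0), (31, 0, 0), (40, 0, 0), (14, 1, 0), (23, 0, 1), (28, 1, 0), (30, 0, 1)] (by decide +kernel)
  · simpa [mul_assoc] using key [(31, 0, 0), (35, 0, 0), (46, 0, 0)] [(35, 0, 0), (31, 0, 0), (40, 0, 0)]
      (by decide +kernel)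
  · simpa [mul_assoc] using key [(35, 0, 0), (31, 0, 0), (40, 0, 0), (27, 0, 0), (25, 0, 0), (30, 0, 0)]
      [(27, 0, 0), (25, 0, 0), (30, 0, 0), (37, 0, 0), (32, 0, 0), (35, 0, 0), (31, 0, 0), (40, 0, 0)]
      (by decide +kernel)
  · simpa [mul_assoc, commute_iff_eq] using key [(27, 0, 0), (25, 0, 0), (30, 0, 0), (14, 1, 0), (23, 0, 1)]
      [(14, 1, 0), (23, 0, 1), (27, 0, 0), (25, 0, 0), (30, 0, 0)] (by decide +kernel)
  · simpa [mul_assoc, commute_iff_eq] using key [(37, 0, 0), (32, 0, 0), (14, 1, 0), (23, 0, 1)]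
      [(14, 1, 0), (23, 0, 1), (37, 0, 0), (32, 0, 0)] (by decide +kernel)

theorem repTF4_surj (i : Fin 4) : ∃ k, i ∈ (subF4 θ).S.orb (repTF4 k) := by
  simp only [subF4_orb]
  exact (by decide : ∀ i : Fin 4, ∃ k, i ∈ orbF4 (repTF4 k)) i

theorem parF4_0 (G : Type*) [Group G] : (clF4 θ hθ G).Par (0 : Fin 4) fun k => if k = 33 then θ else .id K :=
  ⟨(by decide +kernel : (listF4 0).Pairwise fun r s => orthChk chevF4 r s = true), fun _ => Iff.rfl⟩

include hθ in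
theorem zpow_eq_one_F4 {t : K} (ht : t ≠ 0) {a b : ℤ} (h : t ^ a * θ t ^ b = 1) : t ^ (2 * a ^ 2 - b ^ 2) = 1 := by
  have h1 := congrArg ((frobenius K 2).comp θ) h
  rw [map_mul, map_zpow₀, map_zpow₀, map_one, RingHom.comp_apply, RingHom.comp_apply, frobenius_def, frobenius_def,
    hθ, ← zpow_natCast, ← zpow_mul] at h1
  have h2 : t ^ (2 * a ^ 2 - b ^ 2) * (θ t ^ (((2 : ℕ) : ℤ) * a) * t ^ b) ^ b = (t ^ a * θ t ^ b) ^ (2 * a) := by
    simp only [mul_zpow, ← zpow_mul]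
    rw [mul_left_comm, ← zpow_add₀ ht, mul_comm]
    congr 2 <;> push_cast <;> ring
  simpa only [h, h1, one_zpow, mul_one] using h2

include hθ in
theorem uni_F4 (G : Type*) [Group G] : (clF4 θ hθ G).Uni := fun c hc => by
  have h0 := (mem_fixT_F4 θ).1 hc
  have h1 : ∀ (i : Fin 4) r, chevF4.simple i = r → chr c (rootF4.rc r) = c i := by
    rintro i _ rfl
    exact (congrArg _ (rootF4.rc_simple i)).trans (chr_single c i)
  have h2 : ∀ (k r : ℕ), 1 ≤ k ∧ chevF4.chainRoot 27 25 k = some r →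
      chr c (rootF4.rc r) = c (2 : Fin 4) * c (1 : Fin 4) ^ k := fun k r h => by
    rw [((rootF4.chainRoot_iff 27 25 k r (by decide +kernel) (by decide +kernel) h.1).1 h.2).2.2.2, chr_add, chr_smul,
      h1 2 25 (by decide +kernel), h1 1 27 (by decide +kernel), zpow_natCast]
  have h3 : ∀ (u : Kˣ) (t : Kˣ) (a b : ℕ), (u : K) = t ^ a * θ t ^ b → (2 * (a : ℤ) ^ 2 - b ^ 2).natAbs ∈ [1, 2] →
      (u = 1 ↔ t = 1) := fun u t a b e h => by
    refine ⟨fun h1 => ?_, fun h1 => Units.ext (by simp [e, h1])⟩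
    have := zpow_eq_one_F4 θ hθ t.ne_zero (a := a) (b := b) (by simp [← e, h1])
    rw [← Units.val_zpow_eq_zpow_val, Units.val_eq_one, ← pow_natAbs_eq_one] at this
    simp only [List.mem_cons, List.not_mem_nil, or_false] at h
    rcases h with h | h <;> rw [h] at this
    · rwa [pow_one] at this
    · exact Units.ext ((sq_eq_one_iff.1 (congrArg Units.val this)).elim id fun e => e.trans (CharTwo.neg_eq _))
  have h4 : (c (1 : Fin 4) : K) = θ (c (2 : Fin 4)) := (h0 2).trans (pow_one _)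
  have h5 : ∀ r ∈ listF4 0, (chr c (rootF4.rc r) = 1 ↔ c (3 : Fin 4) = 1) := by
    simp only [listF4, Matrix.cons_val_zero, List.forall_mem_cons]
    rw [h1 0 33 (by decide +kernel), h1 3 24 (by decide +kernel)]
    exact ⟨h3 _ _ 0 1 (by simpa [piF4] using h0 3) (by decide), Iff.rfl, by simp⟩
  have h6 : ∀ r ∈ listF4 1, (chr c (rootF4.rc r) = 1 ↔ c (2 : Fin 4) = 1) := by
    simp only [listF4, Matrix.cons_val_one, Matrix.cons_val_zero, List.forall_mem_cons]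
    rw [h1 1 27 (by decide +kernel), h1 2 25 (by decide +kernel), h2 1 28 (by decide +kernel),
      h2 2 30 (by decide +kernel)]
    exact ⟨h3 _ _ 0 1 (by simpa using h4) (by decide), Iff.rfl, h3 _ _ 1 1 (by simp [h4]) (by decide),
      h3 _ _ 1 2 (by simp [h4]) (by decide), by simp⟩
  exact forall_fin4 (fun r hr s hs e => (h5 s hs).2 ((h5 r hr).1 e)) (fun r hr s hs e => (h6 s hs).2 ((h6 r hr).1 e))
    (fun r hr s hs e => (h6 s hs).2 ((h6 r hr).1 e)) fun r hr s hs e => (h5 s hs).2 ((h5 r hr).1 e)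

variable [Fintype K]

theorem torWord_F4 {γ : ℕ} (h1 : γ < 48) {t : K} (ht : t ≠ 0) :
    TorWord chevF4 (xGL chevF4 K) (twF4' θ hθ).G1 [(γ, t), (isoF4.σ γ, θ t ^ isoF4.e γ)] := by
  have h3 : ∀ {r}, r < 48 → (subF4 θ).S.ρ r = isoF4.σ r := isoF4.sym_ρ rootF4
  have h4 : isoF4.σ γ < 48 := isoF4.lt γ h1
  have h5 : ∀ r t, (subF4 θ).g r t = θ t ^ isoF4.e r := isoF4.subst_g rootF4 θ
  refine (endF4 θ hθ).torWord_of_perm _ _ ((Core.certF4.model K rootF4).hHom_injective_of_cartan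
    (cartanSNF_F4.injective Kˣ fun i a e => by
      rwa [(by decide : ∀ i : Fin 4, [1, 1, 1, 1].getD i 1 = 1) i, pow_one] at e))
    (fun c hc => ((H_inf_twF4 θ hθ).ge ⟨((Core.certF4.model K rootF4).toStRelN.range_hHom rootF4).le ⟨c, rfl⟩,
      (endF4 θ hθ).hHom_mem_F _ _ hc⟩).2) (by simpa [ht] using ⟨h1, h4⟩) ?_
  simpa [h3 h1, h3 h4, h5, isoF4.invol γ h1, ← pow_mul, isoF4.e_mul γ h1, hθ] using List.Perm.swap ..

include hθ in
theorem exists_char_F4 (h8 : 8 ≤ Fintype.card K) {γ r : ℕ} (h : goodF4 γ r = true) :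
    ∃ t : K, t ≠ 0 ∧ wordChar chevF4 [(γ, t), (isoF4.σ γ, θ t ^ isoF4.e γ)] r ≠ 1 := by
  simp only [goodF4, List.mem_cons, List.not_mem_nil, or_false, decide_eq_true_eq] at h
  refine (exists_pow_ne_one (K := K) (d := Int.natAbs _) (by omega) (by omega)).imp fun t ht => ⟨ht.1, fun e =>
    zpow_ne_one_of_natAbs ht.2 (zpow_eq_one_F4 θ hθ ht.1 (a := chevF4.pairing γ r)
      (b := isoF4.e γ * chevF4.pairing (isoF4.σ γ) r) ?_)⟩
  simpa [wordChar, zpow_mul] using e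

/-- The root datum of ²F₄. -/
noncomputable abbrev grdF4 := (endF4 θ hθ).grd Core.certF4 (clF4 θ hθ _) rfl repTF4 (repTF4_surj θ)

theorem grdF4_eq_1' : type_of% @grdF4.eq_1 := @grdF4.eq_1

variable {τ : Tw K} (hτ : ∀ t, τ.θ t = θ t ^ 2) {S : Type u} [Group S] (M : SzModel τ S)
include hτ

theorem exists_sz_F4 : ∃ j : S →* (twF4' θ hθ).G1, Function.Injective j ∧ j.range = (grdF4 θ hθ).L 1 ∧
    ∀ a b, (j (M.T a b) : GL _ K) = word (xGL chevF4 K) (τ.word 27 25 28 30 a b) := by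
  have hy := Core.certF4.model K rootF4
  obtain ⟨j, hj⟩ := M.exists_hom (hy.toStRelN.subMod rootF4 Core.certB2 rootB2 2
    (σ := fun r => [17, 19, 20, 22, 25, 27, 28, 30].getD r 0) (by decide +kernel))
  have h1 : ∀ w, w ∈ wordsF4b θ ↔ ∃ a b, w = τ.word 27 25 28 30 a b := fun w => ⟨by
    rintro ⟨t, u, rfl⟩
    exact ⟨θ t, θ t * t + u, by
      simp [Tw.word, hτ, hθ, CharTwo.add_sq, mul_pow, mul_comm, CharTwo.add_cancel_left]⟩, by
    rintro ⟨a, b, rfl⟩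
    exact ⟨θ a ^ 2, a * θ a ^ 2 + b, by
      simp [Tw.word, hτ, hθ, CharTwo.add_sq, mul_pow, mul_comm, CharTwo.add_cancel_left]⟩⟩
  have h2 : ∀ a b, chevF4.negWord (τ.word 27 25 28 30 a b) = τ.word 20 22 19 17 a b := fun a b => by
    simp [ChevalleyDatum.negWord, Tw.word, CharTwo.neg_eq, show chevF4.negIdx[27]?.getD 0 = 20 by decide +kernel,
      show chevF4.negIdx[25]?.getD 0 = 22 by decide +kernel, show chevF4.negIdx[28]?.getD 0 = 19 by decide +kernel,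
      show chevF4.negIdx[30]?.getD 0 = 17 by decide +kernel]
  have h3 : ∀ a b, j (M.T a b) = word (xGL chevF4 K) (τ.word 27 25 28 30 a b) := fun a b => (hj a b).1
  have h4 : ∀ a b, j (M.w * M.T a b * M.w) = word (xGL chevF4 K) (chevF4.negWord (τ.word 27 25 28 30 a b)) :=
    fun a b => by rw [h2]; exact (hj a b).2
  have h5 := M.eq_top_of_T (H := (((grdF4 θ hθ).L 1).map (Subgroup.subtype _)).comap j)
    (fun a b => ⟨⟨_, (endF4 θ hθ).word_mem_G1 _ _ (i := (1 : Fin 4)) ((h1 _).2 ⟨a, b, rfl⟩)⟩, Subgroup.mem_sup_left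
      (((endF4 θ hθ).mem_grd_simple ..).2 ⟨_, (h1 _).2 ⟨a, b, rfl⟩, rfl⟩), (h3 a b).symm⟩)
    fun a b => ⟨⟨_, (endF4 θ hθ).negWord_mem_G1 _ _ (i := (1 : Fin 4)) ((h1 _).2 ⟨a, b, rfl⟩)⟩, Subgroup.mem_sup_right
      (((endF4 θ hθ).mem_grd_neg ..).2 ⟨_, (h1 _).2 ⟨a, b, rfl⟩, rfl⟩), (h4 a b).symm⟩
  refine ⟨j.codRestrict _ fun g => Subgroup.map_subtype_le _ (h5.ge trivial), ?_, le_antisymm ?_ (sup_le ?_ ?_), h3⟩
  · have := M.isSimpleGroup
    refine (MonoidHom.ker_eq_bot_iff _).1 ((MonoidHom.normal_ker _).eq_bot_or_eq_top.resolve_right fun h => ?_)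
    exact one_ne_zero (hy.posInj.eq_zero hy.toStRel (w := τ.word 27 25 28 30 1 0) (by decide : [27, 25, 28, 30].Nodup)
      (by simpa [Tw.word] using (by decide +kernel : ∀ r ∈ [27, 25, 28, 30], chevF4.IsPosRoot r))
      ((h3 1 0).symm.trans (congrArg Subtype.val (h.ge trivial))) (27, 1) (by simp [Tw.word]))
  · rintro _ ⟨g, rfl⟩
    obtain ⟨a, ha, e⟩ := h5.ge (Subgroup.mem_top g)
    rwa [← show a = j.codRestrict _ _ g from Subtype.ext e]
  · intro g hg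
    obtain ⟨w, hw, e⟩ := ((endF4 θ hθ).mem_grd_simple ..).1 hg
    obtain ⟨a, b, rfl⟩ := (h1 w).1 hw
    exact ⟨_, Subtype.ext ((h3 a b).trans e.symm)⟩
  · intro g hg
    obtain ⟨w, hw, e⟩ := ((endF4 θ hθ).mem_grd_neg ..).1 hg
    obtain ⟨a, b, rfl⟩ := (h1 w).1 hw
    exact ⟨_, Subtype.ext ((h4 a b).trans e.symm)⟩

variable (h8 : 8 ≤ Fintype.card K) {Δ : Type u} [Group Δ] [Finite Δ] {π : Δ →* (twF4' θ hθ).G1}
include M h8

theorem exists_section_F4 (h : CExt π) : ∃ j : S →* (twF4' θ hθ).G1, Function.Injective j ∧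
    j.range = (grdF4 θ hθ).L 1 ∧ ∃ s : S →* Δ, ∀ g, π (s g) = j g := by
  obtain ⟨j, h1, h2, h3⟩ := exists_sz_F4 θ hθ hτ M
  refine ⟨j, h1, h2, M.exists_section h j fun b => ?_⟩
  have hy := Core.certF4.model K rootF4
  have e1 : (j (M.T 1 0) : GL _ K) = xGL chevF4 K 27 1 * xGL chevF4 K 25 1 * xGL chevF4 K 30 1 := by
    simp [h3, Tw.word, hy.toStRel.zero (show 28 < chevF4.nroots by decide +kernel), mul_assoc]
  have e2 : (j (M.T 0 b) : GL _ K) = xGL chevF4 K 28 (θ (τ.θ b)) * xGL chevF4 K 30 (τ.θ b) := by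
    simp [h3, Tw.word, hy.toStRel.zero (show 27 < chevF4.nroots by decide +kernel), hτ, hθ,
      hy.toStRel.zero (show 25 < chevF4.nroots by decide +kernel)]
  obtain ⟨z, e3⟩ : ∃ z : K → (twF4' θ hθ).G1, ∀ t, (z t : GL _ K) = xGL chevF4 K 14 (θ t) * xGL chevF4 K 23 t :=
    ⟨fun t => ⟨_, (endF4 θ hθ).negWord_mem_G1 _ _ (i := (0 : Fin 4)) (w := [(33, θ t), (24, t)]) ⟨t, rfl⟩⟩, fun t => by
      simp [ChevalleyDatum.negWord, CharTwo.neg_eq, show chevF4.negIdx[33]?.getD 0 = 14 by decide +kernel,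
        show chevF4.negIdx[24]?.getD 0 = 23 by decide +kernel]⟩
  obtain ⟨a, e4⟩ : ∃ a : (twF4' θ hθ).G1, (a : GL _ K) = xGL chevF4 K 35 1 * xGL chevF4 K 31 1 * xGL chevF4 K 40 1 :=
    ⟨⟨_, (endF4 θ hθ).mem_G1_of_pos _ _ (w := [(35, 1), (31, 1), (40, 1)])
      (by decide +kernel : ∀ r ∈ [35, 31, 40], chevF4.IsPosRoot r) (by
      simpa [subF4_app θ _ (r := 35) (s := 31) (e := 2) (by decide +kernel), subF4_app θ _ (r := 31) (s := 35) (e := 1)
        (by decide +kernel), subF4_app θ _ (r := 40) (s := 46) (e := 2) (by decide +kernel), mul_assoc]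
        using (rels_F4 (K := K) 0 0).2.1)⟩, by simp [mul_assoc]⟩
  have e5 : (((j (M.T 1 0))⁻¹ * a * j (M.T 1 0) * a⁻¹ : (twF4' θ hθ).G1) : GL _ K) =
      xGL chevF4 K 37 1 * xGL chevF4 K 32 1 := by
    simp only [Subgroup.coe_mul, Subgroup.coe_inv, e1, e4]
    rw [mul_assoc _⁻¹, (rels_F4 (K := K) 0 0).2.2.1]
    group
  obtain ⟨t, h5, h6⟩ := exists_pow_ne_one (K := K) two_ne_zero (by omega)
  have h7 := torWord_F4 θ hθ (γ := 38) (by decide) h5
  have h9 := fun r hr => hy.toStRelW.prod_hel_conj rootF4 h7.1 (s := r) hr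
  have h10 : isoF4.σ 38 = 43 ∧ isoF4.e 38 = 2 ∧ chevF4.pairing 38 14 = 0 ∧ chevF4.pairing 43 14 = -1 ∧
      chevF4.pairing 38 23 = -2 ∧ chevF4.pairing 43 23 = 0 ∧ chevF4.pairing 38 37 = 0 ∧ chevF4.pairing 43 37 = 0 ∧
      chevF4.pairing 38 32 = 0 ∧ chevF4.pairing 43 32 = 0 := by decide +kernel
  refine h.cm_of_conj (a := a) (b := z (τ.θ b)) (Subtype.ext ?_) ((SzMult.commute_T_zero M 1 0 b).map j)
    (Subtype.ext ?_) (h.cm_eq_one_of_conj (x := z) (fun t u => Subtype.ext ?_) (g := ⟨_, h7.2⟩) (inv_ne_one.2 h6)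
      (fun u => Subtype.ext ?_) (fun u => Subtype.ext ?_) (Subtype.ext ?_) _)
  · simpa only [Subgroup.coe_mul, e1, e3] using (rels_F4 _ _).2.2.2.1.eq
  · simpa only [Subgroup.coe_mul, e2, e3, e4] using (rels_F4 _ _).1
  · simp only [Subgroup.coe_mul, e3]
    rw [(hy.toStRel.commute_of_commMod (p := 2) rootF4 (by decide +kernel) (by decide +kernel)
      (by decide +kernel) _ _).mul_mul_mul_comm, hy.add _ (by decide +kernel), hy.add _ (by decide +kernel), map_add]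
  · rw [Subgroup.coe_mul, Subgroup.coe_mul, Subgroup.coe_inv, e3, e3, ← conj_mul, h9 _ (by decide +kernel),
      h9 _ (by decide +kernel)]
    simp [h10]
  · simpa only [Subgroup.coe_mul, e5, e3] using (rels_F4 _ _).2.2.2.2.eq
  · rw [Subgroup.coe_mul, Subgroup.coe_mul, Subgroup.coe_inv, e5, ← conj_mul, h9 _ (by decide +kernel),
      h9 _ (by decide +kernel)]
    simp [h10]

variable (hπ : IsStemExtension π)
include hπ

theorem ker_F4_of_pow (hp : ∀ z, π z = 1 → z ^ 2 = 1) : π.ker = ⊥ := by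
  have h := CExt.of_stem hπ
  have hU := uni_F4 θ hθ (GL chevF4.Idx K)
  refine (endF4 θ hθ).ker_eq_bot_of_pow Core.certF4 _ rfl repTF4 (repTF4_surj θ) 2 hπ hp hU (fun k => ?_)
    fun k r hr => ?_
  · fin_cases k
    · obtain ⟨x, z, h1, -⟩ := (endF4 θ hθ).exists_A1 Core.certF4 _ rfl repTF4 (repTF4_surj θ) (k := 0) (parF4_0 θ hθ _)
      obtain ⟨t, ht, e⟩ := exists_char_F4 θ hθ h8 (γ := 24) (r := chevF4.simple 0) (by decide +kernel)
      refine (endF4 θ hθ).exists_lift_of_dir Core.certF4 _ rfl repTF4 _ hU h (rootF4.simple_lt 0 (by decide))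
        (h1.dir_of_sq h ?_ ?_) ⟨_, torWord_F4 θ hθ (by decide) ht, e⟩ <;> rw [Nat.card_eq_fintype_card]
      · omega
      · obtain ⟨n, -, hn⟩ := FiniteField.card K 2
        exact fun e => absurd ((dvd_pow_self 2 n.ne_zero).trans (hn.symm.trans e).dvd) (by decide)
    · obtain ⟨j, h1, h2, s, hs⟩ := exists_section_F4 θ hθ hτ M h8 h
      exact GRD.exists_lift_of_hom h h1 h2 M.commutator_eq_top hs
  · refine (sepF4 k r hr).imp (fun h => subF4_orb θ _ ▸ rootF4.inJ_of_coroot hr h) ?_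
    rintro ⟨γ, h1, a, ha, h3, h4, h5⟩
    obtain ⟨t, ht, e⟩ := exists_char_F4 θ hθ h8 h5
    have e' : wordChar chevF4 [(γ, t), (isoF4.σ γ, θ t ^ isoF4.e γ)] a.2 = 1 := by simp [wordChar, h3, h4]
    refine ⟨_, torWord_F4 θ hθ h1 ht, ?_⟩
    simp only [List.mem_cons, List.not_mem_nil, or_false] at ha
    rcases ha with rfl | rfl
    exacts [.inl ⟨e, e'⟩, .inr ⟨e, e'⟩]

theorem ker_F4_of_coprime (hc : (Nat.card π.ker).Coprime 2) : π.ker = ⊥ := by
  have hy := Core.certF4.model K rootF4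
  have hY : (grdF4 θ hθ).Faithful := RGD.Twist.grd_faithful ..
  have hX := (endF4 θ hθ).grd_isPGroup Core.certF4 (clF4 θ hθ _) rfl repTF4 (repTF4_surj θ) 2
  obtain ⟨l, hl⟩ := (CExt.of_stem hπ).exists_plift hc
  refine eq_bot_iff.2 (hl.ker_le hX hπ hc hY (RGD.Twist.grd_span ..) (Fin.forall_fin_two.2 ⟨?_, fun a ha _ h => ?_⟩))
  · obtain ⟨x, z, h1, -, h2⟩ :=
      (endF4 θ hθ).exists_A1 Core.certF4 _ rfl repTF4 (repTF4_surj θ) (k := 0) (parF4_0 θ hθ _)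
    refine h1.node hY hl fun t ht h3 => ?_
    have h4 : ∀ w : List (ℕ × K), (∀ r ∈ w.map Prod.fst, r ∈ [27, 25, 28, 30, 20, 22, 19, 17]) →
        word (xGL chevF4 K) w ∈ Subgroup.centralizer {xGL chevF4 K 47 1} := fun w hw => word_mem _ fun p hp => by
      rintro _ rfl
      have := (by decide +kernel : ∀ r ∈ [27, 25, 28, 30, 20, 22, 19, 17], r < chevF4.nroots ∧
        commMod chevF4 2 47 r = true) _ (hw _ (List.mem_map_of_mem hp))
      exact hy.toStRel.commute_of_commMod rootF4 (by decide +kernel) this.1 this.2 _ _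
    have h5 : (grdF4 θ hθ).L 1 ≤ (Subgroup.centralizer {xGL chevF4 K 47 1}).subgroupOf _ := by
      refine sup_le (fun g hg => ?_) fun g hg => ?_
      · obtain ⟨_, ⟨t, u, rfl⟩, e⟩ := ((endF4 θ hθ).mem_grd_simple ..).1 hg
        exact Subgroup.mem_subgroupOf.2 (e ▸ h4 _ (by simp))
      · obtain ⟨_, ⟨t, u, rfl⟩, e⟩ := ((endF4 θ hθ).mem_grd_neg ..).1 hg
        exact Subgroup.mem_subgroupOf.2 (e ▸ h4 _ (by decide +kernel : ∀ r ∈ [chevF4.neg 27, chevF4.neg 25,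
          chevF4.neg 28, chevF4.neg 30], _))
    have h6 := (iSup₂_le fun j hj => by
      obtain rfl : j = 1 := by omega
      exact inf_le_right.trans h5 : _ ≤ (Subgroup.centralizer {xGL chevF4 K 47 1}).subgroupOf _) h3 _ rfl
    have h7 := hy.toStRelW.prod_hel_conj rootF4 (w := [(33, θ t), (24, t)]) (s := 47)
      (by simp [ht, show chevF4.nroots = 48 by decide +kernel]) (by decide +kernel) 1
    rw [Subgroup.subtype_apply, h2] at h6
    simpa [show chevF4.pairing 33 47 = 0 ∧ chevF4.pairing 24 47 = 1 by decide +kernel] using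
      hy.injective (r := 47) (by decide +kernel) (h7.symm.trans (mul_inv_eq_of_eq_mul h6.symm))
  · obtain ⟨j, h1, h2, s, hs⟩ := exists_section_F4 θ hθ hτ M h8 (CExt.of_stem hπ)
    have h3 : π a = 1 := (iSup₂_le fun j hj => absurd hj (by omega) : _ ≤ (⊥ : Subgroup _)) h
    exact ⟨hl.node_of_hom j h1 s hs (hX _ (CoxSys.simple_mem _ _)) (hX _ (CoxSys.smul_mem _ _ (CoxSys.simple_mem _ _)))
      (h2 ▸ le_sup_left) (h2 ▸ le_sup_right) a ha h3, h3⟩

omit hτ h8 hπ M [CharP K 2] in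
theorem multiplier_twistedF4 {m : ℕ} (hm : 1 ≤ m) (hK : Fintype.card K = 2 ^ (2 * m + 1)) :
    HasCyclicSchurMultiplier (twistedF4 K (2 ^ m)) 1 := by
  obtain ⟨_, θ, hθ, h1, h2⟩ := exists_twF4 hK
  have h3 : ∀ t, (Tw.ofCard hK).θ t = θ t ^ 2 := fun t => by rw [Tw.ofCard_θ, h1, ← pow_mul, pow_succ]
  have h8 : 2 ^ 3 ≤ Fintype.card K := hK ▸ Nat.pow_le_pow_right two_pos (by omega)
  exact h2 ▸ hasMultiplier_one_of_cases 2 (fun _ _ _ _ => ker_F4_of_pow θ hθ h3 (szModel hm hK) h8)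
    fun _ _ _ _ => ker_F4_of_coprime θ hθ h3 (szModel hm hK) h8

end Cfsg.Lib.Chev
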